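import Cfsg.Agent.H28.Cov

/-! The presentation of `Fi24` on the diagram `Y542`. -/
set_option maxRecDepth 100000
set_option Elab.async false
namespace H28
open Cfsg H27 MulAction
noncomputable section
universe u
def r79 : List (List Nat) := f24R.take 79
theorem p24_i2 : Impl.{u} 12 r79 (expL [[0], [1], [2], [3], [4], [5], [6], [7], [10], [11]] (extR [] 10 y522_R)) := Impl.refl.trans (impl_of_sub (R := r79) [0, 1, 2, 3, 4, 5, 6, 7, 10, 11, 12, 13, 14, 15, 16, 17, 18, 21, 22, 23, 24, 25, 26, 27, 28, 31, 32, 33, 34, 35, 36, 37, 40, 41, 42, 43, 44, 45, 48, 49, 50, 51, 52, 55, 56, 57, 58, 61, 62, 63, 66, 67, 70, 71, 77, 78] (by decide +kernel))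
theorem p24_p1 : Impl.{u} 12 r79 (expL [[0], [1], [2], [3], [4], [5], [6], [7], [10], [11]] f24_p1W) := (y522_univ.par (k := 10) (k' := 10) (ds := []) 11 f24_p1E (by decide +kernel)).sub rfl p24_i2
theorem p24_i3 : Impl.{u} 12 r79 (expL f24K rK) := (Impl.refl.cat p24_p1).trans (impl_of_sub (R := (catL r79 (expL [[0], [1], [2], [3], [4], [5], [6], [7], [10], [11]] f24_p1W))) [0, 2, 3, 4, 5, 6, 7, 8, 9, 10, 11, 13, 14, 15, 16, 17, 18, 19, 20, 21, 22, 33, 34, 35, 36, 37, 38, 39, 40, 41, 42, 43, 44, 45, 46, 47, 48, 49, 50, 51, 52, 53, 54, 55, 56, 57, 58, 59, 60, 61, 62, 63, 64, 65, 66, 67, 68, 69, 70, 71, 72, 73, 74, 75, 76, 77, 79, 78] (by decide +kernel))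
theorem p24_i4 : Impl.{u} 12 r79 (expL f24Y y522_R) := Impl.refl.trans (impl_of_sub (R := r79) [0, 1, 2, 3, 4, 5, 6, 7, 10, 11, 12, 13, 14, 15, 16, 17, 18, 21, 22, 23, 24, 25, 26, 27, 28, 31, 32, 33, 34, 35, 36, 37, 40, 41, 42, 43, 44, 45, 48, 49, 50, 51, 52, 55, 56, 57, 58, 61, 62, 63, 66, 67, 70, 71, 77, 78] (by decide +kernel))
def p24W : List Nat := [0, 2, 3, 4, 5, 6, 7, 8, 10, 5, 4, 3, 6, 5, 4, 7, 11, 10, 5, 4, 3, 2, 6, 5, 4, 3, 7, 10, 5, 6, 7, 11, 10, 5, 4, 3, 5, 4, 3, 2]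
def p24B : List (List Pt × List Pt × List Nat) := [([(11, [])], [], [0, 5, 6, 7, 8, 9, 5, 10, 11, 5, 4, 3, 2]), ([], [(1, [11, 10, 5, 4, 3, 2])], [0, 5, 6, 7, 8, 9, 5, 10, 11, 5, 4, 3, 2]), ([(3, [10, 11, 4, 5, 10, 6, 5, 4])], [], [0, 5, 6, 7, 8, 9, 5, 10, 11, 5, 4, 3, 2]), ([(2, [7, 6, 5, 10, 9, 8, 7, 6, 5, 4, 3])], [(1, [10, 9, 8, 7, 6, 5, 4, 3, 2])], [0, 5, 6, 7, 8, 9, 5, 10, 11, 5, 4, 3, 2]), ([(2, [11, 5, 10, 8, 7, 6, 5, 4, 3])], [(1, [11, 10, 8, 7, 6, 5, 4, 3, 2])], [0, 5, 6, 7, 8, 9, 5, 10, 11, 5, 4, 3, 2]), ([(2, [7, 6, 4, 5, 10, 11, 3, 4, 5, 10, 6, 5, 4, 3])], [(3, [7, 6, 5, 10, 11, 4, 5, 10, 7, 6, 5, 4])], [0, 5, 6, 7, 8, 9, 5, 10, 11, 5, 4, 3, 2]), ([(2, [4, 5, 6, 3, 4, 5, 10, 9, 8, 7, 6, 5, 4, 3])], [(1, [6, 5, 10, 8, 7, 6, 5, 4, 3, 2])], [0, 5, 6, 7, 8, 9, 5, 10, 11, 5, 4, 3, 2]), ([(5, [8, 7, 6])], [], [0, 5, 6, 7, 8, 9, 5, 10, 11, 5, 4, 3, 2]), ([], [], [0, 5, 6, 7, 8,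 9, 5, 10, 11, 5, 4, 3, 2]), ([], [], [0, 5, 6, 7, 8, 9, 5, 10, 11, 5, 4, 3, 2]), ([], [(5, [11, 10])], [0, 5, 6, 7, 8, 9, 5, 10, 11, 5, 4, 3, 2]), ([], [], [0, 5, 6, 7, 8, 9, 5, 10, 11, 5, 4, 3, 2]), ([], [], [0, 5, 6, 7, 8, 9, 5, 10, 11, 5, 4, 3, 2]), ([], [(1, [6, 5, 10, 8, 7, 6, 5, 4, 3, 2])], [0, 5, 6, 7, 8, 9, 5, 10, 11, 5, 4, 3, 2]), ([(5, [10, 7, 6])], [], [0, 5, 6, 7, 8, 9, 5, 10, 11, 5, 4, 3, 2]), ([], [], [0, 5, 6, 7, 8, 9, 5, 10, 11, 5, 4, 3, 2]), ([], [], [0, 5, 6, 7, 8, 9, 5, 10, 11, 3, 4, 5, 10, 11, 7, 6, 5, 10, 7, 3, 4, 5, 6, 2, 3, 4, 5, 10, 11, 7, 4, 5, 6, 3, 4, 5, 10, 8, 7, 6, 5, 4, 3, 2, 0])]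
def p24K : List Nat := [0, 2, 3, 4, 5, 6, 7, 8, 10, 5, 4, 3, 6, 5, 4, 7, 11, 10, 5, 4, 3, 2, 6, 5, 4, 3, 7, 10, 5, 6, 7, 11, 10, 5, 4, 3]
def z24 : List Nat := pwW 17 [5, 4, 3, 2, 1, 0, 5, 6, 7, 8, 9, 5, 10, 11]
def ok24 (i : Nat) : Bool := and' (Nat.ble i 11) (not' (Nat.beq i 1))
theorem p24_chk : force (t24.nb [(0, [1])] (ones t24.n)) (fun f2 => force (t24.nb [(0, [2, 3, 1, 2, 0, 1])] (ones t24.n)) fun f1 =>
    force (t24.nb [(0, [])] (ones t24.n)) fun f0 => t24.blk f0 f1 f2 1 ok24 p24B (fun _ j => Nat.beq j (t24.pi (2, f24v)))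
      (appW t24.Ns p24W f2) (fnW t24.Ns (revW p24W) (t24.pi (0, [2, 3, 1, 2, 0, 1])))) = true := by decide +kernel
theorem pt_ev {Γ M : Type*} [Group Γ] [Group M] (π : Γ →* M) {ys : List Γ} (sq : ∀ y ∈ ys.map π, y * y = 1) (w : List Nat) :
    pt π (ev ys [0]) (ev ys w) = pv (ys.map π) (0, w) := by rw [pv, ptW, ev_cjW sq, ← ev_single, ev_map, ev_map, pt]
theorem p24_rels {Γ : Type} [Group Γ] {ys : List Γ} (hl : ys.length = 12) (r : Rels ys r79) (z : ev ys z24 = 1) (π : Γ →* F24)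
    (hπ : ys.map π = x24) : Rels ys f24R := by
  have hs := sq_of_rels r (hl ▸ by decide +kernel)
  have rk : Rels (f24K.map (ev ys)) rK := rels_expL.1 (p24_i3 _ _ hl r)
  have pe : ∀ w, π (ev ys w) = ev x24 w := fun w => by rw [← ev_map, hπ]
  have pk : ∀ w, π (ev (f24K.map (ev ys)) w) = ev k24 w := fun w => by rw [k24, ev_expand, ev_expand, pe]
  have ex : ∀ g ∈ cl (f24K.map (ev ys)), ∃ w, ev (f24K.map (ev ys)) w = g := fun g =>
    exists_ev (sq_of_rels rk (by decide +kernel : ∀ i < 11, [i, i] ∈ rK))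
  have hK : ∀ w, ev ys (expand f24K w) ∈ cl (f24K.map (ev ys)) := fun w => ev_expand ys f24K w ▸ ev_mem_cl _ w
  have hY : ∀ w, fnW y522_Mb w 0 = 0 → ev ys (expand f24Y w) ∈ cl (f24K.map (ev ys)) := fun w hw => by
    have := y522_univ.mem (xs := f24Y.map (ev ys)) rfl (rels_expL.1 (p24_i4 _ _ hl r)) (y522_mem hw)
    rw [ev_expand] at this
    exact cl_le (List.forall_mem_map.2 fun v hv => by
      rw [ev_expand]; exact mem_cl (List.mem_map_of_mem ((by decide : ∀ v ∈ y522S, expand f24Y v ∈ f24K) v hv))) this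
  have mp : (cl (f24K.map (ev ys))).map π = Subgroup.centralizer {ev x24 [0]} := by
    rw [f24_cent, cl_a24, ← cl_map, List.map_map, k24]; exact congrArg _ (List.map_congr_left fun w _ => pe w)
  have cen : ∀ a ∈ cl (f24K.map (ev ys)), Commute (ev ys [0]) a := fun _ => commute_cl (List.forall_mem_map.2 fun w hw => by
    rw [ev_single]
    exact commute_ev fun j hj => r.cmR hs ((by decide +kernel : ∀ w ∈ f24K, ∀ j ∈ w, cmR r79 0 j) w hw j hj))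
  have inj : ∀ a ∈ cl (f24K.map (ev ys)), ∀ b ∈ cl (f24K.map (ev ys)), π a = π b → a = b := fun a ha b hb e => by
    obtain ⟨w, hw⟩ := ex _ (mul_mem (inv_mem ha) hb)
    have := k24_univ.mem (xs := f24K.map (ev ys)) rfl rk (S := []) (w := w) (by
      rw [← pk, hw, map_mul, map_inv, e, inv_mul_cancel]; exact one_mem _)
    rw [hw] at this
    exact inv_mul_eq_one.1 (cl_le (H := ⊥) (by simp) this)
  have tt : ev ys [1, 2, 0, 1] * ev ys [1, 2, 0, 1] = 1 := by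
    have a := r.cmR hs (by decide +kernel : cmR r79 0 2)
    have := sq_getD hs
    simp only [ev_cons, ev_nil, mul_one]
    rw [show ∀ k a l : Γ, k * (a * (l * k)) * (k * (a * (l * k))) = k * (a * (l * (k * k) * a) * l) * k from fun _ _ _ => by group,
      this, mul_one, a.eq, ← mul_assoc (ys.getD 2 1), this, one_mul, this, mul_one, this]
  have ti := inv_eq_of_mul_eq_one_right tt
  have h : TM t24 e24 (ys.map π) E24 := hπ ▸ t24M
  have P := pt_ev π h.sq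
  have c : LCv π (cl (f24K.map (ev ys))) E24 (ev ys [0]) (ev ys [1, 2, 0, 1]) (ev ys [3, 4, 2, 3]) := by
    refine ⟨t24M.cj, fun x hx => mp.ge (mem_cent1.2 (pe _ ▸ hx)), cen, tt, fun a ha n => ?_, hK [2, 3, 1, 2], ?_, ?_,
      m24.gts 2 (by decide), m24.gts 3 (by decide)⟩
    · obtain ⟨w, rfl⟩ := ex a ha
      have := k24_univ.mem (xs := f24K.map (ev ys)) rfl rk (k24_stab ([1, 2, 0, 1], f24S) (by decide) ⟨ev_mem_cl _ w, by
        change _ • _ = _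
        rw [← mul_smul, ← inv_smul_eq_iff, ← mul_smul, ← mem_stabilizer_iff, f24_stab, ← cl_a24, ← f24_cent, mem_cent1,
          ← commute_conj_iff (ev x24 [1, 2, 0, 1]), ← pk, ← pe, ← pe]
        simpa [pt, mul_assoc] using n⟩)
      nth_rw 2 [← ti]
      refine cl_le (H := (cl (f24K.map (ev ys))).comap (MulAut.conj (ev ys [1, 2, 0, 1])).toMonoidHom)
        (List.forall_mem_map.2 fun s hs' => ?_) this
      rw [Subgroup.mem_comap, MulEquiv.coe_toMonoidHom, MulAut.conj_apply, ev_expand]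
      rcases (by decide +kernel : ∀ s ∈ f24S, (∀ i ∈ [1, 2, 0, 1], ∀ j ∈ expand f24K s, cmR r79 i j) ∨ ∃ w ∈ f24Wy,
        expand f24Y w = cat (revW [1, 2, 0, 1]) (cat (expand f24K s) [1, 2, 0, 1])) s hs' with k | ⟨w, hw, k⟩
      · rw [conj_eq_iff_commute.2 (commute_ev fun i hi => (commute_ev fun j hj => r.cmR hs (k i hi j hj)).symm).symm]
        exact hK s
      · have := hY w ((beq_iff _ _).1 ((allL_iff _ _).1 (by decide +kernel : fix0Chk y522_Mb f24Wy = true) w hw))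
        rw [k, cat_eq, cat_eq, ev_append, ev_append, ev_revW hs, ti, ← mul_assoc] at this
        rwa [ti]
    · rw [← ev_append, ← ev_append, ← ev_append, ← ev_revW hs, ← ev_append]
      exact hY [1, 0, 2, 1, 3, 2, 4, 3, 1, 2, 0, 1, 3, 4, 2, 3, 1, 2, 0, 1] (by decide +kernel)
    · rw [← ev_append, P, P, show π (ev ys [0]) = pv (ys.map π) (0, []) by rw [← P, pt, ev_nil]; simp]
      exact h.clq' (l := [(0, [3, 4, 2, 3, 1, 2, 0, 1]), (0, [1, 2, 0, 1]), (0, [])]) (by decide +kernel)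
  have a1 : Ad (cl (f24K.map (ev ys))) (ev ys [1, 2, 0, 1]) 1 (ev ys [2, 3, 1, 2, 0, 1]) :=
    ⟨_, hK [1, 2], 1, one_mem _, by rw [one_mul, mul_one, ← ev_append]; rfl⟩
  have a2 : Ad (cl (f24K.map (ev ys))) (ev ys [1, 2, 0, 1]) (ev ys [2, 3, 1, 2, 0, 1]) (ys.getD 1 1) :=
    ⟨_, hY [1, 0, 2, 1, 3, 2, 1, 2, 3, 1, 2, 0, 1] (by decide +kernel), _, inv_mem (hK [1, 2]), by
      rw [show expand f24Y _ = revW [2, 3, 1, 2, 0, 1] ++ ([1] ++ ([2, 3] ++ [1, 2, 0, 1])) by decide, ev_append, ev_append,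
        ev_append, ev_revW hs, ev_single, mul_inv_cancel_left, mul_assoc _ _ (ev ys [1, 2, 0, 1]), mul_assoc (ev ys [2, 3]), tt]
      exact (by simp : ∀ a b : Γ, a = a * (b * 1) * b⁻¹) _ _⟩
  have f2 : MK t24 e24 E24 _ (pt π (ev ys [0]) (ys.getD 1 1)) := ev_single ys 1 ▸ P [1] ▸ h.mk_nb (p := (0, [1])) (by decide)
  have hk : ∀ i, ok24 i = true → ys.getD i 1 ∈ cl (f24K.map (ev ys)) := fun i hi => by
    have : i < 12 := by rw [ok24, and'_eq, Bool.and_eq_true, Nat.ble_eq] at hi; omega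
    exact ev_single ys i ▸ mem_cl (List.mem_map_of_mem ((by decide : ∀ i < 12, ok24 i = true → [i] ∈ f24K) i this hi))
  have u : ∀ w : List Nat, allL w ok24 = true → ev ys w ∈ cl (f24K.map (ev ys)) := fun w hw => by
    rw [allL_iff] at hw
    induction w with
    | nil => exact one_mem _
    | cons a t ih => exact ev_cons ys a t ▸ mul_mem (hk a (hw a List.mem_cons_self)) (ih fun g hg => hw g (List.mem_cons_of_mem _ hg))
  obtain ⟨x, y⟩ := St.frame h hs f2 (v := 1) ⟨h.pi_lt (p := (0, [2, 3, 1, 2, 0, 1])) (by decide), _, c.symm a2, a1,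
    (P _).trans (h.pi_eq (by decide)).symm⟩ (w := p24W) (mul_mem (inv_mem (u _ (by decide))) (one_mem _))
  have q := p24_chk
  rw [force_eq, force_eq, force_eq] at q
  obtain ⟨m, j, e, -, -, N, n1, n2, n3⟩ := c.blk h hs (P [] ▸ h.mk_nb (p := (0, [])) (by decide))
    (P _ ▸ h.mk_nb (p := (0, [2, 3, 1, 2, 0, 1])) (by decide)) f2 a1 a2 hk x y q
  rw [← mul_assoc, ← mul_inv_rev, ← ev_append, show p24W ++ blkW 1 p24B = p24K ++ (z24 ++ revW p24K) by decide +kernel,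
    ev_append, ev_append, z, one_mul, ev_revW hs, mul_inv_cancel, inv_one, one_mul] at n1
  rw [(beq_iff _ _).1 e, h.pi_eq (by decide), pv, ev_map] at n3
  have io : ∀ g, Ad (cl (f24K.map (ev ys))) (ev ys [1, 2, 0, 1]) g N → g⁻¹ * (N * ev ys [0] * N⁻¹) * g ∈ cl (f24K.map (ev ys)) := by
    rintro g ⟨a, ha, b, hb, rfl⟩
    have := hY [1, 2, 0, 1, 0, 1, 0, 2, 1] (by decide +kernel)
    rw [show expand f24Y _ = [1, 2, 0, 1] ++ ([0] ++ revW [1, 2, 0, 1]) by decide, ev_append, ev_append, ev_revW hs] at this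
    rw [show ∀ t l : Γ, g⁻¹ * (g * a * t * b * l * (g * a * t * b)⁻¹) * g = a * (t * ((b * l * b⁻¹) * t⁻¹)) * a⁻¹ from
      fun _ _ => by group, conj_eq_iff_commute.2 (cen b hb).symm]
    exact mul_mem (mul_mem ha this) (inv_mem ha)
  have uK := u (ptW (2, f24v)) (by decide +kernel)
  have e1 := inj _ (by simpa using io 1 n2) _ uK (by rw [← n3, map_mul, map_mul, map_inv, pt])
  have us : ∀ {Γ : Type} [Group Γ] {ys : List Γ}, (∀ y ∈ ys, y * y = 1) → ev ys (cjW f24v 2) * ev ys (cjW f24v 2) = 1 := fun hs => by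
    rw [ev_cjW hs, ← pow_two, conj_pow, pow_two, sq_getD hs, mul_one, mul_inv_cancel]
  have e2 := inj _ (e1 ▸ io _ n1) _ uK (by
    rw [map_mul, map_mul, map_inv, ← ev_single, pe, pe, ev_single, mul_assoc, inv_mul_eq_iff_eq_mul]
    exact (f24_rels.comm x24_sq (us x24_sq) (by decide +kernel)).eq)
  intro w hw
  rcases (by decide +kernel : ∀ w ∈ f24R, w ∈ r79 ∨ w = pwW 2 (cat (cjW f24v 2) [1])) w hw with k | rfl
  · exact r w k
  · rw [ev_pwW, cat_eq, ev_append, ev_single]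
    exact sq_of_commute (us hs) (sq_getD hs 1) (by rwa [mul_assoc, inv_mul_eq_iff_eq_mul] at e2)
def fi24Code (p : Cfsg.Spor.Fi24.Gen × Bool) : Nat := match p with
  | (.l, _) => 0
  | (.k, _) => 1
  | (.a, _) => 2
  | (.b, _) => 3
  | (.c, _) => 4
  | (.d, _) => 5
  | (.e, _) => 6
  | (.f, _) => 7
  | (.g, _) => 8
  | (.j, _) => 9
  | (.h, _) => 10
  | (.i, _) => 11
def fi24L : List (Cfsg.Spor.Fi24.Gen × Bool) := [(.l, true), (.k, true), (.a, true), (.b, true), (.c, true), (.d, true), (.e, true), (.f, true), (.g, true), (.j, true), (.h, true), (.i, true)]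
theorem fi24B : Brg Cfsg.Spor.Fi24.edges Cfsg.Spor.Fi24.extra fi24Code [.l, .k, .a, .b, .c, .d, .e, .f, .g, .j, .h, .i] [.l, .k, .a, .b, .c, .d, .e, .f, .g, .j, .h, .i]
    fi24L (r79 ++ [z24]) := ⟨fun x => by cases x <;> simp, by decide +kernel, by decide +kernel⟩
/-- the generators -/
def fi24X : List Cfsg.Spor.Fi24 := gensP Cfsg.Spor.Fi24.edges Cfsg.Spor.Fi24.extra fi24L
theorem fi24_equiv : ∃ e : Cfsg.Spor.Fi24 ≃* F24, fi24X.map e = x24 := by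
  obtain ⟨π, h⟩ := fi24B.hom (ys := x24) rfl (Rels.append (fun w hw => f24_rels w (List.mem_of_mem_take hw))
    (List.forall_mem_singleton.2 (fm24.eq_one fm24.top fm24.cen _ (by decide +kernel))))
  have b := f24_pres _ fi24X rfl (p24_rels rfl fi24B.rels.left (fi24B.rels _ (by simp)) π h)
  rw [show cl fi24X = ⊤ from fi24B.cl_top] at b
  have := b.1
  have : Finite Cfsg.Spor.Fi24 := Finite.of_equiv _ Subgroup.topEquiv.toEquiv
  have s : Function.Surjective π := MonoidHom.range_eq_top.1 ((range_eq_cl π fi24B.cl_top).trans (h ▸ f24M.top))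
  exact ⟨MulEquiv.ofBijective π ((Nat.bijective_iff_surjective_and_card π).2 ⟨s, le_antisymm
    (by rw [f24_card, ← Subgroup.card_top]; exact b.2) (Nat.card_le_card_of_surjective _ s)⟩), h⟩
end
end H28
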