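import Cfsg.Agent.H28.Au2
import Cfsg.Agent.H28.P24
import Cfsg.Agent.H22.OutA

/-! The automorphisms of the derived group of a group of type M(24). -/
set_option maxRecDepth 100000
namespace H28
open Cfsg H27
open scoped commutatorElement
noncomputable section
variable {G M : Type*} [Group G] [Group M] {D : Set G}

/-- the residues of the cliques of length `k` have `n` points -/
def NbC (D : Set G) (k n : Nat) : Prop := ∀ l, Clq D l → l.length = k → (Nb D l).ncard = n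
/-- the centralisers of the cliques of length `k` have order `n` -/
def CnC (D : Set G) (k n : Nat) : Prop := ∀ l, Clq D l → l.length = k → Nat.card (Cn l) = n
theorem nbC_zero {n : Nat} (h : D.ncard = n) : NbC D 0 n := fun l _ e => by rw [List.length_eq_zero_iff.1 e, nb_nil, h]
theorem cnC_zero {n : Nat} (h : Nat.card G = n) : CnC D 0 n := fun l _ e => by
  rw [List.length_eq_zero_iff.1 e, cn_nil, Subgroup.card_top, h]
theorem Lv.nbC {E : Set M} (v : Lv D E) {k n : Nat} (h : NbC E k n) : NbC D (k + 1) n := fun l c e => by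
  obtain ⟨x, l, rfl⟩ := List.exists_cons_of_length_eq_add_one e
  obtain ⟨a, b⟩ := clq_cons.1 c
  obtain ⟨π, r⟩ := v.res x a
  exact ((congrArg _ (nb_nb D [x] l)).symm.trans (r.fi.nb b.1).ncard).trans (h _ (r.fi.clq b) (by simpa using e))
theorem CnC.succ (hc : ∀ g : G, ∀ d ∈ D, g * d * g⁻¹ ∈ D) {k n m : Nat} (t : GT D (k + 1)) (a : NbC D k n) (b : CnC D k (n * m))
    (h : 0 < n) : CnC D (k + 1) m := fun l c e => by
  obtain ⟨x, l, rfl⟩ := List.exists_cons_of_length_eq_add_one e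
  have e' : l.length = k := by simpa using e
  have := card_cn hc (e' ▸ t) c
  rw [a l (clq_cons'.1 c).2 e', b l (clq_cons'.1 c).2 e'] at this
  exact (Nat.eq_of_mul_eq_mul_left h this).symm
namespace M24
variable (h : M24 D)
include h
theorem n1 : NbC D 1 31671 := h.lv.nbC (nbC_zero m23.c0)
theorem n2 : NbC D 2 3510 := h.lv.nbC (lv23.nbC (nbC_zero m22.c0))
theorem n3 : NbC D 3 693 := h.lv.nbC (lv23.nbC fun _ => m22.c1)
theorem n4 : NbC D 4 180 := h.lv.nbC (lv23.nbC fun _ => m22.c2)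
theorem k1 : CnC D 1 (31671 * 258247006617600) :=
  .succ h.lv.tg.2.1 (h.gts 1 (by decide)) (nbC_zero h.c0) (cnC_zero h.card) (by decide)
theorem k2 : CnC D 2 (3510 * 73574645760) := .succ h.lv.tg.2.1 (h.gts 2 (by decide)) h.n1 h.k1 (by decide)
theorem k3 : CnC D 3 (693 * 106168320) := .succ h.lv.tg.2.1 (h.gts 3 (by decide)) h.n2 h.k2 (by decide)
theorem k4 : CnC D 4 106168320 := .succ h.lv.tg.2.1 (h.gts 4 (by decide)) h.n3 h.k3 (by decide)
end M24
theorem card_sgn (σ : G →* ℤˣ) {H : Subgroup G} {a : G} (ha : a ∈ H) (s : σ a = -1) :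
    Nat.card H = 2 * Nat.card ↥(σ.ker ⊓ H) := by
  have : (σ.comp H.subtype).range = ⊤ := eq_top_iff.2 fun u _ =>
    (Int.units_eq_one_or u).elim (fun e => e ▸ one_mem _) fun e => ⟨⟨a, ha⟩, s.trans e.symm⟩
  rw [← (σ.comp H.subtype).ker.index_mul_card, Subgroup.index_ker, this, Subgroup.card_top, ← MonoidHom.comap_ker,
    ← Nat.card_congr (Subgroup.subgroupOfEquivOfLe (inf_le_right : σ.ker ⊓ H ≤ H)).toEquiv, Subgroup.inf_subgroupOf_right]
  simp

section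
variable {L : Subgroup G}
open Classical in
/-- an automorphism of a subgroup as a map -/
def aF (φ : MulAut L) (x : G) : G := if h : x ∈ L then φ ⟨x, h⟩ else x
variable (φ : MulAut L) {x y : G}
theorem aF_eq (hx : x ∈ L) : aF φ x = φ ⟨x, hx⟩ := dif_pos hx
theorem aF_mem (hx : x ∈ L) : aF φ x ∈ L := aF_eq φ hx ▸ Subtype.prop _
theorem aF_mul (hx : x ∈ L) (hy : y ∈ L) : aF φ (x * y) = aF φ x * aF φ y := by
  rw [aF_eq φ hx, aF_eq φ hy, aF_eq φ (mul_mem hx hy)]; exact congrArg Subtype.val (map_mul φ ⟨x, hx⟩ ⟨y, hy⟩)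
theorem aF_inv (hx : x ∈ L) : aF φ x⁻¹ = (aF φ x)⁻¹ := by
  rw [aF_eq φ hx, aF_eq φ (inv_mem hx)]; exact congrArg Subtype.val (map_inv φ ⟨x, hx⟩)
theorem aF_left (hx : x ∈ L) : aF φ⁻¹ (aF φ x) = x := by rw [aF_eq φ hx, aF_eq _ (Subtype.prop _)]; simp
theorem aF_inj (hx : x ∈ L) (hy : y ∈ L) (e : aF φ x = aF φ y) : x = y := by rw [← aF_left φ hx, e, aF_left φ hy]
theorem aF_comm (hx : x ∈ L) (hy : y ∈ L) (c : Commute x y) : Commute (aF φ x) (aF φ y) := by
  rw [Commute, SemiconjBy, ← aF_mul φ hx hy, c.eq, aF_mul φ hy hx]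
theorem aF_cm (hx : x ∈ L) (hy : y ∈ L) : aF φ ⁅x, y⁆ = ⁅aF φ x, aF φ y⁆ := by
  rw [commutatorElement_def, aF_mul φ (mul_mem (mul_mem hx hy) (inv_mem hx)) (inv_mem hy), aF_mul φ (mul_mem hx hy) (inv_mem hx),
    aF_mul φ hx hy, aF_inv φ hx, aF_inv φ hy, commutatorElement_def]
theorem aF_cj [L.Normal] (g : G) (hx : x ∈ L) : aF (MulAut.conjNormal g * φ) x = g * aF φ x * g⁻¹ := by
  rw [aF_eq φ hx, aF_eq _ hx]; rfl
/-- the preimage of a subgroup -/
def aP (K : Subgroup G) : Subgroup G := (K.comap (L.subtype.comp φ.toMonoidHom)).map L.subtype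
theorem mem_aP {K : Subgroup G} : x ∈ aP φ K ↔ x ∈ L ∧ aF φ x ∈ K :=
  ⟨fun ⟨y, a, b⟩ => b ▸ ⟨y.2, (aF_eq φ y.2).symm ▸ a⟩, fun ⟨a, b⟩ => ⟨⟨x, a⟩, (aF_eq φ a ▸ b : (φ ⟨x, a⟩).1 ∈ K), rfl⟩⟩
/-- the fixed points -/
def aX : Subgroup G := (φ.toMonoidHom.eqLocus (MonoidHom.id L)).map L.subtype
theorem mem_aX : x ∈ aX φ ↔ x ∈ L ∧ aF φ x = x :=
  ⟨fun ⟨y, a, b⟩ => b ▸ ⟨y.2, (aF_eq φ y.2).trans (congrArg Subtype.val a)⟩,
    fun ⟨a, b⟩ => ⟨⟨x, a⟩, Subtype.ext ((aF_eq φ a).symm.trans b), rfl⟩⟩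
end
theorem even_le (σ : G →* ℤˣ) {S : Set G} {F : Subgroup G} {a : G} (s : σ a = -1) (hF : F ≤ σ.ker) (h2 : ∀ y ∈ S, y * y = 1)
    (a2 : a * a = 1) (h : ∀ y ∈ S, a * y ∈ F) : σ.ker ⊓ Subgroup.closure S ≤ F := fun x ⟨x1, x2⟩ => by
  have k : ∀ y ∈ S, ∀ x, x ∈ F ∨ a * x ∈ F → y * x ∈ F ∨ a * (y * x) ∈ F := by
    rintro y hy x (q | q)
    · exact .inr (mul_assoc a y x ▸ mul_mem (h y hy) q)
    · have := mul_mem (inv_mem (h y hy)) q
      rw [mul_inv_rev, inv_eq_of_mul_eq_one_left (h2 y hy), mul_assoc, inv_mul_cancel_left] at this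
      exact .inl this
  have : ∀ x ∈ Subgroup.closure S, x ∈ F ∨ a * x ∈ F := fun x x2 => by
    induction x2 using Subgroup.closure_induction_left with
    | one => exact .inl (one_mem _)
    | mul_left y hy _ _ ih => exact k y hy _ ih
    | inv_mul_cancel y hy _ _ ih => rw [inv_eq_of_mul_eq_one_left (h2 y hy)]; exact k y hy _ ih
  refine (this x x2).resolve_right fun q => ?_
  have := hF q
  rw [MonoidHom.mem_ker, map_mul, s, show σ x = 1 from x1] at this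
  exact absurd this (by decide)
theorem kl1 (hD : IsThreeTranspositionGroup D) (nr : NR D 4) {a c e u v : G} (p : Clq D [a, c, e]) (q : Clq D [u, v])
    (h1 : Commute (a * c) (u * v)) (h2 : Commute (a * e) (u * v)) : Commute a u := by
  have sw : ∀ g, Commute g (u * v) → g * u * g⁻¹ = u ∨ g * u * g⁻¹ = v := fun g hg => by
    simpa using (nr.perm3 hD.1 ((fiso_conj hD.2.1 g).clq q) q (by simp) (by simp) (by
      rw [map_conj_prod]; simpa using conj_eq_iff_commute.2 hg)).mem_iff.1 List.mem_cons_self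
  obtain ⟨n, m, cm⟩ := clq_iff.1 p
  simp only [List.nodup_cons, List.mem_cons, List.not_mem_nil, or_false, not_or, forall_eq_or_imp, forall_eq] at n m cm
  have hu := q.1 u (by simp)
  rcases sw _ h1 with e1 | e1
  · exact ((tt_commute_mul_iff hD.1 m.1 m.2.1 hu n.1.1).1 (conj_eq_iff_commute.1 e1).symm).1.symm
  rcases sw _ h2 with e2 | e2
  · exact ((tt_commute_mul_iff hD.1 m.1 m.2.2 hu n.1.2).1 (conj_eq_iff_commute.1 e2).symm).1.symm
  have := ((tt_commute_mul_iff hD.1 m.2.1 m.2.2 hu n.2.1).1 (conj_eq_iff_commute.1 (show c * e * u * (c * e)⁻¹ = u by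
    refine conj_inj (g := a * c) ?_
    rw [e1, ← e2, ← tt_mul_mul hD.1 m.2.1 e]
    nth_rw 1 [tt_mul_mul hD.1 m.2.1 e, tt_mul_mul hD.1 m.2.1 e]
    group)).symm).1
  rw [show a * c * u * (a * c)⁻¹ = a * (c * u * c⁻¹) * a⁻¹ by group, conj_eq_iff_commute.2 this.symm, tt_inv hD.1 m.1] at e1
  by_contra k
  have z := q.comm u (by simp) v (by simp)
  rw [← e1, tt_braid hD.1 m.1 hu k] at z
  have := ((Commute.refl u).mul_right z).mul_right (Commute.refl u)
  rw [← mul_assoc, ← mul_assoc, tt_sq hD.1 hu, one_mul, tt_mul_mul' hD.1 hu] at this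
  exact k this.symm
theorem M24.kl (h : M24 D) {a b e c d u v : G} (p : Clq D [a, b, c, d]) (p' : Clq D [a, e, c, d]) (n : ¬ Commute b e)
    (q : Clq D [u, v]) (k : ∀ z ∈ Nb D [a, b, e], Commute (a * z) (u * v)) :
    u * v = a * b ∨ u * v = a * e ∨ u * v = a * (b * e * b⁻¹) := by
  have hD := h.lv.tg
  obtain ⟨n1, m1, c1⟩ := clq_iff.1 p
  obtain ⟨n2, m2, c2⟩ := clq_iff.1 p'
  simp only [List.nodup_cons, List.mem_cons, List.not_mem_nil, or_false, not_or, forall_eq_or_imp, forall_eq] at n1 m1 c1 n2 m2 c2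
  have hc : c ∈ Nb D [a, b, e] := ⟨m1.2.2.1, by simp only [List.mem_cons, List.not_mem_nil, or_false, @eq_comm _ c]; tauto,
    by simp only [List.mem_cons, List.not_mem_nil, or_false, forall_eq_or_imp, forall_eq]; tauto⟩
  have hd : d ∈ Nb D [a, b, e] := ⟨m1.2.2.2, by simp only [List.mem_cons, List.not_mem_nil, or_false, @eq_comm _ d]; tauto,
    by simp only [List.mem_cons, List.not_mem_nil, or_false, forall_eq_or_imp, forall_eq]; tauto⟩
  have t : Clq D [a, c, d] := p.sub (by simp)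
  have q' := q.perm (List.Perm.swap v u [])
  simp only [List.prod_cons, List.prod_nil, mul_one] at q'
  have au := kl1 hD (h.nr.mono (by decide)) t q (k c hc) (k d hd)
  have av := kl1 hD (h.nr.mono (by decide)) t q'.1 (q'.2 ▸ k c hc) (q'.2 ▸ k d hd)
  have hb : b ∈ Nb D [a] := mem_nb1.2 ⟨m1.2.1, Ne.symm n1.1.1, c1.1.2.1⟩
  have he : e ∈ Nb D [a] := mem_nb1.2 ⟨m2.2.1, Ne.symm n2.1.1, c2.1.2.1⟩
  obtain ⟨π, r⟩ := h.lv.res a m1.1
  have uv : u ≠ v := by simpa using q.nodup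
  have s : ∀ w ∈ D, Commute a w → (∀ z ∈ Nb D [a, b, e], Commute z w) → w = a ∨ w = b ∨ w = e ∨ w = b * e * b⁻¹ := fun w hw aw z =>
    or_iff_not_imp_left.2 fun wa => by
      have hw' := mem_nb1.2 ⟨hw, wa, aw⟩
      have := (m23.line (r.fi.mem hb) (r.fi.mem he) (mt (r.fi.comm hb he).1 n)).1.ln _ (r.fi.mem hw') fun y hy => by
        obtain ⟨x, hx, rfl⟩ := (r.fi.nb (l := [b, e]) (by simp [hb, he])).surj hy
        exact (r.fi.comm hx.1 hw').2 (z x (nb_nb D [a] [b, e] ▸ hx))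
      rw [← r.fi.cj b hb e he] at this
      exact this.imp (r.fi.inj hw' hb) (Or.imp (r.fi.inj hw' he) (r.fi.inj hw' (r.fi.clo b hb e he)))
  have z : ∀ z ∈ Nb D [a, b, e], Commute z u ∧ Commute z v := fun z hz =>
    (tt_commute_mul_iff hD.1 (q.1 u (by simp)) (q.1 v (by simp)) hz.1 uv).1
      (tt_mul_mul hD.1 m1.1 z ▸ (au.mul_right av).mul_left (k z hz))
  have n' : ¬ Commute b (b * e * b⁻¹) := fun x => n ((commute_conj_iff b b e).1 (by simpa using x))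
  have n'' : ¬ Commute e (b * e * b⁻¹) := fun x => n (by
    rw [tt_inv hD.1 m1.2.1, tt_braid hD.1 m1.2.1 m2.2.1 n, ← tt_inv hD.1 m2.2.1] at x
    nth_rw 1 [tt_inv hD.1 m2.2.1, tt_inv hD.1 m2.2.1] at x
    exact ((commute_conj_iff e e b).1 (by simpa using x)).symm)
  have x := q.comm u (by simp) v (by simp)
  rcases s u (q.1 u (by simp)) au fun y hy => (z y hy).1 with rfl | a1
  · exact ((s v (q.1 v (by simp)) av fun y hy => (z y hy).2).resolve_left uv.symm).imp (congrArg _) (Or.imp (congrArg _) (congrArg _))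
  rcases s v (q.1 v (by simp)) av fun y hy => (z y hy).2 with rfl | a2
  · rw [x.eq]; exact a1.imp (congrArg _) (Or.imp (congrArg _) (congrArg _))
  rcases a1 with rfl | rfl | rfl <;> rcases a2 with a2 | a2 | a2 <;> rw [a2] at x uv <;>
    first | exact absurd rfl uv | exact absurd x ‹_› | exact absurd x.symm ‹_›
theorem ncard_le_len {α : Type*} {S : Set α} {L : List α} (h : ∀ x ∈ S, x ∈ L) : S.ncard ≤ L.length := by
  classical
  exact (Set.ncard_le_ncard (t := L.toFinset) (fun x hx => by simpa using h x hx) (Finset.finite_toSet _)).trans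
    ((Set.ncard_coe_finset _).trans_le L.toFinset_card_le)
theorem aX_cj {L K : Subgroup G} [L.Normal] {φ : MulAut L} (h : K ≤ aX φ) {b : G} (c : ∀ x ∈ K, Commute b x) :
    K ≤ aX (MulAut.conjNormal b * φ) := fun x hx => by
  obtain ⟨p, q⟩ := (mem_aX φ).1 (h hx)
  exact (mem_aX _).2 ⟨p, by rw [aF_cj φ b p, q, conj_eq_iff_commute.2 (c x hx)]⟩
theorem sgn_or (σ : G →* ℤˣ) {a : G} (s : σ a = -1) (x : G) : x ∈ σ.ker ∨ x * a ∈ σ.ker :=
  (Int.units_eq_one_or (σ x)).imp_right fun k => by rw [MonoidHom.mem_ker, map_mul, k, s]; rfl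
namespace M24
variable (h : M24 D)
include h
theorem cent4 {l : List G} (c : Clq D l) (e : l.length = 4) :
    Nat.card (Subgroup.centralizer {l.prod}) ≤ 306936 * (6 * 106168320) := by
  have := h.fin
  obtain ⟨x, t, rfl⟩ := List.exists_cons_of_length_eq_add_one e
  have e' : t.length = 3 := by simpa using e
  obtain ⟨c1, c2⟩ := clq_cons'.1 c
  rw [card_conj_list _ [x], card_conj_list (_ ⊓ _) t, ← h.c0, ← h.k4 _ c e]
  refine Nat.mul_le_mul ((Set.ncard_le_ncard (t := (fun y => [y]) '' D) ?_ (Set.toFinite _)).trans (Set.ncard_image_le (Set.toFinite _)))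
    (Nat.mul_le_mul ((ncard_le_len (L := t.permutations) ?_).trans (by rw [List.length_permutations, e']; rfl))
      (Subgroup.card_le_of_le fun g hg => mem_cn.2 (List.forall_mem_cons.2 ⟨mem_cn.1 hg.1.2 x (by simp), mem_cn.1 hg.2⟩)))
  · rintro _ ⟨g, -, rfl⟩; exact ⟨_, h.lv.tg.2.1 g x c1.1, rfl⟩
  · rintro _ ⟨g, ⟨a, b⟩, rfl⟩
    refine List.mem_permutations.2 (h.nr.perm3 h.tt ((fiso_conj h.lv.tg.2.1 g).clq c2) c2 (by simp [e']) (by simp [e']) ?_)
    rw [map_conj_prod, ← tt_mul_mul h.tt c1.1 t.prod]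
    exact conj_eq_iff_commute.2 ((mem_cn.1 b x (by simp)).mul_left (mem_cent1.1 a)).symm
variable (σ : G →* ℤˣ) (hσ : ∀ y ∈ D, σ y = -1)
include hσ
omit h in
theorem ev2 {a b : G} (ha : a ∈ D) (hb : b ∈ D) : a * b ∈ σ.ker := by rw [MonoidHom.mem_ker, map_mul, hσ a ha, hσ b hb]; rfl
theorem two (φ : MulAut σ.ker) {a b : G} (c : Clq D [a, b]) : ∃ u v, Clq D [u, v] ∧ aF φ (a * b) = u * v := by
  have := h.fin
  have ha := c.1 a (by simp)
  have m := ev2 σ hσ ha (c.1 b (by simp))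
  have o : aF φ 1 = 1 := (aX φ).one_mem |> (mem_aX φ).1 |>.2
  obtain ⟨l, c', e, p⟩ := h.iv (aF φ (a * b)) (by rw [← aF_mul φ m m, show a * b * (a * b) = 1 by simpa using c.sq h.tt, o])
  have s : (-1 : ℤˣ) ^ l.length = 1 := by
    refine Eq.trans ?_ (aF_mem φ m)
    rw [← p, map_list_prod, List.map_congr_left fun y hy => hσ y (c'.1 y hy)]; simp
  obtain q | q | q | q | q : l.length = 0 ∨ l.length = 1 ∨ l.length = 2 ∨ l.length = 3 ∨ l.length = 4 := by omega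
  · rw [List.length_eq_zero_iff.1 q, List.prod_nil, ← o] at p
    exact absurd (h.nr _ c (by simp) (by simpa using (aF_inj φ (one_mem _) m p).symm)) (by simp)
  · exact absurd (q ▸ s) (by decide)
  · obtain ⟨u, v, rfl⟩ := List.length_eq_two.1 q
    exact ⟨u, v, c', by simpa using p.symm⟩
  · exact absurd (q ▸ s) (by decide)
  obtain ⟨x, t, rfl⟩ := List.exists_cons_of_length_eq_add_one q
  have k1 := h.cent4 c' q
  have k2 := Subgroup.card_le_of_le (cn_le_prod (l := [a, b]))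
  rw [card_sgn σ (mem_cent1.2 (c'.comm_prod List.mem_cons_self).symm) (hσ x (c'.1 x (by simp))), p] at k1
  rw [h.k2 _ c rfl, card_sgn σ (mem_cent1.2 (c.comm_prod List.mem_cons_self).symm) (hσ a ha)] at k2
  have := Nat.card_le_card_of_injective (α := ↥(σ.ker ⊓ Subgroup.centralizer {[a, b].prod}))
    (β := ↥(σ.ker ⊓ Subgroup.centralizer {aF φ (a * b)}))
    (fun y => ⟨aF φ y, aF_mem φ y.2.1, mem_cent1.2 (aF_comm φ m y.2.1 (by simpa using mem_cent1.1 y.2.2))⟩)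
    fun y z e => Subtype.ext (aF_inj φ y.2.1 z.2.1 (congrArg Subtype.val e))
  omega
theorem fixK (φ : MulAut σ.ker) {a b : G} (c : Clq D [a, b]) (e : aF φ (a * b) = a * b) :
    ∃ g, σ.ker ⊓ Cn [a, b] ≤ aX (MulAut.conjNormal g * φ) := by
  have := h.fin
  have hD := h.lv.tg
  have ha := c.1 a (by simp)
  have m := ev2 σ hσ ha (c.1 b (by simp))
  obtain ⟨π, r⟩ := h.lv.rl2 lv23 c
  have := fi22_simple
  have g := r.gen' (h.rl8.meet hD c (h.gts 2 (by norm_num)) (by simp))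
  obtain ⟨q, -, KC, zK, -, ⟨ψ, -, ψ2⟩, α, α1, α2⟩ := r.even hD c g
    (by rw [fi22_card]; norm_num) (fun m hm => h.gts m (hm.trans (by simp))) (h.nr.mono (by simp)) (by simp) σ hσ
    (by rw [H22.card_mulAut_eq_out _ fi22_center, Cfsg.Agent.S2079.result]; rfl) rfl rfl
  obtain ⟨nm, β, β1, β2⟩ := r.aut hD.2.1 c g fi22_center (C := σ.ker ⊓ Subgroup.centralizer {[a, b].prod}) fun x hx =>
    h.nr.perm3 h.tt ((fiso_conj hD.2.1 x).clq c) c (by simp) (by simp) (by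
      rw [map_conj_prod, conj_eq_iff_commute.2 (mem_cent1.1 hx.2).symm])
  have := m22.fin
  have β3 := card_aut β (by
    rw [β2, ← α2, ← α.ker.index_mul_card, Subgroup.index_ker, MonoidHom.range_eq_top.2 α1, Subgroup.card_top])
  have pf := Subgroup.isPerfect_iff.1 q.1
  have mk : ∀ φ : MulAut σ.ker, aF φ (a * b) = a * b → ∀ x ∈ σ.ker ⊓ Cn [a, b], aF φ x ∈ σ.ker ⊓ Cn [a, b] := fun φ e x hx =>
    ((mem_aP φ).1 ((Subgroup.commutator_le.2 fun x hx y hy => by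
      have k : ∀ x ∈ σ.ker ⊓ Cn [a, b], aF φ x ∈ σ.ker ⊓ Subgroup.centralizer {[a, b].prod} := fun x hx =>
        ⟨aF_mem φ hx.1, mem_cent1.2 (by simpa [e] using aF_comm φ m hx.1 (by simpa using mem_cent1.1 (cn_le_prod hx.2)))⟩
      refine (mem_aP φ).2 ⟨Subgroup.commutator_le_self _ (Subgroup.commutator_mem_commutator hx.1 hy.1), ?_⟩
      rw [aF_cm φ hx.1 hy.1]
      exact (Subgroup.ext_iff.1 ψ2 ⁅Subtype.mk _ (k x hx), Subtype.mk _ (k y hy)⁆).1 (by
        rw [MonoidHom.mem_ker, map_commutatorElement]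
        exact (by decide : ∀ u v : Equiv.Perm (Fin 2), ⁅u, v⁆ = 1) _ _)) (pf.ge hx))).2
  have e' : aF φ⁻¹ (a * b) = a * b := by rw [← e, aF_left φ m, e]
  let θ : MulAut ↥(σ.ker ⊓ Cn [a, b]) := ⟨⟨fun x => ⟨_, mk φ e _ x.2⟩, fun x => ⟨_, mk φ⁻¹ e' _ x.2⟩,
    fun x => Subtype.ext (aF_left φ x.2.1), fun x => Subtype.ext (aF_left φ⁻¹ x.2.1)⟩, fun x y => Subtype.ext (aF_mul φ x.2.1 y.2.1)⟩
  have ac : a ∈ Cn [a, b] := c.cl_le_cn (mem_cl List.mem_cons_self)
  have zk : ∀ y : ↥(σ.ker ⊓ Cn [a, b]), π y = 1 ↔ y ∈ Subgroup.center _ := fun y => zK ▸ r.ker _ y.2.2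
  obtain ⟨γ, γ1⟩ := exists_aut (r.hom.comp (Subgroup.inclusion (inf_le_right : σ.ker ⊓ Cn [a, b] ≤ _))) (fun m => by
    obtain ⟨x, b, rfl⟩ := r.sur m
    exact (sgn_or σ (hσ a ha) x).elim (fun k => ⟨⟨x, k, b⟩, rfl⟩) fun k => ⟨⟨x * a, k, mul_mem b ac⟩,
      (r.mul _ b _ ac).trans (by rw [(r.ker a ac).2 (mem_cl List.mem_cons_self), mul_one])⟩) (MonoidHom.id _)
    fun x y hy => (zk _).2 (Subgroup.mem_center_iff.2 fun z => by
      obtain ⟨z, rfl⟩ := x.surjective z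
      exact ((show Commute z y from Subgroup.mem_center_iff.1 ((zk _).1 hy) z).map x).eq)
  obtain ⟨k, hk⟩ := β3 (γ θ)⁻¹
  refine ⟨k, pf.ge.trans (Subgroup.commutator_le.2 fun x hx y hy => ?_)⟩
  have w : ∀ x ∈ σ.ker ⊓ Cn [a, b], ∃ z ∈ cl [a, b], aF (MulAut.conjNormal k.1 * φ) x = x * z := fun x hx => by
    have m1 := mk φ e x hx
    have m2 := (Subgroup.mem_normalizer_iff.1 (nm k.2) _).1 m1.2
    refine ⟨x⁻¹ * _, (r.ker _ (mul_mem (inv_mem hx.2) m2)).1 ?_, by rw [aF_cj φ _ hx.1, mul_inv_cancel_left]⟩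
    rw [r.mul _ (inv_mem hx.2) _ m2, ← show _ = π (k * _ * k.1⁻¹) from β1 k _ m1.2, hk, show π (aF φ x) = γ θ (π x) from (γ1 θ ⟨x, hx⟩).symm, MulAut.inv_apply_self,
      ← r.mul _ (inv_mem hx.2) _ hx.2, inv_mul_cancel]
    exact (r.ker 1 (one_mem _)).2 (one_mem _)
  obtain ⟨u, u1, u2⟩ := w x hx
  obtain ⟨v, v1, v2⟩ := w y hy
  have cm : ∀ z ∈ cl [a, b], ∀ x ∈ Cn [a, b], Commute z x := fun z hz x hx => (commute_cl (fun p hp => (mem_cn.1 hx p hp).symm) hz).symm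
  refine (mem_aX _).2 ⟨Subgroup.commutator_le_self _ (Subgroup.commutator_mem_commutator hx.1 hy.1), ?_⟩
  rw [aF_cm _ hx.1 hy.1, u2, v2, commutatorElement_def, commutatorElement_def,
    show x * u * (y * v) * (x * u)⁻¹ = x * (u * (y * v) * u⁻¹) * x⁻¹ by group,
    conj_eq_iff_commute.2 (cm u u1 _ (mul_mem hy.2 (c.cl_le_cn v1))),
    show x * (y * v) * x⁻¹ * (y * v)⁻¹ = x * y * (v * x⁻¹ * v⁻¹) * y⁻¹ by group, conj_eq_iff_commute.2 (cm v v1 _ (inv_mem hx.2))]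
theorem step (φ : MulAut σ.ker) {a b e c d : G} (p : Clq D [a, b, c, d]) (p' : Clq D [a, e, c, d]) (n : ¬ Commute b e)
    (H : σ.ker ⊓ Cn [a, b] ≤ aX φ) : a * e ∈ aX φ ∨ a * e ∈ aX (MulAut.conjNormal b * φ) := by
  have ha := p.1 a (by simp)
  have hb := p.1 b (by simp)
  have ab := p.comm a (by simp) b (by simp)
  have ae := p'.comm a (by simp) e (by simp)
  have m := ev2 σ hσ ha (p'.1 e (by simp))
  obtain ⟨u, v, q, k⟩ := h.two σ hσ φ (p'.sub (l' := [a, e]) (by simp))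
  have f : ∀ z ∈ D, Commute a z → Commute b z → aF φ (a * z) = a * z := fun z hz x y => ((mem_aX φ).1 (H ⟨ev2 σ hσ ha hz,
    mem_cn.2 (by simpa using ⟨(Commute.refl a).mul_right x, ab.symm.mul_right y⟩)⟩)).2
  rcases h.kl p p' n q fun z hz => by
    have x := hz.2.2 a (by simp)
    rw [← k, ← f z hz.1 x (hz.2.2 b (by simp))]
    exact aF_comm φ (ev2 σ hσ ha hz.1) m (((Commute.refl a).mul_right ae).mul_left (x.symm.mul_right (hz.2.2 e (by simp)).symm))
    with w | w | w <;> rw [← k] at w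
  · rw [← f b hb ab (Commute.refl b)] at w
    exact absurd (mul_left_cancel (aF_inj φ m (ev2 σ hσ ha hb) w) ▸ Commute.refl e) n
  · exact .inl ((mem_aX φ).2 ⟨m, w⟩)
  · refine .inr ((mem_aX _).2 ⟨m, ?_⟩)
    rw [aF_cj φ b m, w, tt_inv h.tt hb, ← mul_assoc b, ← ab.eq, mul_assoc a, mul_assoc b e, tt_mul_mul h.tt hb, mul_assoc, tt_mul_mul' h.tt hb]
theorem autL (φ : MulAut σ.ker) : φ ∈ (MulAut.conjNormal (H := σ.ker)).range := by
  have hD := h.lv.tg
  have i : ∀ (g : G) (φ : MulAut σ.ker), MulAut.conjNormal g * φ ∈ (MulAut.conjNormal (H := σ.ker)).range →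
      φ ∈ (MulAut.conjNormal (H := σ.ker)).range := fun g φ h => (mul_mem_cancel_left (MonoidHom.mem_range.2 ⟨g, rfl⟩)).1 h
  obtain ⟨a, f, b, e, c, d, p1, p2, p3, n1, n2⟩ : ∃ a f b e c d, Clq D [a, b, c, d] ∧ Clq D [a, e, c, d] ∧ Clq D [b, f, c, d] ∧
      ¬ Commute b e ∧ ¬ Commute a f := let ⟨_, _, t⟩ := h.fm
    ⟨_, _, _, _, _, _, t.clq' (l := [(0, []), (3, []), (6, []), (8, [])]) (by decide +kernel),
      t.clq' (l := [(0, []), (4, []), (6, []), (8, [])]) (by decide +kernel),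
      t.clq' (l := [(3, []), (1, []), (6, []), (8, [])]) (by decide +kernel),
      mt (t.comm_iff (by decide) (by decide)).2 (by decide +kernel), mt (t.comm_iff (by decide) (by decide)).2 (by decide +kernel)⟩
  have ha := p1.1 a (by simp)
  have hb := p1.1 b (by simp)
  have hf := p3.1 f (by simp)
  have ab := p1.comm a (by simp) b (by simp)
  have c1 : ∀ {x}, x ∈ Cn [a] ↔ Commute a x := mem_cn.trans (by simp)
  have s3 : ∀ φ : MulAut σ.ker, σ.ker ⊓ Cn [a] ≤ aX φ → b * f ∈ aX φ → φ ∈ (MulAut.conjNormal (H := σ.ker)).range := fun φ H k => by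
    refine (congrArg (· ∈ _) (MulEquiv.ext (g := 1) fun x => Subtype.ext ((aF_eq φ x.2).symm.trans ((mem_aX φ).1
      (even_le σ (hσ a ha) (fun _ hx => ((mem_aX φ).1 hx).1) (fun _ => tt_sq h.tt) (tt_sq h.tt ha) (fun y hy => ?_)
        ⟨x.2, hD.2.2.ge trivial⟩)).2))).mpr (one_mem _)
    by_cases q : Commute a y
    · exact H ⟨ev2 σ hσ ha hy, c1.2 ((Commute.refl a).mul_right q)⟩
    obtain ⟨_, -, _, -, -, t⟩ := h.npt
    obtain ⟨g, g1, g2⟩ := t.tr ha hf n2 ha hy q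
    obtain ⟨g, g0, g1, rfl⟩ : ∃ g ∈ σ.ker, Commute a g ∧ g * f * g⁻¹ = y := (sgn_or σ (hσ b hb) g).elim
      (fun k => ⟨g, k, (conj_eq_iff_commute.1 g1).symm, g2⟩) fun k => ⟨_, k, (conj_eq_iff_commute.1 g1).symm.mul_right ab, by
        rw [← g2]; nth_rw 2 [← conj_eq_iff_commute.2 (p3.comm b (by simp) f (by simp))]; group⟩
    have := H ⟨g0, c1.2 g1⟩
    have := mul_mem (H ⟨ev2 σ hσ ha (hD.2.1 g b hb), c1.2 ((Commute.refl a).mul_right ((g1.mul_right ab).mul_right g1.inv_right))⟩)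
      (mul_mem (mul_mem this k) (inv_mem this))
    rwa [show a * (g * b * g⁻¹) * (g * (b * f) * g⁻¹) = a * (g * (b * (b * f)) * g⁻¹) by group, tt_mul_mul h.tt hb] at this
  have s2 : ∀ φ : MulAut σ.ker, σ.ker ⊓ Cn [a, b] ≤ aX φ → a * e ∈ aX φ → φ ∈ (MulAut.conjNormal (H := σ.ker)).range := fun φ H k => by
    obtain ⟨π, r⟩ := h.lv.res a ha
    have H' : σ.ker ⊓ Cn [a] ≤ aX φ := by
      rw [cn_one, ← r.gen]
      refine even_le σ (hσ a ha) (fun _ hx => ((mem_aX φ).1 hx).1) (fun _ hy => tt_sq h.tt hy.1) (tt_sq h.tt ha) fun y hy => ?_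
      have ay := (mem_nb1.1 hy).2.2
      by_cases q : Commute b y
      · exact H ⟨ev2 σ hσ ha hy.1, mem_cn.2 (by simpa using ⟨(Commute.refl a).mul_right ay, ab.symm.mul_right q⟩)⟩
      have b' := (clq_cons.1 p1).2.1 b (by simp)
      have e' := (clq_cons.1 p2).2.1 e (by simp)
      obtain ⟨_, -, _, -, -, t⟩ := m23.npt
      obtain ⟨m, g1, g2⟩ := t.tr (r.fi.mem b') (r.fi.mem e') (mt (r.fi.comm b' e').1 n1) (r.fi.mem b') (r.fi.mem hy)
        (mt (r.fi.comm b' hy).1 q)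
      obtain ⟨g, g0, rfl⟩ := r.sur m
      obtain ⟨g, g3, g0, g4⟩ : ∃ k ∈ σ.ker, Commute a k ∧ π k = π g := (sgn_or σ (hσ a ha) g).elim (fun k => ⟨g, k, g0, rfl⟩)
        fun k => ⟨_, k, g0.mul_right (Commute.refl a), by rw [r.mul _ _ g0 (Commute.refl a), r.self, mul_one]⟩
      rw [← g4, ← r.cj g0 (mem_nb1.1 b').2.2] at g1
      rw [← g4, ← r.cj g0 (mem_nb1.1 e').2.2] at g2
      have := H ⟨g3, mem_cn.2 (by
        simpa using ⟨g0, (conj_eq_iff_commute.1 (r.fi.inj (conj_mem_nb hD.2.1 g0.symm b') b' g1)).symm⟩)⟩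
      have := mul_mem (mul_mem this k) (inv_mem this)
      rwa [← mul_assoc, ← g0.eq, mul_assoc a, mul_assoc a, r.fi.inj (conj_mem_nb hD.2.1 g0.symm e') hy g2] at this
    exact (h.step σ hσ φ (p1.perm (List.Perm.swap b a _)).1 p3 n2 (le_trans (inf_le_inf_left _ fun x hx => c1.2 (mem_cn.1 hx a (by simp)))
      H')).elim (s3 φ H') fun k => i a φ (s3 _ (aX_cj H' fun x hx => c1.1 hx.2) k)
  have p0 : Clq D [a, b] := p1.sub (by simp)
  obtain ⟨u, v, q, k⟩ := h.two σ hσ φ p0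
  obtain ⟨g, hg⟩ := h.gts 2 (by decide) _ _ q p0 rfl rfl
  obtain ⟨g', H⟩ := h.fixK σ hσ (MulAut.conjNormal g * φ) p0 (by
    rw [aF_cj φ g (ev2 σ hσ ha hb), k]; simpa using (map_conj_prod g [u, v]).symm.trans (congrArg List.prod hg))
  exact i g _ (i g' _ ((h.step σ hσ _ p1 p2 n1 H).elim (s2 _ H) fun k => i b _ (s2 _ (aX_cj H fun x hx => mem_cn.1 hx.2 b (by simp)) k)))
end M24
theorem M24.out (h : M24 D) : Nat.card (Out (commutator G)) = 2 := by
  obtain ⟨σ, s1, s2, s3⟩ := h.sgn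
  obtain ⟨a, ha⟩ := h.ne
  have := h.fin
  have c := card_sgn σ (Subgroup.mem_top a) (s1 a ha)
  rw [inf_top_eq, Subgroup.card_top] at c
  have z := (qs_of_simple (G := σ.ker) (by rw [show Nat.card σ.ker = 306936 * 4089470473293004800 by have := h.card; omega]; norm_num)).2
  have e := H22.card_mulAut_eq_out _ z
  rw [← Nat.card_congr (Equiv.ofBijective _ ⟨(injective_iff_map_eq_one _).2 fun x hx => ?_, h.autL σ s1⟩), c] at e
  · rw [s2]; exact (Nat.eq_of_mul_eq_mul_right Nat.card_pos e).symm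
  have k : ∀ y ∈ σ.ker, Commute x y := fun y hy => conj_eq_iff_commute.1 (congrArg (fun f : MulAut σ.ker => (f ⟨y, hy⟩).1) hx)
  by_cases q : x ∈ σ.ker
  · exact congrArg Subtype.val (z.le (x := ⟨x, q⟩) (Subgroup.mem_center_iff.2 fun y => Subtype.ext (k y y.2).symm))
  · exact h.lv.cen.le (Subgroup.mem_center_iff.2 fun y => ((sgn_or σ ((Int.units_eq_one_or _).resolve_left q) y).elim (k y) fun u => by
      simpa using (k _ u).mul_right (Commute.refl x).inv_right).symm)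
theorem fi24_m24 : ∃ D : Set Spor.Fi24, M24 D :=
  let ⟨e, _⟩ := fi24_equiv
  ⟨_, m24_equiv (class_group (class_map e24_class e.symm)) e (by rw [Set.image_image]; simp)⟩
end
end H28
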