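import Cfsg.Agent.H28.Tz3
import Cfsg.Agent.H28.Tz4
import Cfsg.Agent.H28.Au3
import Cfsg.Agent.S0280

/-! The centraliser of a product of four commuting transpositions in a group of type M(24). -/
set_option maxRecDepth 100000
namespace H28
open Cfsg H27 H22 H23 H23.Form
noncomputable section
variable {G M : Type*} [Group G] [Group M] {D A : Set G} {z : G}

/-- the field with nine elements -/
def GF9 : Type := GaloisField 3 2
instance gf9Field : Field GF9 := inferInstanceAs (Field (GaloisField 3 2))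
instance gf9Fintype : Fintype GF9 := Fintype.ofFinite (GaloisField 3 2)
theorem gf9_card : Fintype.card GF9 = 9 := by
  rw [← Nat.card_eq_fintype_card]; exact GaloisField.card 3 2 (by norm_num)
/-- the orthogonal group of dimension six -/
abbrev O6 := (ofQuad (qMinus 2 (ZMod 3) 0 1)).O
/-- its central quotient -/
abbrev P6 := O6 ⧸ Subgroup.center O6
theorem nd6 : (ofQuad (qMinus 2 (ZMod 3) 0 1)).Nondeg := qMinus_nondeg 2 (by decide)
theorem card_o6 : Nat.card O6 = 26127360 := (card_O_qMinus 2 (by decide)).trans (by simp [Finset.prod_range_succ])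
instance : Finite O6 := Nat.finite_of_card_ne_zero (by rw [card_o6]; norm_num)
theorem card_p6 : Nat.card P6 = 13063680 := by
  have : 2 * Nat.card P6 = 26127360 := (card_pquot nd6 (by simp) (by decide)).trans card_o6
  omega
theorem p6_equiv : Nonempty (commutator P6 ≃* PSU 4 GF9 3) ∧ Nat.card (commutator P6) = 3265920 ∧ pCore 2 P6 = ⊥ := by
  obtain ⟨θ, a, b⟩ := pomega_hom (qMinus 2 (ZMod 3) 0 1) nd6 (by simp) (R := ⊤) le_top
  obtain ⟨j⟩ := nonempty_ringHom_of_card_eq_pow (F := ZMod 3) (n := 2) two_ne_zero gf9_card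
  let := j.toAlgebra
  obtain ⟨e1⟩ := pomega_minus_six (F := ZMod 3) (K := GF9) (a := 0) (b := 1) gf9_card (by decide)
  have e : commutator P6 ≃* PSU 4 GF9 3 := (((MonoidHom.ofInjective a).trans (MulEquiv.subgroupCongr b)).trans
    (commutatorCongr (quotCenterCongr Subgroup.topEquiv))).symm.trans e1
  have c := Cfsg.Agent.S0280.result (q := 3) gf9_card 4 (by norm_num)
  rw [← Nat.card_congr e.toEquiv] at c
  have c' : Nat.card (commutator P6) = 3265920 := by norm_num [Finset.prod_range_succ] at c; omega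
  refine ⟨⟨e⟩, c', eq_bot_iff.2 fun x hx => ?_⟩
  obtain ⟨x, rfl⟩ := QuotientGroup.mk_surjective x
  rcases omega_normal_le_center_or_eq_top nd6 (ofQuad_κ _) (by simp)
    (((pCore 2 P6).comap (QuotientGroup.mk' _)).subgroupOf _) inferInstance with k | k
  · have := H5.commutator_eq_bot_of_perfect (Y := (pCore 2 P6).comap (QuotientGroup.mk' _)) (L := commutator O6) (by
      rw [← Subgroup.map_subtype_commutator, omega_perfect nd6 (ofQuad_κ _) (by simp), ← MonoidHom.range_eq_map,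
        Subgroup.range_subtype]) (Subgroup.commutator_eq_bot_iff_le_centralizer.2 fun y hy g hg => congrArg Subtype.val
        (Subgroup.mem_center_iff.1 (k (x := ⟨y, Subgroup.commutator_le_left _ _ hy⟩) (Subgroup.mem_subgroupOf.2 (Subgroup.commutator_le_right _ _ hy))) ⟨g, hg⟩))
    exact (QuotientGroup.eq_one_iff _).2 (cent_omega' nd6 (by simp) fun g hg =>
      Subgroup.commutator_eq_bot_iff_le_centralizer.1 this hg x hx)
  · have : commutator P6 ≤ pCore 2 P6 := by
      rw [commutator_def, ← QuotientGroup.range_mk' (Subgroup.center O6), ← map_commutator_eq, Subgroup.map_le_iff_le_comap]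
      exact Subgroup.subgroupOf_eq_top.1 k
    obtain ⟨n, q⟩ := ((H1.isPGroup_pCore 2).to_le this).exists_card_eq
    exact absurd (Nat.prime_three.dvd_of_dvd_pow (q ▸ c' ▸ by norm_num : 3 ∣ 2 ^ n)) (by norm_num)
theorem hq6 : HQ (n := 6) ((Equiv.sumCongr finSumFinEquiv (Equiv.refl _)).trans finSumFinEquiv) (qMinus 2 (ZMod 3) 0 1) z6L := hq6a
/-- the transpositions commuting with `z` -/
def Dz (D : Set G) (z : G) : Set G := {y | y ∈ D ∧ Commute z y}
namespace M24
variable (h : M24 D) [Finite G] {l : List G} (c : Clq D l) (e : l.length = 4)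
include h c e
theorem cent4' : Nat.card (Subgroup.centralizer {l.prod}) ≤ (Dz D l.prod).ncard * (6 * 106168320) := by
  obtain ⟨x, t, rfl⟩ := List.exists_cons_of_length_eq_add_one e
  have e' : t.length = 3 := by simpa using e
  obtain ⟨c1, c2⟩ := clq_cons'.1 c
  rw [card_conj_list _ [x], card_conj_list (_ ⊓ _) t, ← h.k4 _ c e]
  refine Nat.mul_le_mul ((Set.ncard_le_ncard (t := (fun y => [y]) '' _) ?_ (Set.toFinite _)).trans (Set.ncard_image_le (Set.toFinite _)))
    (Nat.mul_le_mul ((ncard_le_len (L := t.permutations) ?_).trans (by rw [List.length_permutations, e']; rfl))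
      (Subgroup.card_le_of_le fun g hg => mem_cn.2 (List.forall_mem_cons.2 ⟨mem_cn.1 hg.1.2 x (by simp), mem_cn.1 hg.2⟩)))
  · rintro _ ⟨g, a, rfl⟩
    exact ⟨_, ⟨h.lv.tg.2.1 g x c1.1, ((mem_cent1.1 a).mul_right (c.comm_prod List.mem_cons_self).symm).mul_right
      (mem_cent1.1 a).inv_right⟩, rfl⟩
  · rintro _ ⟨g, ⟨a, b⟩, rfl⟩
    refine List.mem_permutations.2 (h.nr.perm3 h.tt ((fiso_conj h.lv.tg.2.1 g).clq c2) c2 (by simp [e']) (by simp [e']) ?_)
    rw [map_conj_prod, ← tt_mul_mul h.tt c1.1 t.prod]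
    exact conj_eq_iff_commute.2 ((mem_cn.1 b x (by simp)).mul_left (mem_cent1.1 a)).symm
theorem tz : ∃ σ : G → O6, Fib D (Dz D l.prod) σ l.prod ∧ (∀ m, (∀ y ∈ Dz D l.prod, Commute m (σ y)) → m ∈ Subgroup.center _) ∧
    (∀ m, ∃ g ∈ Subgroup.centralizer {l.prod}, (g, m) ∈ Gd MulAut.conj (Dz D l.prod) σ) ∧ (Dz D l.prod).ncard = 504 ∧
    ∃ ρ, (ρ, 1) ∈ Gd MulAut.conj (Dz D l.prod) σ ∧ ∀ H Z : Subgroup G, PP (Dz D l.prod) σ ⊆ H → Z ≤ H →
      (∀ g ∈ Z, ∀ y ∈ Dz D l.prod, Commute y g) → 4096 * Nat.card Z ≤ Nat.card H ∧ (ρ ∈ H → 12288 * Nat.card Z ≤ Nat.card H) := by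
  obtain ⟨ε, xs, f⟩ := h.fm
  obtain ⟨g, hg⟩ := h.gts 4 (by norm_num) _ _ c (f.clq' z6_clq) e rfl
  obtain ⟨ε, xs, f, rfl⟩ := f.wlog hg
  obtain ⟨η, σ, s, t, i, r⟩ := f.sb (A := Dz D (z6T.map (pv xs)).prod) z6_chk z6_act
    (ev_prW xs z6T ▸ f.rep_fx (K := 19) (by decide) _) z6_A z6_rch z6_cls _ hq6 (by norm_num) (by decide) z6_hom
  have k := s.fib r t f.toTM (fun _ hy => hy.1) nd6 (by decide) z6_fib (fun y hy => hy.2) c rfl rfl
  obtain ⟨u1, u2⟩ := s.sw r t f.toTM hq6 (by decide) z6_s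
  exact ⟨σ, k, k.cen i nd6 (by simp), k.sur i nd6 (by simp) u1 u2,
    by rw [← s.bij.image_eq, s.bij.injOn.ncard_image]; exact Set.ncard_Iio_nat _, _, s.ker r t z6_rho, fun H Z a b d =>
      ⟨s.low (fun v hv => a (s.pp r z6_pp v hv)) d b z6_low, fun q => s.low (by
        rw [catL_eq]; exact List.forall_mem_append.2 ⟨fun v hv => a (s.pp r z6_pp v hv), by simpa using q⟩) d b z6_low3⟩⟩
theorem tz2 : ∃ (σ : G → O6) (Ψ : Subgroup.centralizer {l.prod} →* P6), Fib D (Dz D l.prod) σ l.prod ∧ Function.Surjective Ψ ∧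
    Nat.card Ψ.ker = 24576 ∧ H13.XS l.prod (Subgroup.closure (PP (Dz D l.prod) σ)) 6 ∧
    (∀ g, g.1 ∈ Subgroup.closure (PP (Dz D l.prod) σ) → Ψ g = 1) ∧ ∃ y ∈ Dz D l.prod, ∀ x ∈ l, ¬ Commute y x := by
  obtain ⟨σ, f, c1, c2, c3, ρ, c4, c5⟩ := h.tz c e
  let N := (Gd MulAut.conj (Dz D l.prod) σ).comap (MonoidHom.inl G O6)
  have z1 : l.prod ≠ 1 := fun q => by simp [h.nr _ c (by omega) q] at e
  have o := orderOf_eq_prime ((pow_two _).trans f.zz) z1
  have cz : ∀ g ∈ Subgroup.zpowers l.prod, ∀ y ∈ Dz D l.prod, Commute y g := by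
    rintro _ ⟨k, rfl⟩ y hy; exact hy.2.symm.zpow_right k
  have pN : PP (Dz D l.prod) σ ⊆ N := fun _ => f.gd_pp
  have l1 := (c5 N _ pN (fun g hg => gd_one (cz g hg)) cz).2 c4
  have l2 := (c5 _ _ Subgroup.subset_closure (Subgroup.zpowers_le.2 f.z_mem) cz).1
  have l3 := h.cent4' c e
  rw [Nat.card_zpowers, o] at l1 l2
  rw [c3] at l3
  obtain ⟨Ψ, p1, p2, p3, p4⟩ := gam (N := N) c1 c2 (fun g hg => ⟨mem_cent1.2 (conj_eq_iff_commute.1 (f.fix hg)).symm, hg⟩) (by
    rw [card_p6]; exact l3.trans (le_trans (by norm_num) (Nat.mul_le_mul_right _ l1)))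
  rw [card_p6] at p4
  have cN : Nat.card N = 24576 :=
    le_antisymm (Nat.le_of_mul_le_mul_right (p4.symm.trans_le (l3.trans (by norm_num))) (by norm_num)) l1
  have cA : ∀ g, (∀ x ∈ Subgroup.closure (PP (Dz D l.prod) σ), x * g = g * x) → g ∈ Subgroup.zpowers l.prod := fun g hg => by
    have l4 := (c5 N (Subgroup.centralizer (Dz D l.prod)) pN (fun g hg => gd_one hg) fun _ h => h).2 c4
    exact (Subgroup.eq_of_le_of_card_ge (K := Subgroup.centralizer (Dz D l.prod)) cz (by rw [Nat.card_zpowers, o]; omega)).ge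
      fun y hy => (conj_eq_iff_commute.1 (f.fix3 (h.nr.mono (by norm_num)) (MulAut.conj g) (h.lv.tg.2.1 g)
        (fun u hu => conj_eq_iff_commute.2 (hg u (Subgroup.subset_closure hu)).symm) hy)).symm
  obtain ⟨q1, q2, q3⟩ := es_gens z1 f.zz (fun _ => f.pp_cz) (fun _ => f.pp_sq) fun _ hx _ => f.pp_com hx
  have pg : IsPGroup 2 (Subgroup.closure (PP (Dz D l.prod) σ)) := fun x => ⟨2, Subtype.ext (by
    rw [show 2 ^ 2 = 2 * 2 from rfl, pow_mul, pow_two, pow_two]
    exact (q3 _ x.2).elim (fun q => by simp [q]) fun q => by simpa [q] using f.zz)⟩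
  obtain ⟨n, q4⟩ := pg.exists_card_eq
  have q5 := Subgroup.card_dvd_of_le (show _ ≤ N from fun _ => f.gd_le)
  rw [q4, cN, show 24576 = 3 * 2 ^ 13 from rfl] at q5
  have q6 := Nat.le_of_dvd (by norm_num) (((Nat.coprime_primes Nat.prime_two Nat.prime_three).2 (by norm_num)).pow_left n |>.dvd_of_dvd_mul_left q5)
  have cK : Nat.card Ψ.ker = 24576 := by
    have := Ψ.ker.index_mul_card
    rw [Subgroup.index_ker, MonoidHom.range_eq_top.2 p1, Subgroup.card_top, card_p6] at this; omega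
  refine ⟨σ, Ψ, f, p1, cK, H13.xs_mk (by norm_num) z1 f.zz f.z_mem q1 q2 q3
    (fun x _ k => (H13.mem_zpowers_two o).1 (cA x fun y hy => (k y hy).symm)) (by omega) (fun g hg x hx => ?_)
    fun g hg => Subgroup.zpowers_le.2 f.z_mem (cA g hg), fun g hg => (p3 g).2 (f.gd_le hg), by_contra fun n => ?_⟩
  · obtain ⟨m, hm⟩ := QuotientGroup.mk_surjective (Ψ ⟨g, hg⟩)
    exact (Subgroup.closure_le ((Subgroup.closure _).comap (MulAut.conj g).toMonoidHom)).2
      (fun u hu => Subgroup.subset_closure (Fib.pp_map ((p2 _ m).1 hm.symm) hu)) hx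
  · classical
    have : Dz D l.prod ⊆ Nb D l ∪ {x | x ∈ l} := fun y hy => or_iff_not_imp_right.2 fun k => ⟨hy.1, k, fun w hw => by
      obtain ⟨x, hx, q⟩ : ∃ x ∈ l, Commute y x := by_contra fun m => n ⟨y, hy, fun x hx q => m ⟨x, hx, q⟩⟩
      obtain ⟨c1, c2⟩ := c.perm (List.perm_cons_erase hx)
      rcases List.mem_cons.1 ((List.perm_cons_erase hx).subset hw) with rfl | hw
      · exact q.symm
      refine ((clq_cons'.1 c1).2.of_comm_prod h.tt (by rw [List.length_erase_of_mem hx, e]) hy.1 ?_ w hw).symm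
      rw [← tt_mul_mul h.tt (c.1 x hx) (l.erase x).prod, ← List.prod_cons, ← c2]
      exact q.mul_right hy.2.symm⟩
    have := ((Set.ncard_le_ncard this).trans (Set.ncard_union_le _ _)).trans
      (Nat.add_le_add (h.n4 l c e).le (ncard_le_len fun _ h => h))
    omega
end M24
end
end H28
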