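import Cfsg.Agent.H28.SuzC
import Cfsg.Prelude.Def_Spor_Suz
/-! The Suzuki group: faithful action on 1782 points, order, simplicity. -/
set_option maxRecDepth 100000
namespace H28
open H27
noncomputable section
universe u
def suzCode (p : Cfsg.Spor.Suz.Gen × Bool) : Nat := match p with
  | (.a, _) => 0
  | (.b, _) => 1
  | (.c, _) => 2
  | (.d, _) => 3
  | (.e, _) => 4
  | (.f, _) => 5
  | (.g, _) => 6
def suzL : List (Cfsg.Spor.Suz.Gen × Bool) := [(.a, true), (.b, true), (.c, true), (.d, true), (.e, true), (.f, true), (.g, true)]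
theorem suzB : Brg Cfsg.Spor.Suz.edges Cfsg.Spor.Suz.extra suzCode [.a, .b, .c, .d, .e, .f, .g] [.a, .b, .c, .d, .e, .f, .g] suzL suz_R :=
  ⟨fun x => by cases x <;> simp, by decide +kernel, by decide +kernel⟩
/-- the generators -/
def suzX : List Cfsg.Spor.Suz := gensP Cfsg.Spor.Suz.edges Cfsg.Spor.Suz.extra suzL
theorem suz_ex : ∃ φ : Cfsg.Spor.Suz →* Equiv.Perm (Fin 1782), suzX.map φ = perms 1782 suz_Nb ∧ Function.Injective φ :=
  suzB.model rfl suz_univ
/-- the faithful permutation representation -/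
def suzHom : Cfsg.Spor.Suz →* Equiv.Perm (Fin 1782) := suz_ex.choose
theorem suzM : Mdl 1782 (pts suzHom) suzX suz_Nb := mdl_of_inj suz_ex.choose_spec.1 suz_valb suzB.cl_top suz_ex.choose_spec.2
theorem suz_card : Nat.card Cfsg.Spor.Suz = 448345497600 := by
  rw [card_eq_of_inj suzB.cl_top suz_ex.choose_spec.2, show List.map _ (gensP _ _ _) = _ from suz_ex.choose_spec.1]
  exact suz_pres.card_eq rfl suz_rels suz_le
instance suzFinite : Finite Cfsg.Spor.Suz := Nat.finite_of_card_ne_zero (by rw [suz_card]; norm_num)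
theorem suz_tr : ∀ j < 1782, ∃ g : Cfsg.Spor.Suz, g • pts suzHom 0 = pts suzHom j := trans_of_chk suzM.acts (k := 6) (by decide +kernel)
def suzH : List (List Nat) := [[0], [1], [2], [3], [4], [5]]
def suzU : List (List Nat) := [[6], [6, 1, 2, 3, 2, 1, 6]]
theorem suz_max : IsCoatom (MulAction.stabilizer Cfsg.Spor.Suz (pts suzHom 0)) := coatom_of_chk suzM.inj suzM.acts suzM.top (by norm_num) suz_tr
  (actsL_catN suzM.acts suzH) (actsL_catN suzM.acts suzU) (k := 5) (by decide +kernel)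
def suzC_Rx : List (List Nat) := [[6, 3, 1, 5, 2, 4, 1, 6, 3, 1, 5, 2, 4, 1, 6, 3, 1, 5, 2, 4, 1, 6, 3, 1, 5, 2, 4, 1, 6, 3, 1, 5, 2, 4, 1, 6, 3, 1, 5, 2, 4, 1, 6, 3, 1, 5, 2, 4, 1, 6, 3, 1, 5, 2, 4, 1, 6, 3, 1, 5, 2, 4, 1, 6, 3, 1, 5, 2, 4, 1, 6, 3, 1, 5, 2, 4, 1, 6, 3, 1, 5, 2, 4, 1, 6, 3, 1, 5, 2, 4, 1, 6, 3, 1, 5, 2, 4, 1, 6, 3, 1, 5, 2, 4, 1, 6, 3, 1, 5, 2, 4, 1, 6, 3, 1, 5, 2, 4, 1, 6, 3, 1, 5, 2, 4, 1, 6, 3, 1, 5, 2, 4, 1, 6, 3, 1, 5, 2, 4, 1, 6, 3, 1, 5, 2, 4, 1]]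
def suzC_i1T : Tr := (.node 21 (.node 10 (.node 5 (.node 2 (.node 1 (.leaf 6 0x143182107 0 0 0 0 0 0 0) (.leaf 147 0x21431821070850c60841c21431821070850c60841c21431821070850c60841c21431821070850c60841c21431821070850c60841c21431821070850c60841c21431821070850c60841c21431821070850c60841c21431821070850c60841c21431821070850c60841c2143182107 0 0 0 0 0 0 0)) (.node 3 (.leaf 2 65 0 0 0 0 0 0 0) (.node 4 (.leaf 2 130 0 0 0 0 0 0 0) (.leaf 2 195 0 0 0 0 0 0 0)))) (.node 7 (.node 6 (.leaf 2 260 0 0 0 0 0 0 0) (.leaf 2 325 0 0 0 0 0 0 0)) (.node 8 (.leaf 2 390 0 0 0 0 0 0 0) (.node 9 (.leaf 2 455 0 0 0 0 0 0 0) (.leaf 10 0x81081081081081 0 0 0 0 0 0 0))))) (.node 15 (.node 12 (.node 11 (.leaf 4 790721 0 0 0 0 0 0 0) (.leaf 4 0x101101 0 0 0 0 0 0 0)) (.node 13 (.leaf 4 0x141141 0 0 0 0 0 0 0) (.node 14 (.leaf 4 0x181181 0 0 0 0 0 0 0) (.leaf 4 0x1c11c1 0 0 0 0 0 0 0)))) (.node 18 (.node 16 (.leaf 6 0xc20c20c2 0 0 0 0 0 0 0) (.node 17 (.leaf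 4 0x102102 0 0 0 0 0 0 0) (.leaf 4 0x142142 0 0 0 0 0 0 0))) (.node 19 (.leaf 6 0x182182182 0 0 0 0 0 0 0) (.node 20 (.leaf 6 0x1c21c21c2 0 0 0 0 0 0 0) (.leaf 16 0x103103103103103103103103 0 0 0 0 0 0 0)))))) (.node 31 (.node 26 (.node 23 (.node 22 (.leaf 4 0x143143 0 0 0 0 0 0 0) (.leaf 4 0x183183 0 0 0 0 0 0 0)) (.node 24 (.leaf 4 0x1c31c3 0 0 0 0 0 0 0) (.node 25 (.leaf 6 0x144144144 0 0 0 0 0 0 0) (.leaf 4 0x184184 0 0 0 0 0 0 0)))) (.node 28 (.node 27 (.leaf 4 0x1c41c4 0 0 0 0 0 0 0) (.leaf 4 0x185185 0 0 0 0 0 0 0)) (.node 29 (.leaf 4 0x1c51c5 0 0 0 0 0 0 0) (.node 30 (.leaf 8 0x1c61c61c61c6 0 0 0 0 0 0 0) (.leaf 9 0x3103103103101 0 0 0 0 0 0 0))))) (.node 36 (.node 33 (.node 32 (.leaf 5 0x61c61c1 0 0 0 0 0 0 0) (.leaf 20 0x183081183081183081183081183081 0 0 0 0 0 0 0)) (.node 34 (.leaf 15 0x71821c60871821c6087182 0 0 0 0 0 0 0) (.node 35 (.leaf 78 0x1440c40c21031030840c40c21031030840c40c21440c40c21031030840c40c21031030840c40c21440c40c21031030840c40c21031030840c40c2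 0 0 0 0 0 0 0) (.leaf 1 2 0 0 0x21431821070850c60841c21431821070850c60841c21431821070850c60841c21431821070850c60841c21431821070850c60841c21431821070850c60841c21431821070850c60841c21431821070850c60841c21431821070850c60841c21431821070850c60841c2143182107 31 0xc0000000c0000000c0000000c0000000c0000000c0000000c0000000c0000000c0000000c0000000014000000130000001200000011000000100000000f0000000e0000000d0000000c0000000b0000000a00000009000000080000000700000006000000050000000400000003000000020000000100000000 1 1024)))) (.node 39 (.node 37 (.leaf 1 3 0 0 0xc20c20c2 4 0x100000008c0200008c0100008c00 1 15360) (.node 38 (.leaf 1 6 0 0 0x182182182 4 0x1c0000008c0200008c0100008c00 1 18432) (.leaf 1 7 0 0 0x1c21c21c2 4 0x200000008c0200008c0100008c00 1 19456))) (.node 40 (.leaf 1 1 0 0 0x3103103103101 6 0x14010000140100009005000090040000900300009002 1 30720) (.node 41 (.leaf 1 5 0 0 0x1440c40c21031030840c40c21031030840c40c21440c40c21031030840c40c21031030840c40c21440c40c21031030840c40c21031030840c40c2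 61 0x14000000140000001400000014000000140000001800000014010000140100001401000014010000140100001400000014000000140000001400000014000000901f0000901e00008c1e0000901d0000901c00008c1c0000901b0000901a00008c1a000090190000901800008c18000090170000901600008c16000090140000901300008c13000090120000901100008c11000090100000900f00008c0f0000900e0000900d00008c0d0000900c0000900b00008c0b000090090000900800008c08000090070000900600008c06000090050000900400008c04000090030000900200008c02000090010000900000008c00 1 34816) (.leaf 1 4 0 0 0x144144144 4 0x14000000a0030000a0020000a001 1 24576)))))))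
theorem suzC_i1 : Impl.{u} 7 (catL [[6, 3, 1, 5, 2, 4]] (catL suzC_Rx suz_R)) (gensW 7) := Impl.refl.trans (impl_of_rw1 (R := (catL [[6, 3, 1, 5, 2, 4]] (catL suzC_Rx suz_R))) suzC_i1T 35 7 [39, 35, 36, 41, 40, 37, 38] (by decide +kernel))
theorem suz_simple : IsSimpleGroup Cfsg.Spor.Suz := suzM.simple2 suz_tr suz_max (m := 251596800) (p := 11) suz_card (by norm_num) (by norm_num) (by norm_num) rfl
  (catL_eq _ _ ▸ (suzM.rels (fixR_of_relA (K := 11) suz_valb (by decide +kernel))).append suzB.rels)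
  (suzM.rels (fixR_of_relA (K := 11) suz_valb (by decide +kernel))) suzC_i1
theorem suz_stab : MulAction.stabilizer Cfsg.Spor.Suz (pts suzHom 0) = cl (suzH.map (ev suzX)) :=
  stab_eq_of_le suzM.inj suzM.acts suzM.top (by norm_num) suz_tr (m := 251596800) suz_card (by decide +kernel)
    (suz_idx.le_card rfl suzB.rels suzB.cl_top (by norm_num) suz_card)
end
end H28
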