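import Cfsg.Agent.H28.U6a
import Cfsg.Agent.H28.T22

/-! The residue of a transposition of `Fi22` is the space of the unitary transvections. -/
set_option maxRecDepth 100000
namespace H28
open Cfsg H27 Matrix
noncomputable section
universe u

section
variable {F : Type} [Field F]
def relS4 (Vs : List (List Nat)) (R : List (List Nat)) : Bool :=
  and' (rng Vs.length R) (allL R fun w => force (ev4 Vs w 1) fun s => and' (Nat.ble s 3) (allN 6 fun i =>
    Nat.beq (ev4 Vs w (Nat.shiftLeft 1 (2 * i))) (Nat.shiftLeft s (2 * i))))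
theorem v4_shift (θ : F) {s : Nat} (hs : s < 4) (j : Fin 6) : v4 θ (Nat.shiftLeft s (2 * j)) = Pi.single j (f4 θ s) := by
  ext i
  have := (by decide : ∀ s < 4, ∀ i j : Fin 6,
    Nat.land (Nat.shiftRight (Nat.shiftLeft s (2 * j)) (2 * i)) 3 = if i = j then s else 0) s hs i j
  rw [v4, ← f4_land, this, Pi.single_apply]
  split_ifs <;> simp [f4]
theorem rels_psu {θ : F} {Vs R : List (List Nat)} {xs : List (SU 6 F 2)}
    (h : ∀ w, (∀ g ∈ w, g < Vs.length) → ∀ x, (ev xs w).1.1 *ᵥ v4 θ x = v4 θ (ev4 Vs w x)) (hc : relS4 Vs R = true) :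
    Rels (xs.map (QuotientGroup.mk' (Subgroup.center _))) R := fun w hw => by
  simp only [relS4, and'_eq, Bool.and_eq_true, rng_iff, allL_iff, allN_iff, force_eq, beq_iff, Nat.ble_eq] at hc
  have e : (ev xs w).1.1 = f4 θ (ev4 Vs w 1) • (1 : Matrix (Fin 6) (Fin 6) F) := Matrix.ext fun i j => by
    have := congrFun (h w (hc.1 w hw) (Nat.shiftLeft 1 (2 * j))) i
    rw [(hc.2 w hw).2 j j.2, v4_shift θ (Nat.lt_succ_of_le (hc.2 w hw).1), v4_shift θ (by norm_num),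
      show f4 θ 1 = 1 by simp [f4, show Nat.testBit 1 1 = false from rfl]] at this
    simpa [Pi.single_apply, one_apply] using this
  rw [ev_map]
  refine (QuotientGroup.eq_one_iff _).2 (Subgroup.mem_center_iff.2 fun g => Subtype.ext (Subtype.ext ?_))
  change g.1.1 * (ev xs w).1.1 = (ev xs w).1.1 * g.1.1
  rw [e]; simp
def ne4 (Vs : List (List Nat)) (g x : Nat) (i : Fin 6) (v : List Nat) : Bool :=
  and' (rng Vs.length [g :: v]) (not' (Nat.beq (Nat.land (Nat.shiftRight (ev4 Vs (cat v [g]) x) (2 * i)) 3)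
    (Nat.land (Nat.shiftRight (ev4 Vs (g :: v) x) (2 * i)) 3)))
theorem ne_psu {θ : F} (t : Th θ) {Vs : List (List Nat)} {xs : List (SU 6 F 2)}
    (h : ∀ w, (∀ g ∈ w, g < Vs.length) → ∀ x, (ev xs w).1.1 *ᵥ v4 θ x = v4 θ (ev4 Vs w x)) {g x : Nat} {i : Fin 6}
    {v : List Nat} (hc : ne4 Vs g x i v = true) : ev (xs.map (QuotientGroup.mk' (Subgroup.center _))) v ≠ 1 := fun e => by
  simp only [ne4, and'_eq, not'_eq, Bool.and_eq_true, rng_iff, Bool.not_eq_true', Bool.eq_false_iff, Ne, beq_iff,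
    List.forall_mem_singleton, cat_eq] at hc
  rw [ev_map] at e
  have c := Subgroup.mem_center_iff.1 ((QuotientGroup.eq_one_iff _).1 e) (ev xs [g])
  rw [← ev_append, ← ev_append] at c
  have a := h (v ++ [g]) (fun k hk => hc.1 k (by simpa [or_comm] using hk)) x
  rw [← c, List.singleton_append, h _ hc.1] at a
  exact hc.2 (t.inj (congrFun a i)).symm
theorem psu_card [Fintype F] (hF : Fintype.card F = 4) : Nat.card (PSU 6 F 2) = 9196830720 := by
  have a := H22.card_SU (q := 2) hF 6 (by norm_num)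
  have b := Subgroup.card_eq_card_quotient_mul_card_subgroup (Subgroup.center (SU 6 F 2))
  rw [H22.card_center_SU (q := 2) hF 6 (by norm_num)] at b
  norm_num [Finset.prod_range_succ, Nat.even_iff] at a b
  change _ = Nat.card (PSU 6 F 2) * 3 at b
  omega
end

def u6_W : List (List Nat) := catL u6_R (catL (mapL (fun w => cat (cjW w 0) [0]) u6_Sb) (idxW u6_I))
theorem u6_acts {G : Type u} [Group G] {xs : List G} (hl : xs.length = 8) (hW : Rels xs u6_W)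
    (hR : ∀ w ∈ u6_Rp, ev xs (0 :: cjW w 0) ≠ 1) : (∀ y ∈ xs, y * y = 1) ∧ ∃ e : Nat → Cj G, ActsL 693 e xs u6_Ns ∧
      Set.InjOn e {j | j < 693} ∧ ∀ y ∈ xs, ∃ i < 693, e i = cj y := by
  rw [u6_W, catL_eq, catL_eq] at hW
  have hq : ∀ y ∈ xs, y * y = 1 := fun y hy => by
    obtain ⟨i, hi, rfl⟩ := List.getElem_of_mem hy
    have : ev xs [i, i] = 1 := hW.left [i, i] ((by decide +kernel : ∀ i < 8, [i, i] ∈ u6_R) i (hl ▸ hi))
    rwa [ev_cons, ev_single, List.getD_eq_getElem _ _ hi] at this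
  have key : ∀ w i, ev xs (cat (cjW w 0) [i]) = 1 → ev xs w • cj (xs.getD 0 1) = cj (xs.getD i 1) := fun w i h => by
    rw [cat_eq, ev_append, ev_cjW hq, ev_single] at h
    rw [smul_cj, eq_inv_of_mul_eq_one_left h, inv_eq_of_mul_eq_one_right (sq_getD hq i)]
  have hS : ∀ w ∈ u6_Sb, ev xs w • cj (xs.getD 0 1) = cj (xs.getD 0 1) := fun w hw =>
    key w 0 (hW.right.left _ (by rw [mapL_eq]; exact List.mem_map_of_mem hw))
  obtain ⟨e, h0, a⟩ := u6_cert.acts hl (u6_i1 _ _ hl hW.left) _ hS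
  refine ⟨hq, e, a, injOn_of_reps a (by norm_num) (h0 ▸ hS) (fun w hw h => hR w hw ?_) u6_rp, fun y hy => ?_⟩
  · rw [h0, smul_cj, cj_inj] at h
    rw [ev_cons, ev_cjW hq, h, sq_getD hq]
  · obtain ⟨i, hi, rfl⟩ := List.getElem_of_mem hy
    refine ⟨_, fnW_lt (ok_of_validL u6_val) (nth [] u6_I i) (by norm_num : 0 < 693), ?_⟩
    rw [← ev_smul a _ (by norm_num), h0, key _ i (hW.right.right _ (by
      rw [idxW, mapL_eq]; exact List.mem_map_of_mem (List.mem_range.2 (hl ▸ hi : i < 8)))), List.getD_eq_getElem _ _ hi]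

theorem psu_mdl {F : Type} [Field F] [Fintype F] (hF : Fintype.card F = 4) :
    ∃ (ys : List (PSU 6 F 2)) (e : Nat → Cj (PSU 6 F 2)), Mdl 693 e ys u6_Ns ∧ ∀ y ∈ ys, y * y = 1 := by
  obtain ⟨θ, t⟩ := exists_th hF
  obtain ⟨xs, hl, h⟩ := exists_su hF t u6_V (by decide +kernel)
  obtain ⟨hq, e, a, he, -⟩ := u6_acts (xs := xs.map (QuotientGroup.mk' (Subgroup.center _))) ((List.length_map _).trans hl)
    (rels_psu h (by decide +kernel)) fun w hw => ne_psu t h (g := 1) (x := 5) (i := 0)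
      ((allL_iff _ _).1 (by decide +kernel : allL u6_Rp (fun w => ne4 u6_V 1 5 0 (0 :: cjW w 0)) = true) w hw)
  have : Finite (PSU 6 F 2) := Nat.finite_of_card_ne_zero (by rw [psu_card hF]; norm_num)
  obtain ⟨b, -, c⟩ := a.cl_faith he (H := ⊤) (fun _ _ => trivial) (by rw [Subgroup.card_top, psu_card hF]) u6_le
  exact ⟨_, e, ⟨a, b, he, fun g => c g trivial⟩, hq⟩

def u6_f : List (List Nat) := [[3], [2], [4], [5], [6], [7], [8], [5, 4, 3, 7, 2, 3, 4, 1, 2, 3, 7, 5, 4, 3, 2, 1, 0, 1, 2, 3, 4, 5, 7, 3, 2, 1, 4, 3, 2, 7, 3, 4, 5]]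
def u6_P : List Pt := [(3, []), (2, []), (4, []), (5, []), (6, []), (7, []), (8, []), (0, [5, 4, 3, 7, 2, 3, 4, 1, 2, 3, 7, 5, 4, 3, 2, 1])]
def u6_odd : List Nat := [1, 0, 2, 3, 4, 5, 6, 1, 0, 2, 3, 4, 5, 6, 1, 0, 2, 3, 4, 5, 6, 1, 0, 2, 3, 4, 5, 6, 1, 0, 2, 3, 4, 5, 6, 1, 0, 2, 3, 4, 5, 6, 1, 0, 2, 3, 4, 5, 6, 1, 0, 2, 3, 4, 5, 6, 1, 0, 2, 3, 4, 5, 6]
def u6o_i1T : Tr := (.node 35 (.node 17 (.node 8 (.node 4 (.node 2 (.node 1 (.leaf 4 528513 0 0 0 0 0 0 0) (.leaf 4 790721 0 0 0 0 0 0 0)) (.node 3 (.leaf 4 0x181181 0 0 0 0 0 0 0) (.leaf 4 0x103103 0 0 0 0 0 0 0))) (.node 6 (.node 5 (.leaf 4 0x144144 0 0 0 0 0 0 0) (.leaf 4 0x1c61c6 0 0 0 0 0 0 0)) (.node 7 (.leaf 4 0x204204 0 0 0 0 0 0 0) (.leaf 63 0x71851030421c61440c10871851030421c61440c10871851030421c61440c10871851030421c61440c1087185103042 0 0 0 0 0 0 0)))) (.node 12 (.node 10 (.node 9 (.leaf 2 65 0 0 0 0 0 0 0) (.leaf 2 130 0 0 0 0 0 0 0))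 (.node 11 (.leaf 2 195 0 0 0 0 0 0 0) (.leaf 2 260 0 0 0 0 0 0 0))) (.node 14 (.node 13 (.leaf 2 325 0 0 0 0 0 0 0) (.leaf 2 390 0 0 0 0 0 0 0)) (.node 15 (.leaf 2 455 0 0 0 0 0 0 0) (.node 16 (.leaf 2 520 0 0 0 0 0 0 0) (.leaf 6 0x81081081 0 0 0 0 0 0 0)))))) (.node 26 (.node 21 (.node 19 (.node 18 (.leaf 6 0xc10c10c1 0 0 0 0 0 0 0) (.leaf 4 0x101101 0 0 0 0 0 0 0)) (.node 20 (.leaf 4 0x141141 0 0 0 0 0 0 0) (.leaf 6 0x181181181 0 0 0 0 0 0 0))) (.node 23 (.node 22 (.leaf 4 0x1c11c1 0 0 0 0 0 0 0) (.leaf 4 0x201201 0 0 0 0 0 0 0)) (.node 24 (.leaf 4 794818 0 0 0 0 0 0 0) (.node 25 (.leaf 4 0x102102 0 0 0 0 0 0 0) (.leaf 4 0x142142 0 0 0 0 0 0 0))))) (.node 30 (.node 28 (.node 27 (.leaf 4 0x182182 0 0 0 0 0 0 0) (.leaf 4 0x1c21c2 0 0 0 0 0 0 0)) (.node 29 (.leaf 4 0x202202 0 0 0 0 0 0 0) (.leaf 6 0x103103103 0 0 0 0 0 0 0))) (.node 32 (.node 31 (.leaf 4 0x143143 0 0 0 0 0 0 0) (.leaf 4 0x183183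 0 0 0 0 0 0 0)) (.node 33 (.leaf 4 0x1c31c3 0 0 0 0 0 0 0) (.node 34 (.leaf 4 0x203203 0 0 0 0 0 0 0) (.leaf 6 0x144144144 0 0 0 0 0 0 0))))))) (.node 53 (.node 44 (.node 39 (.node 37 (.node 36 (.leaf 4 0x184184 0 0 0 0 0 0 0) (.leaf 4 0x1c41c4 0 0 0 0 0 0 0)) (.node 38 (.leaf 6 0x204204204 0 0 0 0 0 0 0) (.leaf 4 0x185185 0 0 0 0 0 0 0))) (.node 41 (.node 40 (.leaf 4 0x1c51c5 0 0 0 0 0 0 0) (.leaf 4 0x205205 0 0 0 0 0 0 0)) (.node 42 (.leaf 6 0x1c61c61c6 0 0 0 0 0 0 0) (.node 43 (.leaf 4 0x206206 0 0 0 0 0 0 0) (.leaf 6 0x207207207 0 0 0 0 0 0 0))))) (.node 48 (.node 46 (.node 45 (.leaf 24 0x1061c30481061c30481061c30481061c3048 0 0 0 0 0 0 0) (.leaf 2 129 0 0 0x81081081 1 0 1 16384)) (.node 47 (.leaf 1 2 1 1 8257 1 8192 1 46081) (.leaf 2 193 0 0 0xc10c10c1 1 1024 1 17408))) (.node 50 (.node 49 (.leaf 1 3 1 1 12353 1 8192 1 48129) (.leaf 2 385 0 0 0x181181181 1 2048 1 20480)) (.node 51 (.leaf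 1 6 1 1 24641 1 8192 1 50177) (.node 52 (.leaf 2 259 0 0 0x103103103 1 3072 1 29696) (.leaf 1 4 1 3 16579 1 10240 1 52225)))))) (.node 62 (.node 57 (.node 55 (.node 54 (.leaf 1 4 1 1 4 0 0 2 0xc0000000d000) (.leaf 2 324 0 0 0x144144144 1 4096 1 34816)) (.node 56 (.leaf 1 5 1 4 20740 1 11264 1 55297) (.leaf 1 5 1 1 5 0 0 2 0xd4000000dc00))) (.node 59 (.node 58 (.leaf 2 454 0 0 0x1c61c61c6 1 5120 1 41984) (.leaf 1 7 1 6 29062 1 13312 1 58369)) (.node 60 (.leaf 1 7 1 1 7 0 0 2 0xc8000000e800) (.node 61 (.leaf 2 516 0 0 0x204204204 1 6144 1 37888) (.leaf 1 8 1 4 33028 1 11264 1 61441))))) (.node 66 (.node 64 (.node 63 (.leaf 1 8 1 1 8 0 0 2 0xd4000000f400) (.leaf 1 1 0 0 0x71851030421c61440c10871851030421c61440c10871851030421c61440c10871851030421c61440c1087185103042 85 0x2000000020000000200000002000000020000000200000002000000020000000200000002000000020000000200000002000000020000000200000002000000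0200000002000000020000000200000002000000020000000200000002000000020000000200000002000000020000000200000002000000020000000ec3e0000c83d0000e03c0000d43b0000c03a0000b8380000ec370000c8360000e0350000d4340000c0330000b8310000ec300000c82f0000e02e0000d42d0000c02c0000b82a0000ec290000c8280000e0270000d4260000c0250000b8230000ec220000c8210000e0200000d41f0000c01e0000b81c0000ec1b0000c81a0000e0190000d4180000c0170000b8150000ec140000c8130000e0120000d4110000c0100000b80e0000ec0d0000c80c0000e00b0000d40a0000c0090000b8070000ec060000c8050000e0040000d4030000c0020000b800 1 7168)) (.node 65 (.leaf 1 2 0 0 2 0 0 2 0xfc000000b800) (.leaf 1 3 0 0 3 0 0 2 0xfc000000c000))) (.node 68 (.node 67 (.leaf 1 6 0 0 6 0 0 2 0xfc000000c800) (.leaf 1 4 0 0 4 0 0 2 0xfc000000d400)) (.node 69 (.leaf 1 5 0 0 5 0 0 2 0xfc000000e000) (.node 70 (.leaf 1 7 0 0 7 0 0 2 0xfc000000ec00) (.leaf 1 8 0 0 8 0 0 2 0xfc000000f800))))))))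
theorem u6o_i1 : Impl.{u} 8 (catL (mapL (fun s => cat s s) [[0, 1], [0, 2], [0, 5], [2, 3], [3, 4], [5, 6], [3, 7]]) (u6_odd :: u6_R)) (gensW 8) := Impl.refl.trans (impl_of_rw1 (R := (catL (mapL (fun s => cat s s) [[0, 1], [0, 2], [0, 5], [2, 3], [3, 4], [5, 6], [3, 7]]) (u6_odd :: u6_R))) u6o_i1T 45 26 [63, 64, 65, 67, 68, 66, 69, 70] (by decide +kernel))
theorem u6_lb : 18393661440 ≤ Nat.card (cl (u6_f.map (ev fi22X))) :=
  le_card_cl (K := 12) fi22M.inj (actsL_catN fi22M.acts _) [] [1, 6, 2, 4, 3, 7, 5, 0] [(1, 6, 1), (450, 5, 1), (245, 4, 2), (65, 2, 2), (8, 1, 1), (3, 1, 1)] (by decide +kernel)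
theorem u6_rels : Rels (u6_f.map (ev fi22X)) (u6_odd :: u6_W) :=
  rels_expL.1 (fi22M.rels (fixR_of_relA (K := 12) fi22_valb (by decide +kernel)))
theorem u6_stab : MulAction.stabilizer Cfsg.Spor.Fi22 (pts fi22Hom 0) = cl (u6_f.map (ev fi22X)) :=
  stab_eq_of_le fi22M.inj fi22M.acts fi22M.top (by norm_num) fi22_tr (m := 18393661440) fi22_card (by decide +kernel) u6_lb
theorem u6_cls : Cls0 (u6_f.map (ev fi22X)) = U22 := by
  have hm : ∀ p ∈ u6_P, pv fi22X p ∈ u6_f.map (ev fi22X) := fun p hp =>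
    List.mem_map_of_mem ((by decide +kernel : ∀ p ∈ u6_P, ptW p ∈ u6_f) p hp)
  ext y
  constructor
  · rintro ⟨g, hg, rfl⟩
    rw [← u6_stab, ← fi22_tt.2.1] at hg
    exact conj_mem_nb t22M.cj (Subgroup.mem_centralizer_singleton_iff.1 hg)
      ((t22M.mem_iff u22R (p := (3, [])) (by decide)).1 (by decide +kernel))
  · intro hy
    obtain ⟨j, hj, rfl⟩ := u22R.1 y hy
    refine (t22M.orb_pts (P := u6_P) (R := [(3, [])]) (by decide) (by decide) (· ∈ Cls0 (u6_f.map (ev fi22X)))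
      (List.forall_mem_singleton.2 ⟨1, one_mem _, by rw [one_mul, inv_one, mul_one]; rfl⟩) ?_ 4
      (subM_iff (by decide +kernel) ((u22R.2 j).2 ⟨hj, hy⟩))).2
    rintro p hp _ ⟨g, hg, rfl⟩
    exact ⟨_, mul_mem (mem_cl (hm p hp)) hg, by group⟩

theorem u6_main {F : Type} [Field F] [Fintype F] (hF : Fintype.card F = 4) :
    IsNonsplitDoubleCover (cl (u6_f.map (ev fi22X))) (PSU 6 F 2) ∧ ∃ a : PSU 6 F 2, (∃ σ, FIso U22 (conjugatesOf a) σ) ∧
      ∀ x, orderOf x = 2 → (∀ g, (x * (g * x * g⁻¹)) ^ 6 = 1) → x ∈ conjugatesOf a := by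
  obtain ⟨ys, e, M, hq⟩ := psu_mdl hF
  have : Finite (PSU 6 F 2) := Nat.finite_of_card_ne_zero (by rw [psu_card hF]; norm_num)
  have := H22.PSU_isSimpleGroup (q := 2) hF 6 (by norm_num) (by norm_num)
  obtain ⟨-, e', a, he, hi⟩ := u6_acts (xs := u6_f.map (ev fi22X)) rfl (fun w hw => u6_rels w (List.mem_cons_of_mem _ hw))
    fun w hw => by
      rw [ev_expand]
      exact ev_ne_one fi22M.inj fi22M.acts _ 6 ((allL_iff _ _).1 (by decide +kernel : allL u6_Rp (fun w =>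
        and' (Nat.ble 7 3510) (not' (Nat.beq (fnW fi22_Mb (expand u6_f (0 :: cjW w 0)) 6) 6))) = true) w hw)
  obtain ⟨π, h1, h2⟩ := hom_of_same a he M
  refine ⟨nonsplit_of_hom π (surj_of_ev π M.top fun i => ⟨_, h1 [i]⟩) ?_
    (center_eq_bot_of_simple (a := ev ys [0]) (b := ev ys [1]) ?_) (no_index_two (length_subL _)
      (rels_subL (R := u6_odd :: u6_R) fun w hw => u6_rels w ?_) (cl_subL _) u6o_i1), _, ?_,
    fun x => u6_tt M hq (psu_card hF)⟩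
  · rw [← u6_stab, psu_card hF]
    exact card_stab_of_trans fi22M.inj fi22M.acts fi22M.top (by norm_num) fi22_tr fi22_card
  · rw [← ev_append, ← ev_append]
    exact ev_ne M.inj M.acts _ _ 0 (by decide +kernel)
  · rw [u6_W, catL_eq]
    exact (List.mem_cons.1 hw).elim (fun h => h ▸ List.mem_cons_self) fun h => List.mem_cons_of_mem _ (List.mem_append_left _ h)
  · obtain ⟨σ, f, -⟩ := fiso_cls0 t22M.tt t22M.cj (X := u6_f.map (ev fi22X)) (fun y hy => by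
      obtain ⟨w, hw, rfl⟩ := List.mem_map.1 hy
      obtain ⟨p, hp, rfl⟩ := (by decide +kernel : ∀ w ∈ u6_f, ∃ p ∈ u6_P, ptW p = w) w hw
      exact t22M.pv_mem ((by decide : ∀ p ∈ u6_P, p.1 < 9) p hp)) M.top (π := π)
      (fun w => (congrArg π (Subtype.ext (coe_ev_subL _ w))).trans (h1 w)) (fun g hg y hy => by
        obtain ⟨i, hi, h⟩ := hi y hy
        have := h2 g hg i hi
        rwa [h, smul_cj, cj_inj, conj_eq_iff_commute] at this) (j := 1)
      (mt (t22M.comm_iff (p := (3, [])) (q := (2, [])) (by decide) (by decide)).2 (by decide +kernel))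
    exact ⟨σ, u6_cls ▸ f⟩

theorem fi22_cover {F : Type} [Field F] [Fintype F] (hF : Fintype.card F = 4) :
    IsNonsplitDoubleCover (MulAction.stabilizer Cfsg.Spor.Fi22 (pts fi22Hom 0)) (PSU 6 F 2) := u6_stab ▸ (u6_main hF).1
end
end H28
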