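import Cfsg.Agent.H28.T23
/-! Traces of points in the Fischer space of Fi23. -/
set_option maxRecDepth 100000
set_option Elab.async false
namespace H28
open H27
noncomputable section
universe u
def s24X : List (Set Cfsg.Spor.Fi23) := [mset t23.n e23 (t23.clo [(2, []), (3, []), (4, []), (5, []), (6, []), (7, []), (8, []), (9, []), (10, []), (1, [1, 2, 3, 4, 9, 10, 5, 4, 9, 6, 7, 5, 6, 3, 4, 5, 2, 3, 4, 9, 10, 6, 4, 5, 2, 3, 4, 9, 8, 7, 6, 5, 4, 3, 2])] 2), mset t23.n e23 (t23.clo [(2, []), (3, []), (4, []), (5, []), (6, []), (7, []), (8, []), (9, []), (10, [])] 6)]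
theorem s24_c1 : Claim E23 3 s24X (List.map (pv x23) [(1, []), (2, []), (3, []), (4, []), (5, []), (6, []), (7, []), (8, []), (9, []), (10, []), (1, [1, 2, 3, 4, 9, 10, 5, 4, 9, 6, 7, 5, 6, 3, 4, 5, 2, 3, 4, 9, 10, 6, 4, 5, 2, 3, 4, 9, 8, 7, 6, 5, 4, 3, 2])]) := t23M.bad e23R 1 [(7, []), (3, []), (1, [])] (0, []) (5, []) (by decide +kernel)
theorem s24_c2 : Claim E23 3 s24X (List.map (pv x23) [(2, []), (3, []), (4, []), (5, []), (6, []), (7, []), (8, []), (9, []), (10, []), (1, [1, 2, 3, 4, 9, 10, 5, 4, 9, 6, 7, 5, 6, 3, 4, 5, 2, 3, 4, 9, 10, 6, 4, 5, 2, 3, 4, 9, 8, 7, 6, 5, 4, 3, 2])]) := t23M.fin e23R e23C 2 [(1, [])] 4 (by decide +kernel) (by rw [s24X]; exact List.mem_cons_self) (List.forall_mem_cons.2 ⟨s24_c1, (fun _ h => by cases h)⟩)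
theorem s24_c3 : Claim E23 3 s24X (List.map (pv x23) [(1, []), (2, []), (3, []), (4, []), (5, []), (6, []), (7, []), (8, []), (9, []), (10, [])]) := t23M.bad e23R 1 [(4, []), (2, []), (4, [9, 5])] (1, [5, 4, 3, 2]) (1, [9, 4, 3, 2]) (by decide +kernel)
theorem s24_c4 : Claim E23 3 s24X (List.map (pv x23) [(1, [1, 2, 3, 4, 9, 10, 5, 4, 9, 6, 7, 5, 6, 3, 4, 5, 2, 3, 4, 9, 10, 6, 4, 5, 2, 3, 4, 9, 8, 7, 6, 5, 4, 3, 2]), (2, []), (3, []), (4, []), (5, []), (6, []), (7, []), (8, []), (9, []), (10, [])]) := t23M.sym e23R e23C 0 [] (by decide +kernel) s24_c2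
theorem s24_c5 : Claim E23 3 s24X (List.map (pv x23) [(2, []), (3, []), (4, []), (5, []), (6, []), (7, []), (8, []), (9, []), (10, [])]) := t23M.fin e23R e23C 6 [(1, []), (1, [1, 2, 3, 4, 9, 10, 5, 4, 9, 6, 7, 5, 6, 3, 4, 5, 2, 3, 4, 9, 10, 6, 4, 5, 2, 3, 4, 9, 8, 7, 6, 5, 4, 3, 2])] 8 (by decide +kernel) (by rw [s24X]; exact List.mem_cons_of_mem _ (List.mem_cons_self)) (List.forall_mem_cons.2 ⟨s24_c3, (List.forall_mem_cons.2 ⟨s24_c4, (fun _ h => by cases h)⟩)⟩)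
theorem s24_c6 : Claim E23 3 s24X (List.map (pv x23) [(6, [8, 7]), (0, []), (2, []), (3, []), (4, []), (5, []), (6, []), (7, []), (9, []), (10, [])]) := t23M.sym e23R e23C 1 [] (by decide +kernel) s24_c5
theorem s24_c7 : Claim E23 3 s24X (List.map (pv x23) [(0, [9, 10, 2, 3, 4, 9, 1, 2, 3, 4, 5, 6, 7, 8]), (0, []), (2, []), (3, []), (4, []), (5, []), (6, []), (7, []), (9, []), (10, [])]) := t23M.bad e23R 2 [(0, []), (4, []), (7, [])] (2, [9, 4, 3]) (1, [3, 4, 9, 5, 4, 3, 2]) (by decide +kernel)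
theorem s24_c8 : Claim E23 3 s24X (List.map (pv x23) [(0, [6, 7, 5, 6, 4, 5, 3, 4, 9, 10, 6, 5, 2, 3, 4, 9, 1, 2, 3, 4, 5, 6, 7, 8]), (0, []), (2, []), (3, []), (4, []), (5, []), (6, []), (7, []), (9, []), (10, [])]) := t23M.bad e23R 2 [(0, []), (7, []), (3, [])] (5, []) (1, []) (by decide +kernel)
theorem s24_c9 : Claim E23 3 s24X (List.map (pv x23) [(0, [8, 7, 5, 6, 4, 5, 3, 4, 9, 10, 6, 5, 2, 3, 4, 9, 1, 2, 3, 4, 5, 6, 7, 8]), (0, []), (2, []), (3, []), (4, []), (5, []), (6, []), (7, []), (9, []), (10, [])]) := t23M.bad e23R 2 [(0, []), (7, []), (3, [])] (2, [5, 6, 4, 5, 3, 4, 9, 7, 6, 5, 4, 3]) (1, [6, 4, 5, 3, 4, 9, 7, 6, 5, 4, 3, 2]) (by decide +kernel)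
theorem s24_c10 : Claim E23 3 s24X (List.map (pv x23) [(0, []), (2, []), (3, []), (4, []), (5, []), (6, []), (7, []), (9, []), (10, [])]) := t23M.br e23R e23C 0 [(7, []), (10, []), (3, [])] (6, [8, 7]) [(1, []), (2, [4, 3]), (6, [8, 7])] [] [(6, [8, 7]), (0, [9, 10, 2, 3, 4, 9, 1, 2, 3, 4, 5, 6, 7, 8]), (0, [6, 7, 5, 6, 4, 5, 3, 4, 9, 10, 6, 5, 2, 3, 4, 9, 1, 2, 3, 4, 5, 6, 7, 8]), (0, [8, 7, 5, 6, 4, 5, 3, 4, 9, 10, 6, 5, 2, 3, 4, 9, 1, 2, 3, 4, 5, 6, 7, 8])] 0 (by decide +kernel) (List.forall_mem_cons.2 ⟨s24_c6, (List.forall_mem_cons.2 ⟨s24_c7, (List.forall_mem_cons.2 ⟨s24_c8, (List.forall_mem_cons.2 ⟨s24_c9, (fun _ h => by cases h)⟩)⟩)⟩)⟩)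
theorem s24_c11 : Claim E23 3 s24X (List.map (pv x23) [(5, [7, 6]), (0, []), (1, []), (2, []), (3, []), (4, []), (5, []), (6, []), (9, []), (10, [])]) := t23M.bad e23R 0 [(0, []), (1, []), (3, [])] (6, []) (5, [7, 6]) (by decide +kernel)
theorem s24_c12 : Claim E23 3 s24X (List.map (pv x23) [(0, [9, 10, 8, 7, 6, 5, 2, 3, 4, 9, 1, 2, 3, 4, 5, 6, 7, 8]), (0, []), (1, []), (2, []), (3, []), (4, []), (5, []), (6, []), (9, []), (10, [])]) := t23M.bad e23R 0 [(0, []), (10, []), (1, [])] (3, []) (0, [9, 10, 8, 7, 6, 5, 2, 3, 4, 9, 1, 2, 3, 4, 5, 6, 7, 8]) (by decide +kernel)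
theorem s24_c13 : Claim E23 3 s24X (List.map (pv x23) [(0, [7, 6, 4, 5, 3, 4, 9, 10, 8, 7, 6, 5, 2, 3, 4, 9, 1, 2, 3, 4, 5, 6, 7, 8]), (0, []), (1, []), (2, []), (3, []), (4, []), (5, []), (6, []), (9, []), (10, [])]) := t23M.bad e23R 2 [(0, []), (4, []), (6, [])] (1, [5, 4, 9, 6, 5, 4, 3, 2]) (2, [5, 6, 4, 5, 3, 4, 9, 7, 6, 5, 4, 3]) (by decide +kernel)
theorem s24_c14 : Claim E23 3 s24X (List.map (pv x23) [(0, [5, 6, 4, 5, 3, 4, 9, 10, 8, 7, 6, 5, 2, 3, 4, 9, 1, 2, 3, 4, 5, 6, 7, 8]), (0, []), (1, []), (2, []), (3, []), (4, []), (5, []), (6, []), (9, []), (10, [])]) := t23M.bad e23R 0 [(0, []), (10, []), (1, [])] (6, []) (0, [5, 6, 4, 5, 3, 4, 9, 10, 8, 7, 6, 5, 2, 3, 4, 9, 1, 2, 3, 4, 5, 6, 7, 8]) (by decide +kernel)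
theorem s24_c15 : Claim E23 3 s24X (List.map (pv x23) [(0, []), (1, []), (2, []), (3, []), (4, []), (5, []), (6, []), (9, []), (10, [])]) := t23M.br e23R e23C 0 [(6, []), (10, []), (3, [])] (5, [7, 6]) [(0, []), (2, [8, 7, 6, 5, 4, 3]), (1, [])] [] [(5, [7, 6]), (0, [9, 10, 8, 7, 6, 5, 2, 3, 4, 9, 1, 2, 3, 4, 5, 6, 7, 8]), (0, [7, 6, 4, 5, 3, 4, 9, 10, 8, 7, 6, 5, 2, 3, 4, 9, 1, 2, 3, 4, 5, 6, 7, 8]), (0, [5, 6, 4, 5, 3, 4, 9, 10, 8, 7, 6, 5, 2, 3, 4, 9, 1, 2, 3, 4, 5, 6, 7, 8])] 0 (by decide +kernel) (List.forall_mem_cons.2 ⟨s24_c11, (List.forall_mem_cons.2 ⟨s24_c12, (List.forall_mem_cons.2 ⟨s24_c13, (List.forall_mem_cons.2 ⟨s24_c14, (fun _ h => by cases h)⟩)⟩)⟩)⟩)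
theorem s24_c16 : Claim E23 3 s24X (List.map (pv x23) [(4, [9, 5]), (3, []), (7, []), (6, []), (5, []), (10, []), (0, []), (2, []), (4, [])]) := t23M.sym e23R e23C 1 [] (by decide +kernel) s24_c10
theorem s24_c17 : Claim E23 3 s24X (List.map (pv x23) [(1, [6, 3, 4, 5, 2, 3, 4, 9, 7, 6, 5, 4, 3, 2]), (3, []), (7, []), (6, []), (5, []), (10, []), (0, []), (2, []), (4, [])]) := t23M.sym e23R e23C 3 [1, 2, 3, 4, 5, 6, 7] (by decide +kernel) s24_c15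
theorem s24_c18 : Claim E23 3 s24X (List.map (pv x23) [(1, [9, 5, 6, 3, 4, 5, 2, 3, 4, 9, 7, 6, 5, 4, 3, 2]), (3, []), (7, []), (6, []), (5, []), (10, []), (0, []), (2, []), (4, [])]) := t23M.bad e23R 1 [(0, []), (4, []), (1, [9, 5, 6, 3, 4, 5, 2, 3, 4, 9, 7, 6, 5, 4, 3, 2])] (2, [5, 4, 3]) (1, [9, 6, 4, 5, 3, 4, 9, 7, 6, 5, 4, 3, 2]) (by decide +kernel)
theorem s24_c19 : Claim E23 3 s24X (List.map (pv x23) [(1, [6, 5, 4, 9, 3, 4, 5, 2, 3, 4, 9, 6, 5, 4, 3, 2]), (3, []), (7, []), (6, []), (5, []), (10, []), (0, []), (2, []), (4, [])]) := t23M.bad e23R 2 [(0, []), (4, []), (7, [])] (1, [9, 5, 6, 3, 4, 5, 2, 3, 4, 9, 7, 6, 5, 4, 3, 2]) (1, [6, 5, 4, 9, 3, 4, 5, 2, 3, 4, 9, 6, 5, 4, 3, 2]) (by decide +kernel)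
theorem s24_c20 : Claim E23 3 s24X (List.map (pv x23) [(3, []), (7, []), (6, []), (5, []), (10, []), (0, []), (2, []), (4, [])]) := t23M.br e23R e23C 0 [(0, []), (4, []), (7, [])] (4, [9, 5]) [(2, []), (1, []), (4, [9, 5])] [] [(4, [9, 5]), (1, [6, 3, 4, 5, 2, 3, 4, 9, 7, 6, 5, 4, 3, 2]), (1, [9, 5, 6, 3, 4, 5, 2, 3, 4, 9, 7, 6, 5, 4, 3, 2]), (1, [6, 5, 4, 9, 3, 4, 5, 2, 3, 4, 9, 6, 5, 4, 3, 2])] 0 (by decide +kernel) (List.forall_mem_cons.2 ⟨s24_c16, (List.forall_mem_cons.2 ⟨s24_c17, (List.forall_mem_cons.2 ⟨s24_c18, (List.forall_mem_cons.2 ⟨s24_c19, (fun _ h => by cases h)⟩)⟩)⟩)⟩)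
theorem s24_c21 : Claim E23 3 s24X (List.map (pv x23) [(1, [9, 10, 6, 5, 2, 3, 4, 9, 7, 6, 5, 4, 3, 2]), (7, []), (6, []), (5, []), (10, []), (0, []), (2, []), (4, [])]) := t23M.bad e23R 2 [(0, []), (4, []), (2, [])] (7, []) (1, [9, 10, 4, 9, 3, 4, 5, 2, 3, 4, 9, 10, 4, 5, 6, 3, 4, 5, 2, 3, 4, 9, 7, 6, 5, 4, 3, 2]) (by decide +kernel)
theorem s24_c22 : Claim E23 3 s24X (List.map (pv x23) [(1, [4, 5, 3, 4, 9, 10, 6, 5, 2, 3, 4, 9, 7, 6, 5, 4, 3, 2]), (7, []), (6, []), (5, []), (10, []), (0, []), (2, []), (4, [])]) := t23M.bad e23R 2 [(0, []), (4, []), (2, [])] (6, []) (1, [9, 10, 4, 9, 5, 6, 3, 4, 5, 2, 3, 4, 9, 10, 6, 5, 2, 3, 4, 9, 7, 6, 5, 4, 3, 2]) (by decide +kernel)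
theorem s24_c23 : Claim E23 3 s24X (List.map (pv x23) [(1, [2, 3, 4, 5, 1, 2, 3, 4, 9, 10, 4, 5, 6, 3, 4, 5, 2, 3, 4, 9, 7, 6, 5, 4, 3, 2]), (7, []), (6, []), (5, []), (10, []), (0, []), (2, []), (4, [])]) := t23M.bad e23R 1 [(0, []), (6, []), (5, [7, 6])] (1, [7, 6, 4, 5, 3, 4, 9, 10, 4, 5, 6, 3, 4, 5, 2, 3, 4, 9, 7, 6, 5, 4, 3, 2]) (1, [5, 6, 4, 5, 3, 4, 9, 10, 4, 5, 6, 3, 4, 5, 2, 3, 4, 9, 7, 6, 5, 4, 3, 2]) (by decide +kernel)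
theorem s24_c24 : Claim E23 3 s24X (List.map (pv x23) [(7, []), (6, []), (5, []), (10, []), (0, []), (2, []), (4, [])]) := t23M.br e23R e23C 0 [(0, []), (10, []), (5, [])] (3, []) [(7, []), (2, [6, 5, 4, 3]), (3, [])] [] [(3, []), (1, [9, 10, 6, 5, 2, 3, 4, 9, 7, 6, 5, 4, 3, 2]), (1, [4, 5, 3, 4, 9, 10, 6, 5, 2, 3, 4, 9, 7, 6, 5, 4, 3, 2]), (1, [2, 3, 4, 5, 1, 2, 3, 4, 9, 10, 4, 5, 6, 3, 4, 5, 2, 3, 4, 9, 7, 6, 5, 4, 3, 2])] 0 (by decide +kernel) (List.forall_mem_cons.2 ⟨s24_c20, (List.forall_mem_cons.2 ⟨s24_c21, (List.forall_mem_cons.2 ⟨s24_c22, (List.forall_mem_cons.2 ⟨s24_c23, (fun _ h => by cases h)⟩)⟩)⟩)⟩)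
theorem s24_c25 : Claim E23 3 s24X (List.map (pv x23) [(6, []), (5, []), (10, []), (0, []), (2, []), (4, [])]) := t23M.br e23R e23C 0 [(0, []), (2, []), (10, [])] (7, []) [(7, []), (5, []), (4, [])] [[7, 6, 5, 4, 3, 2, 1, 2, 3, 4, 5, 6, 7], [1, 2, 3, 4, 9, 10, 5, 4, 9, 6, 5, 4, 3, 4, 5, 6, 9, 4, 5, 10, 9, 4, 3, 2, 1], [7, 6, 5, 4, 9, 10, 8, 7, 6, 5, 3, 4, 9, 2, 3, 4, 5, 6, 7, 8, 0, 8, 7, 6, 5, 4, 3, 2, 9, 4, 3, 5, 6, 7, 8, 10, 9, 4, 5, 6, 7]] [(7, [])] 1 (by decide +kernel) (List.forall_mem_cons.2 ⟨s24_c24, (fun _ h => by cases h)⟩)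
theorem s24_c26 : Claim E23 3 s24X (List.map (pv x23) [(5, []), (10, []), (0, []), (2, []), (4, [])]) := t23M.br e23R e23C 0 [(0, []), (2, []), (10, [])] (6, []) [(6, []), (4, []), (5, [7, 6])] [[7], [9, 10, 4, 9, 5, 4, 3, 2, 1, 2, 3, 4, 5, 9, 4, 10, 9], [3, 4, 5, 2, 3, 4, 9, 10, 4, 9, 6, 3, 4, 5, 2, 3, 4, 9, 7, 6, 5, 4, 3, 2, 1, 2, 3, 4, 5, 6, 7, 9, 4, 3, 2, 5, 4, 3, 6, 9, 4, 10, 9, 4, 3, 2, 5, 4, 3]] [(6, [])] 1 (by decide +kernel) (List.forall_mem_cons.2 ⟨s24_c25, (fun _ h => by cases h)⟩)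
theorem s24_c27 : Claim E23 3 s24X (List.map (pv x23) [(10, []), (0, []), (2, []), (4, [])]) := t23M.br e23R e23C 0 [(0, []), (2, []), (10, [])] (5, []) [(7, []), (4, [6, 5]), (5, [])] [[6], [9, 10, 4, 9, 7, 6, 5, 4, 3, 2, 1, 2, 3, 4, 5, 6, 7, 9, 4, 10, 9], [5, 4, 9, 10, 3, 4, 9, 5, 4, 3, 2, 3, 4, 5, 9, 4, 3, 10, 9, 4, 5]] [(5, [])] 2 (by decide +kernel) (List.forall_mem_cons.2 ⟨s24_c26, (fun _ h => by cases h)⟩)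
theorem s24_c28 : Claim E23 3 s24X (List.map (pv x23) [(0, []), (2, []), (4, [])]) := t23M.br e23R e23C 0 [(0, []), (2, []), (4, [])] (10, []) [(7, []), (6, []), (10, [])] [[9, 5, 4, 5, 9], [6, 5, 4, 9, 7, 6, 5, 4, 3, 2, 1, 2, 3, 4, 5, 6, 7, 9, 4, 5, 6], [3, 4, 9, 6, 5, 4, 3, 2, 3, 4, 5, 6, 9, 4, 3]] [(10, [])] 2 (by decide +kernel) (List.forall_mem_cons.2 ⟨s24_c27, (fun _ h => by cases h)⟩)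
theorem s24_top : Claim E23 3 s24X (List.map (pv x23) [(0, []), (2, []), (4, [])]) := s24_c28
def rc24 : List (List Nat) := [[0, 0], [1, 1], [2, 2], [3, 3], [4, 4], [5, 5], [6, 6], [7, 7], [8, 8], [9, 9], [10, 10], [11, 11], [0, 1, 0, 1, 0, 1], [0, 2, 0, 2], [0, 3, 0, 3], [0, 4, 0, 4], [0, 5, 0, 5], [0, 6, 0, 6], [0, 7, 0, 7], [0, 8, 0, 8], [0, 9, 0, 9], [0, 10, 0, 10], [0, 11, 0, 11], [1, 2, 1, 2, 1, 2], [1, 3, 1, 3], [1, 4, 1, 4], [1, 5, 1, 5], [1, 6, 1, 6], [1, 7, 1, 7], [1, 8, 1, 8], [1, 9, 1, 9], [1, 10, 1, 10], [1, 11, 1, 11], [2, 3, 2, 3, 2, 3], [2, 4, 2, 4], [2, 5, 2, 5], [2, 6, 2, 6], [2, 7, 2, 7], [2, 8, 2, 8], [2, 9, 2, 9], [2, 10, 2, 10], [2, 11, 2, 11], [3, 4, 3, 4, 3, 4], [3, 5, 3, 5], [3, 6, 3, 6], [3, 7, 3, 7], [3, 8, 3, 8], [3, 9, 3, 9], [3,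 10, 3, 10], [3, 11, 3, 11], [4, 5, 4, 5, 4, 5], [4, 6, 4, 6], [4, 7, 4, 7], [4, 8, 4, 8], [4, 9, 4, 9], [4, 10, 4, 10], [4, 11, 4, 11], [5, 6, 5, 6, 5, 6], [5, 7, 5, 7], [5, 8, 5, 8], [5, 9, 5, 9], [5, 10, 5, 10, 5, 10], [5, 11, 5, 11], [6, 7, 6, 7, 6, 7], [6, 8, 6, 8], [6, 9, 6, 9], [6, 10, 6, 10], [6, 11, 6, 11], [7, 8, 7, 8, 7, 8], [7, 9, 7, 9], [7, 10, 7, 10], [7, 11, 7, 11], [8, 9, 8, 9, 8, 9], [8, 10, 8, 10], [8, 11, 8, 11], [9, 10, 9, 10], [9, 11, 9, 11], [10, 11, 10, 11, 10, 11]]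
def nc24 : List (Nat × Nat) := [(0, 1), (1, 2), (2, 3), (3, 4), (4, 5), (5, 6), (5, 10), (6, 7), (7, 8), (8, 9), (10, 11)]
def r24W : List Nat := pwW 9 [2, 3, 4, 5, 6, 7, 10]
def y23 : List Pt := [(1, []), (2, []), (3, []), (4, []), (5, []), (6, []), (7, []), (8, []), (9, []), (10, [])]
def s24P0 : List Pt := [(2, []), (3, []), (4, []), (5, []), (6, []), (7, []), (8, []), (9, []), (10, []), (1, [1, 2, 3, 4, 9, 10, 5, 4, 9, 6, 7, 5, 6, 3, 4, 5, 2, 3, 4, 9, 10, 6, 4, 5, 2, 3, 4, 9, 8, 7, 6, 5, 4, 3, 2])]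
theorem s24_f0 : t23.cfChk (ones 31671) (t23.clo s24P0 2) y23 rc24 [r24W] [] nc24 [] = true := by decide +kernel
def s24P1 : List Pt := [(2, []), (3, []), (4, []), (5, []), (6, []), (7, []), (8, []), (9, []), (10, [])]
theorem s24_f1 : t23.cfChk (ones 31671) (t23.clo s24P1 6) y23 rc24 [r24W] [] nc24 [] = true := by decide +kernel
theorem s24X_eq : s24X = [mset 31671 e23 (t23.clo s24P0 2), mset 31671 e23 (t23.clo s24P1 6)] := rfl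
theorem y23_clo : subM (ones 31671) (t23.clo y23 9) = true := by decide +kernel
theorem s24_t0 : TrC E23 (List.map (pv x23) [(4, [])]) := TrC.cons (trC_nil e23C : TrC E23 (List.map (pv x23) []))
  (t23M.trn e23R e23C (t23M.rep_nb (l := []) (by decide) e23R) (l := []) (R := [(4, [])]) (Ws := [[3], [5], [9], [2], [4], [6], [10], [1], [7], [8]]) (r := 7) (by decide +kernel))
theorem s24_t1 : TrC E23 (List.map (pv x23) [(2, []), (4, [])]) := TrC.cons s24_t0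
  (t23M.trn e23R e23C (t23M.rep_nb (l := [(4, [])]) (by decide) e23R) (l := [(4, [])]) (R := [(2, [])]) (Ws := [[1], [5, 4, 3, 4, 5], [9, 10, 4, 9, 6, 5, 4, 3, 4, 5, 6, 9, 4, 10, 9], [3, 4, 9, 7, 6, 5, 4, 3, 2, 3, 4, 5, 6, 7, 9, 4, 3], [9, 8, 7, 6, 5, 4, 5, 6, 7, 8, 9], [2]]) (r := 6) (by decide +kernel))
theorem s24_t2 : TrC E23 (List.map (pv x23) [(0, []), (2, []), (4, [])]) := TrC.cons s24_t1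
  (t23M.trn e23R e23C (t23M.rep_nb (l := [(2, []), (4, [])]) (by decide) e23R) (l := [(2, []), (4, [])]) (R := [(0, [])]) (Ws := [[8], [7, 8, 0, 8, 7], [0], [6, 5, 4, 9, 7, 6, 5, 4, 3, 2, 1, 2, 3, 4, 5, 6, 7, 9, 4, 5, 6], [10, 3, 4, 9, 6, 5, 4, 3, 2, 3, 4, 5, 6, 9, 4, 3, 10], [9, 6, 5, 4, 5, 6, 9]]) (r := 5) (by decide +kernel))
def s24e_p1E : List Net := []
def s24e_p1W : List (List Nat) := [[6, 5, 4, 3, 2, 1, 0, 7, 5, 4, 3, 2, 1, 0, 7, 5, 4, 3, 2, 1, 0, 7, 5, 4, 3, 2, 1, 0, 7, 5, 4, 3, 2, 1, 0, 7, 5, 4, 3, 2, 1, 0, 7, 5, 4, 3, 2, 1, 0, 7, 5, 4, 3, 2, 1, 0, 7, 5, 4, 3, 2, 1, 0, 7, 6, 7, 0, 1, 2, 3, 4, 5, 7, 0, 1, 2, 3, 4, 5, 7, 0, 1, 2, 3, 4, 5, 7, 0, 1, 2, 3, 4, 5, 7, 0, 1, 2, 3, 4, 5, 7, 0, 1, 2, 3, 4, 5, 7, 0, 1, 2, 3, 4, 5, 7, 0, 1, 2, 3, 4, 5, 7, 0, 1,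 2, 3, 4, 5, 6, 5, 6, 5, 4, 3, 2, 1, 0, 7, 5, 4, 3, 2, 1, 0, 7, 5, 4, 3, 2, 1, 0, 7, 5, 4, 3, 2, 1, 0, 7, 5, 4, 3, 2, 1, 0, 7, 5, 4, 3, 2, 1, 0, 7, 5, 4, 3, 2, 1, 0, 7, 5, 4, 3, 2, 1, 0, 7, 5, 4, 3, 2, 1, 0, 7, 6, 7, 0, 1, 2, 3, 4, 5, 7, 0, 1, 2, 3, 4, 5, 7, 0, 1, 2, 3, 4, 5, 7, 0, 1, 2, 3, 4, 5, 7, 0, 1, 2, 3, 4, 5, 7, 0, 1, 2, 3, 4, 5, 7, 0, 1, 2, 3, 4, 5, 7, 0, 1, 2, 3, 4, 5, 7, 0, 1, 2, 3, 4, 5, 6, 5], [6, 5, 4, 3, 2, 1, 0, 7, 5, 4, 3, 2, 1, 0, 7, 5, 4, 3, 2, 1, 0, 7, 5, 4, 3, 2, 1, 0, 7, 5, 4, 3, 2, 1, 0, 7, 5, 4, 3, 2, 1, 0, 7, 5, 4, 3, 2, 1, 0, 7, 5, 4, 3, 2, 1, 0, 7, 5, 4, 3, 2, 1, 0, 7, 6, 7, 0, 1, 2, 3, 4, 5, 7, 0, 1, 2, 3, 4, 5, 7, 0, 1, 2, 3, 4, 5, 7, 0, 1, 2, 3, 4, 5, 7, 0, 1, 2, 3, 4, 5, 7, 0, 1, 2, 3, 4, 5, 7, 0, 1, 2, 3, 4, 5, 7, 0, 1, 2, 3, 4,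 5, 7, 0, 1, 2, 3, 4, 5, 6, 4, 6, 5, 4, 3, 2, 1, 0, 7, 5, 4, 3, 2, 1, 0, 7, 5, 4, 3, 2, 1, 0, 7, 5, 4, 3, 2, 1, 0, 7, 5, 4, 3, 2, 1, 0, 7, 5, 4, 3, 2, 1, 0, 7, 5, 4, 3, 2, 1, 0, 7, 5, 4, 3, 2, 1, 0, 7, 5, 4, 3, 2, 1, 0, 7, 6, 7, 0, 1, 2, 3, 4, 5, 7, 0, 1, 2, 3, 4, 5, 7, 0, 1, 2, 3, 4, 5, 7, 0, 1, 2, 3, 4, 5, 7, 0, 1, 2, 3, 4, 5, 7, 0, 1, 2, 3, 4, 5, 7, 0, 1, 2, 3, 4, 5, 7, 0, 1, 2, 3, 4, 5, 7, 0, 1, 2, 3, 4, 5, 6, 4], [6, 5, 4, 3, 2, 1, 0, 7, 5, 4, 3, 2, 1, 0, 7, 5, 4, 3, 2, 1, 0, 7, 5, 4, 3, 2, 1, 0, 7, 5, 4, 3, 2, 1, 0, 7, 5, 4, 3, 2, 1, 0, 7, 5, 4, 3, 2, 1, 0, 7, 5, 4, 3, 2, 1, 0, 7, 5, 4, 3, 2, 1, 0, 7, 6, 7, 0, 1, 2, 3, 4, 5, 7, 0, 1, 2, 3, 4, 5, 7, 0, 1, 2, 3, 4, 5, 7, 0, 1, 2, 3, 4, 5, 7, 0, 1, 2, 3, 4, 5, 7, 0, 1, 2, 3, 4, 5, 7, 0, 1, 2, 3, 4, 5, 7, 0,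 1, 2, 3, 4, 5, 7, 0, 1, 2, 3, 4, 5, 6, 3, 6, 5, 4, 3, 2, 1, 0, 7, 5, 4, 3, 2, 1, 0, 7, 5, 4, 3, 2, 1, 0, 7, 5, 4, 3, 2, 1, 0, 7, 5, 4, 3, 2, 1, 0, 7, 5, 4, 3, 2, 1, 0, 7, 5, 4, 3, 2, 1, 0, 7, 5, 4, 3, 2, 1, 0, 7, 5, 4, 3, 2, 1, 0, 7, 6, 7, 0, 1, 2, 3, 4, 5, 7, 0, 1, 2, 3, 4, 5, 7, 0, 1, 2, 3, 4, 5, 7, 0, 1, 2, 3, 4, 5, 7, 0, 1, 2, 3, 4, 5, 7, 0, 1, 2, 3, 4, 5, 7, 0, 1, 2, 3, 4, 5, 7, 0, 1, 2, 3, 4, 5, 7, 0, 1, 2, 3, 4, 5, 6, 3], [6, 5, 4, 3, 2, 1, 0, 7, 5, 4, 3, 2, 1, 0, 7, 5, 4, 3, 2, 1, 0, 7, 5, 4, 3, 2, 1, 0, 7, 5, 4, 3, 2, 1, 0, 7, 5, 4, 3, 2, 1, 0, 7, 5, 4, 3, 2, 1, 0, 7, 5, 4, 3, 2, 1, 0, 7, 5, 4, 3, 2, 1, 0, 7, 6, 7, 0, 1, 2, 3, 4, 5, 7, 0, 1, 2, 3, 4, 5, 7, 0, 1, 2, 3, 4, 5, 7, 0, 1, 2, 3, 4, 5, 7, 0, 1, 2, 3, 4, 5, 7, 0, 1, 2, 3, 4, 5, 7, 0, 1, 2, 3,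 4, 5, 7, 0, 1, 2, 3, 4, 5, 7, 0, 1, 2, 3, 4, 5, 6, 2, 6, 5, 4, 3, 2, 1, 0, 7, 5, 4, 3, 2, 1, 0, 7, 5, 4, 3, 2, 1, 0, 7, 5, 4, 3, 2, 1, 0, 7, 5, 4, 3, 2, 1, 0, 7, 5, 4, 3, 2, 1, 0, 7, 5, 4, 3, 2, 1, 0, 7, 5, 4, 3, 2, 1, 0, 7, 5, 4, 3, 2, 1, 0, 7, 6, 7, 0, 1, 2, 3, 4, 5, 7, 0, 1, 2, 3, 4, 5, 7, 0, 1, 2, 3, 4, 5, 7, 0, 1, 2, 3, 4, 5, 7, 0, 1, 2, 3, 4, 5, 7, 0, 1, 2, 3, 4, 5, 7, 0, 1, 2, 3, 4, 5, 7, 0, 1, 2, 3, 4, 5, 7, 0, 1, 2, 3, 4, 5, 6, 2], [6, 5, 4, 3, 2, 1, 0, 7, 5, 4, 3, 2, 1, 0, 7, 5, 4, 3, 2, 1, 0, 7, 5, 4, 3, 2, 1, 0, 7, 5, 4, 3, 2, 1, 0, 7, 5, 4, 3, 2, 1, 0, 7, 5, 4, 3, 2, 1, 0, 7, 5, 4, 3, 2, 1, 0, 7, 5, 4, 3, 2, 1, 0, 7, 6, 7, 0, 1, 2, 3, 4, 5, 7, 0, 1, 2, 3, 4, 5, 7, 0, 1, 2, 3, 4, 5, 7, 0, 1, 2, 3, 4, 5, 7, 0, 1, 2, 3, 4, 5, 7, 0, 1, 2, 3, 4, 5, 7,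 0, 1, 2, 3, 4, 5, 7, 0, 1, 2, 3, 4, 5, 7, 0, 1, 2, 3, 4, 5, 6, 1, 6, 5, 4, 3, 2, 1, 0, 7, 5, 4, 3, 2, 1, 0, 7, 5, 4, 3, 2, 1, 0, 7, 5, 4, 3, 2, 1, 0, 7, 5, 4, 3, 2, 1, 0, 7, 5, 4, 3, 2, 1, 0, 7, 5, 4, 3, 2, 1, 0, 7, 5, 4, 3, 2, 1, 0, 7, 5, 4, 3, 2, 1, 0, 7, 6, 7, 0, 1, 2, 3, 4, 5, 7, 0, 1, 2, 3, 4, 5, 7, 0, 1, 2, 3, 4, 5, 7, 0, 1, 2, 3, 4, 5, 7, 0, 1, 2, 3, 4, 5, 7, 0, 1, 2, 3, 4, 5, 7, 0, 1, 2, 3, 4, 5, 7, 0, 1, 2, 3, 4, 5, 7, 0, 1, 2, 3, 4, 5, 6, 1], [6, 5, 4, 3, 2, 1, 0, 7, 5, 4, 3, 2, 1, 0, 7, 5, 4, 3, 2, 1, 0, 7, 5, 4, 3, 2, 1, 0, 7, 5, 4, 3, 2, 1, 0, 7, 5, 4, 3, 2, 1, 0, 7, 5, 4, 3, 2, 1, 0, 7, 5, 4, 3, 2, 1, 0, 7, 5, 4, 3, 2, 1, 0, 7, 6, 7, 0, 1, 2, 3, 4, 5, 7, 0, 1, 2, 3, 4, 5, 7, 0, 1, 2, 3, 4, 5, 7, 0, 1, 2, 3, 4, 5, 7, 0, 1, 2, 3, 4, 5, 7, 0, 1, 2,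 3, 4, 5, 7, 0, 1, 2, 3, 4, 5, 7, 0, 1, 2, 3, 4, 5, 7, 0, 1, 2, 3, 4, 5, 6, 0, 6, 5, 4, 3, 2, 1, 0, 7, 5, 4, 3, 2, 1, 0, 7, 5, 4, 3, 2, 1, 0, 7, 5, 4, 3, 2, 1, 0, 7, 5, 4, 3, 2, 1, 0, 7, 5, 4, 3, 2, 1, 0, 7, 5, 4, 3, 2, 1, 0, 7, 5, 4, 3, 2, 1, 0, 7, 5, 4, 3, 2, 1, 0, 7, 6, 7, 0, 1, 2, 3, 4, 5, 7, 0, 1, 2, 3, 4, 5, 7, 0, 1, 2, 3, 4, 5, 7, 0, 1, 2, 3, 4, 5, 7, 0, 1, 2, 3, 4, 5, 7, 0, 1, 2, 3, 4, 5, 7, 0, 1, 2, 3, 4, 5, 7, 0, 1, 2, 3, 4, 5, 7, 0, 1, 2, 3, 4, 5, 6, 0], [6, 5, 4, 3, 2, 1, 0, 7, 5, 4, 3, 2, 1, 0, 7, 5, 4, 3, 2, 1, 0, 7, 5, 4, 3, 2, 1, 0, 7, 5, 4, 3, 2, 1, 0, 7, 5, 4, 3, 2, 1, 0, 7, 5, 4, 3, 2, 1, 0, 7, 5, 4, 3, 2, 1, 0, 7, 5, 4, 3, 2, 1, 0, 7, 6, 7, 0, 1, 2, 3, 4, 5, 7, 0, 1, 2, 3, 4, 5, 7, 0, 1, 2, 3, 4, 5, 7, 0, 1, 2, 3, 4, 5, 7, 0, 1, 2, 3, 4, 5,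 7, 0, 1, 2, 3, 4, 5, 7, 0, 1, 2, 3, 4, 5, 7, 0, 1, 2, 3, 4, 5, 7, 0, 1, 2, 3, 4, 5, 6, 7, 6, 5, 4, 3, 2, 1, 0, 7, 5, 4, 3, 2, 1, 0, 7, 5, 4, 3, 2, 1, 0, 7, 5, 4, 3, 2, 1, 0, 7, 5, 4, 3, 2, 1, 0, 7, 5, 4, 3, 2, 1, 0, 7, 5, 4, 3, 2, 1, 0, 7, 5, 4, 3, 2, 1, 0, 7, 5, 4, 3, 2, 1, 0, 7, 6, 7, 0, 1, 2, 3, 4, 5, 7, 0, 1, 2, 3, 4, 5, 7, 0, 1, 2, 3, 4, 5, 7, 0, 1, 2, 3, 4, 5, 7, 0, 1, 2, 3, 4, 5, 7, 0, 1, 2, 3, 4, 5, 7, 0, 1, 2, 3, 4, 5, 7, 0, 1, 2, 3, 4, 5, 7, 0, 1, 2, 3, 4, 5, 6, 7]]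
def s24e_i2T : Tr := (.node 49 (.node 24 (.node 12 (.node 6 (.node 3 (.node 1 (.leaf 2 65 0 0 0 0 0 0 0) (.node 2 (.leaf 2 130 0 0 0 0 0 0 0) (.leaf 2 195 0 0 0 0 0 0 0))) (.node 4 (.leaf 2 260 0 0 0 0 0 0 0) (.node 5 (.leaf 2 325 0 0 0 0 0 0 0) (.leaf 2 390 0 0 0 0 0 0 0)))) (.node 9 (.node 7 (.leaf 2 455 0 0 0 0 0 0 0) (.node 8 (.leaf 2 520 0 0 0 0 0 0 0) (.leaf 2 585 0 0 0 0 0 0 0))) (.node 10 (.leaf 2 650 0 0 0 0 0 0 0) (.node 11 (.leaf 2 715 0 0 0 0 0 0 0) (.leaf 2 780 0 0 0 0 0 0 0))))) (.node 18 (.node 15 (.node 13 (.leaf 6 0x81081081 0 0 0 0 0 0 0) (.node 14 (.leaf 4 790721 0 0 0 0 0 0 0) (.leaf 4 0x101101 0 0 0 0 0 0 0))) (.node 16 (.leaf 4 0x141141 0 0 0 0 0 0 0) (.node 17 (.leaf 4 0x181181 0 0 0 0 0 0 0) (.leaf 4 0x1c11c1 0 0 0 0 0 0 0)))) (.node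 21 (.node 19 (.leaf 4 0x201201 0 0 0 0 0 0 0) (.node 20 (.leaf 4 0x241241 0 0 0 0 0 0 0) (.leaf 4 0x281281 0 0 0 0 0 0 0))) (.node 22 (.leaf 4 0x2c12c1 0 0 0 0 0 0 0) (.node 23 (.leaf 4 0x301301 0 0 0 0 0 0 0) (.leaf 6 0xc20c20c2 0 0 0 0 0 0 0)))))) (.node 36 (.node 30 (.node 27 (.node 25 (.leaf 4 0x102102 0 0 0 0 0 0 0) (.node 26 (.leaf 4 0x142142 0 0 0 0 0 0 0) (.leaf 4 0x182182 0 0 0 0 0 0 0))) (.node 28 (.leaf 4 0x1c21c2 0 0 0 0 0 0 0) (.node 29 (.leaf 4 0x202202 0 0 0 0 0 0 0) (.leaf 4 0x242242 0 0 0 0 0 0 0)))) (.node 33 (.node 31 (.leaf 4 0x282282 0 0 0 0 0 0 0) (.node 32 (.leaf 4 0x2c22c2 0 0 0 0 0 0 0) (.leaf 4 0x302302 0 0 0 0 0 0 0))) (.node 34 (.leaf 6 0x103103103 0 0 0 0 0 0 0) (.node 35 (.leaf 4 0x143143 0 0 0 0 0 0 0) (.leaf 4 0x183183 0 0 0 0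 0 0 0))))) (.node 42 (.node 39 (.node 37 (.leaf 4 0x1c31c3 0 0 0 0 0 0 0) (.node 38 (.leaf 4 0x203203 0 0 0 0 0 0 0) (.leaf 4 0x243243 0 0 0 0 0 0 0))) (.node 40 (.leaf 4 0x283283 0 0 0 0 0 0 0) (.node 41 (.leaf 4 0x2c32c3 0 0 0 0 0 0 0) (.leaf 4 0x303303 0 0 0 0 0 0 0)))) (.node 45 (.node 43 (.leaf 6 0x144144144 0 0 0 0 0 0 0) (.node 44 (.leaf 4 0x184184 0 0 0 0 0 0 0) (.leaf 4 0x1c41c4 0 0 0 0 0 0 0))) (.node 47 (.node 46 (.leaf 4 0x204204 0 0 0 0 0 0 0) (.leaf 4 0x244244 0 0 0 0 0 0 0)) (.node 48 (.leaf 4 0x284284 0 0 0 0 0 0 0) (.leaf 4 0x2c42c4 0 0 0 0 0 0 0))))))) (.node 74 (.node 61 (.node 55 (.node 52 (.node 50 (.leaf 4 0x304304 0 0 0 0 0 0 0) (.node 51 (.leaf 6 0x185185185 0 0 0 0 0 0 0) (.leaf 4 0x1c51c5 0 0 0 0 0 0 0))) (.node 53 (.leaf 4 0x205205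 0 0 0 0 0 0 0) (.node 54 (.leaf 4 0x245245 0 0 0 0 0 0 0) (.leaf 4 0x285285 0 0 0 0 0 0 0)))) (.node 58 (.node 56 (.leaf 4 0x2c52c5 0 0 0 0 0 0 0) (.node 57 (.leaf 4 0x305305 0 0 0 0 0 0 0) (.leaf 6 0x1c61c61c6 0 0 0 0 0 0 0))) (.node 59 (.leaf 4 0x206206 0 0 0 0 0 0 0) (.node 60 (.leaf 4 0x246246 0 0 0 0 0 0 0) (.leaf 4 0x286286 0 0 0 0 0 0 0))))) (.node 67 (.node 64 (.node 62 (.leaf 6 0x2c62c62c6 0 0 0 0 0 0 0) (.node 63 (.leaf 4 0x306306 0 0 0 0 0 0 0) (.leaf 6 0x207207207 0 0 0 0 0 0 0))) (.node 65 (.leaf 4 0x247247 0 0 0 0 0 0 0) (.node 66 (.leaf 4 0x287287 0 0 0 0 0 0 0) (.leaf 4 0x2c72c7 0 0 0 0 0 0 0)))) (.node 70 (.node 68 (.leaf 4 0x307307 0 0 0 0 0 0 0) (.node 69 (.leaf 6 0x248248248 0 0 0 0 0 0 0) (.leaf 4 0x288288 0 0 0 0 0 0 0))) (.node 72 (.node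 71 (.leaf 4 0x2c82c8 0 0 0 0 0 0 0) (.leaf 4 0x308308 0 0 0 0 0 0 0)) (.node 73 (.leaf 6 0x289289289 0 0 0 0 0 0 0) (.leaf 4 0x2c92c9 0 0 0 0 0 0 0)))))) (.node 86 (.node 80 (.node 77 (.node 75 (.leaf 4 0x309309 0 0 0 0 0 0 0) (.node 76 (.leaf 4 0x2ca2ca 0 0 0 0 0 0 0) (.leaf 4 0x30a30a 0 0 0 0 0 0 0))) (.node 78 (.leaf 6 0x30b30b30b 0 0 0 0 0 0 0) (.node 79 (.leaf 6 0x1c81c81c8 0 0 0x1c81c81c81c7 1 6144 2 0x18000000fc01) (.leaf 4 0x188188 0 0 0x188188186 1 5120 2 0x14000000e801)))) (.node 83 (.node 81 (.leaf 4 0x148148 0 0 0x148148145 1 4096 2 0x10000000d001) (.node 82 (.leaf 4 0x108108 0 0 0x108108104 1 3072 2 0xc000000b401) (.leaf 4 819400 0 0 0xc80c80c3 1 2048 2 0x80000009401))) (.node 84 (.leaf 4 557192 0 0 0x88088082 1 1024 2 0x40000007001) (.node 85 (.leaf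 6 0x187187187 0 0 0x187187187186 1 5120 2 0x14000000e401) (.leaf 4 0x147147 0 0 0x147147145 1 4096 2 0x10000000cc01))))) (.node 92 (.node 89 (.node 87 (.leaf 4 0x107107 0 0 0x107107104 1 3072 2 0xc000000b001) (.node 88 (.leaf 4 815303 0 0 0xc70c70c3 1 2048 2 0x80000009001) (.leaf 4 553095 0 0 0x87087082 1 1024 2 0x40000006c01))) (.node 90 (.leaf 6 0x146146146 0 0 0x146146146145 1 4096 2 0x10000000c801) (.node 91 (.leaf 4 0x106106 0 0 0x106106104 1 3072 2 0xc000000ac01) (.leaf 4 811206 0 0 0xc60c60c3 1 2048 2 0x80000008c01)))) (.node 95 (.node 93 (.leaf 4 548998 0 0 0x86086082 1 1024 2 0x40000006801) (.node 94 (.leaf 6 0x105105105 0 0 0x105105105104 1 3072 2 0xc000000a801) (.leaf 4 807109 0 0 0xc50c50c3 1 2048 2 0x80000008801))) (.node 97 (.node 96 (.leaf 4 544901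 0 0 0x85085082 1 1024 2 0x40000006401) (.leaf 6 0xc40c40c4 0 0 0xc40c40c40c3 1 2048 2 0x80000008401)) (.node 98 (.leaf 4 540804 0 0 0x84084082 1 1024 2 0x40000006001) (.leaf 6 0x83083083 0 0 0x83083083082 1 1024 2 0x40000005c01))))))))
theorem s24e_i2 : Impl.{u} 12 rc24 (expL [[7], [6], [5], [4], [3], [2], [1], [10]] (extR [] 8 we8_R)) := Impl.refl.trans (impl_of_rw1 (R := rc24) s24e_i2T 78 21 [7, 6, 5, 4, 3, 2, 1, 10, 78, 79, 80, 81, 82, 83, 70, 84, 85, 86, 87, 88, 66, 89, 90, 91, 92, 61, 93, 94, 95, 55, 96, 97, 48, 98, 40, 31] (by decide +kernel))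
theorem s24e_p1 : Impl.{u} 12 rc24 (expL [[7], [6], [5], [4], [3], [2], [1], [10]] s24e_p1W) := (we8_univ.par (k := 8) (k' := 8) (ds := []) 8 s24e_p1E (by decide +kernel)).sub rfl s24e_i2
theorem s24e_i3 : Impl.{u} 12 rc24 (mapL (fun i => pwW 2 (cat (cjW (1 :: r24W) 1) [i])) [2, 3, 4, 5, 6, 7, 10]) := (Impl.refl.cat s24e_p1).trans (impl_of_sub (R := (catL rc24 (expL [[7], [6], [5], [4], [3], [2], [1], [10]] s24e_p1W))) [78, 79, 80, 81, 82, 83, 84] (by decide +kernel))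
end
end H28
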