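import Cfsg.Agent.H28.T22
/-! Traces of points in the Fischer space of Fi22. -/
set_option maxRecDepth 100000
set_option Elab.async false
namespace H28
open H27
noncomputable section
universe u
def s23X : List (Set Cfsg.Spor.Fi22) := [mset t22.n e22 (t22.clo [(0, []), (1, []), (2, []), (3, []), (4, []), (5, []), (7, []), (8, [])] 6), mset t22.n e22 (t22.clo [(1, []), (2, []), (3, []), (4, []), (5, []), (6, []), (7, []), (8, [])] 5)]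
theorem s23_c1 : Claim E22 2 s23X (List.map (pv fi22X) [(6, []), (0, []), (1, []), (2, []), (3, []), (4, []), (5, []), (7, []), (8, [])]) := t22M.bad e22R 0 [(0, []), (2, [])] (4, []) (6, []) (by decide +kernel)
theorem s23_c2 : Claim E22 2 s23X (List.map (pv fi22X) [(0, []), (1, []), (2, []), (3, []), (4, []), (5, []), (7, []), (8, [])]) := t22M.fin e22R e22C 6 [(6, [])] 9 (by decide +kernel) (by rw [s23X]; exact List.mem_cons_self) (List.forall_mem_cons.2 ⟨s23_c1, (fun _ h => by cases h)⟩)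
theorem s23_c3 : Claim E22 2 s23X (List.map (pv fi22X) [(0, []), (1, []), (2, []), (3, []), (4, []), (5, []), (6, []), (7, []), (8, [])]) := t22M.bad e22R 0 [(0, []), (2, [])] (4, []) (6, []) (by decide +kernel)
theorem s23_c4 : Claim E22 2 s23X (List.map (pv fi22X) [(1, []), (2, []), (3, []), (4, []), (5, []), (6, []), (7, []), (8, [])]) := t22M.fin e22R e22C 5 [(0, [])] 6 (by decide +kernel) (by rw [s23X]; exact List.mem_cons_of_mem _ (List.mem_cons_self)) (List.forall_mem_cons.2 ⟨s23_c3, (fun _ h => by cases h)⟩)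
theorem s23_c5 : Claim E22 2 s23X (List.map (pv fi22X) [(4, []), (8, []), (7, []), (2, []), (0, []), (5, []), (1, []), (3, [])]) := t22M.sym e22R e22C 0 [] (by decide +kernel) s23_c2
theorem s23_c6 : Claim E22 2 s23X (List.map (pv fi22X) [(2, [5, 4, 3, 7, 6, 5, 4, 3]), (8, []), (7, []), (2, []), (0, []), (5, []), (1, []), (3, [])]) := t22M.bad e22R 2 [(0, []), (0, [4, 1, 2, 3, 7, 5, 4, 3, 2, 1])] (0, [3, 7, 8, 3, 7, 2, 3, 4, 1, 2, 3, 7, 5, 4, 3, 2, 1]) (0, [6, 5, 4, 3, 7, 8, 7, 4, 5, 3, 4, 1, 2, 3, 7, 6, 5, 4, 3, 2, 1]) (by decide +kernel)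
theorem s23_c7 : Claim E22 2 s23X (List.map (pv fi22X) [(0, [8, 7, 3, 4, 2, 3, 7, 8, 3, 4, 5, 2, 3, 4, 1, 2, 3, 7, 6, 5, 4, 3, 2, 1]), (8, []), (7, []), (2, []), (0, []), (5, []), (1, []), (3, [])]) := t22M.bad e22R 1 [(0, []), (2, [])] (0, [5, 3, 4, 2, 3, 7, 8, 3, 4, 5, 2, 3, 4, 1, 2, 3, 7, 6, 5, 4, 3, 2, 1]) (0, [6, 4, 5, 3, 4, 2, 3, 7, 8, 3, 4, 5, 2, 3, 4, 1, 2, 3, 7, 6, 5, 4, 3, 2, 1]) (by decide +kernel)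
theorem s23_c8 : Claim E22 2 s23X (List.map (pv fi22X) [(0, [8, 7, 3, 4, 2, 3, 7, 8, 3, 7, 4, 5, 3, 4, 1, 2, 3, 7, 6, 5, 4, 3, 2, 1]), (8, []), (7, []), (2, []), (0, []), (5, []), (1, []), (3, [])]) := t22M.bad e22R 2 [(0, []), (2, [])] (0, [7, 8, 1, 2, 3, 7, 6, 5, 4, 3, 2, 1]) (0, [7, 8, 4, 1, 2, 3, 7, 5, 4, 3, 2, 1]) (by decide +kernel)
theorem s23_c9 : Claim E22 2 s23X (List.map (pv fi22X) [(8, []), (7, []), (2, []), (0, []), (5, []), (1, []), (3, [])]) := t22M.br e22R e22C 0 [(0, []), (7, [])] (4, []) [(2, []), (3, [8, 7, 5, 4]), (4, [])] [] [(4, []), (2, [5, 4, 3, 7, 6, 5, 4, 3]), (0, [8, 7, 3, 4, 2, 3, 7, 8, 3, 4, 5, 2, 3, 4, 1, 2, 3, 7, 6, 5, 4, 3, 2, 1]), (0, [8, 7, 3, 4, 2, 3, 7, 8, 3, 7, 4, 5, 3, 4, 1, 2, 3, 7, 6, 5, 4, 3, 2, 1])] 0 (by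 decide +kernel) (List.forall_mem_cons.2 ⟨s23_c5, (List.forall_mem_cons.2 ⟨s23_c6, (List.forall_mem_cons.2 ⟨s23_c7, (List.forall_mem_cons.2 ⟨s23_c8, (fun _ h => by cases h)⟩)⟩)⟩)⟩)
theorem s23_c10 : Claim E22 2 s23X (List.map (pv fi22X) [(2, [3, 4, 2, 3, 7, 8, 5, 4, 3, 7, 6, 5, 4, 3]), (7, []), (2, []), (0, []), (5, []), (1, []), (3, [])]) := t22M.bad e22R 1 [(0, []), (2, [])] (2, [7, 3, 4, 2, 3, 7, 8, 5, 4, 3, 7, 6, 5, 4, 3]) (0, [8, 3, 7, 4, 5, 3, 4, 1, 2, 3, 7, 6, 5, 4, 3, 2, 1]) (by decide +kernel)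
theorem s23_c11 : Claim E22 2 s23X (List.map (pv fi22X) [(0, [7, 8, 3, 7, 4, 5, 3, 4, 1, 2, 3, 7, 6, 5, 4, 3, 2, 1]), (7, []), (2, []), (0, []), (5, []), (1, []), (3, [])]) := t22M.bad e22R 1 [(0, []), (2, [])] (2, [7, 3, 4, 2, 3, 7, 8, 5, 4, 3, 7, 6, 5, 4, 3]) (0, [8, 3, 7, 4, 5, 3, 4, 1, 2, 3, 7, 6, 5, 4, 3, 2, 1]) (by decide +kernel)
theorem s23_c12 : Claim E22 2 s23X (List.map (pv fi22X) [(4, []), (0, [7, 8, 3, 4, 5, 2, 3, 4, 1, 2, 3, 7, 6, 5, 4, 3, 2, 1]), (7, []), (2, []), (0, []), (5, []), (1, []), (3, [])]) := t22M.bad e22R 2 [(0, []), (2, [])] (0, [8, 5, 4, 1, 2, 3, 7, 6, 5, 4, 3, 2, 1]) (0, [7, 3, 4, 2, 3, 7, 8, 3, 7, 4, 5, 3, 4, 1, 2, 3, 7, 6, 5, 4, 3, 2, 1]) (by decide +kernel)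
theorem s23_c13 : Claim E22 2 s23X (List.map (pv fi22X) [(2, [5, 4, 3, 7, 6, 5, 4, 3]), (0, [7, 8, 3, 4, 5, 2, 3, 4, 1, 2, 3, 7, 6, 5, 4, 3, 2, 1]), (7, []), (2, []), (0, []), (5, []), (1, []), (3, [])]) := t22M.sym e22R e22C 3 [4, 3, 7, 2, 3, 4, 1, 2, 3, 7, 0, 1, 2, 3, 4, 5, 6] (by decide +kernel) s23_c2
theorem s23_c14 : Claim E22 2 s23X (List.map (pv fi22X) [(0, [8, 7, 3, 4, 2, 3, 7, 8, 3, 4, 5, 2, 3, 4, 1, 2, 3, 7, 6, 5, 4, 3, 2, 1]), (0, [7, 8, 3, 4, 5, 2, 3, 4, 1, 2, 3, 7, 6, 5, 4, 3, 2, 1]), (7, []), (2, []), (0, []), (5, []), (1, []), (3, [])]) := t22M.bad e22R 1 [(0, []), (2, [])] (0, [5, 3, 4, 2, 3, 7, 8, 3, 4, 5, 2, 3, 4, 1, 2, 3, 7, 6, 5, 4, 3, 2, 1]) (0, [6, 4, 5, 3, 4, 2, 3, 7, 8, 3, 4, 5, 2, 3, 4, 1, 2, 3, 7, 6, 5, 4, 3, 2, 1]) (by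 decide +kernel)
theorem s23_c15 : Claim E22 2 s23X (List.map (pv fi22X) [(0, [8, 7, 3, 4, 2, 3, 7, 8, 3, 7, 4, 5, 3, 4, 1, 2, 3, 7, 6, 5, 4, 3, 2, 1]), (0, [7, 8, 3, 4, 5, 2, 3, 4, 1, 2, 3, 7, 6, 5, 4, 3, 2, 1]), (7, []), (2, []), (0, []), (5, []), (1, []), (3, [])]) := t22M.sym e22R e22C 3 [8, 7, 3, 2, 1, 0] (by decide +kernel) s23_c4
theorem s23_c16 : Claim E22 2 s23X (List.map (pv fi22X) [(0, [7, 8, 3, 4, 5, 2, 3, 4, 1, 2, 3, 7, 6, 5, 4, 3, 2, 1]), (7, []), (2, []), (0, []), (5, []), (1, []), (3, [])]) := t22M.br e22R e22C 0 [(0, []), (7, [])] (4, []) [(2, []), (3, [8, 7, 5, 4]), (4, [])] [] [(4, []), (2, [5, 4, 3, 7, 6, 5, 4, 3]), (0, [8, 7, 3, 4, 2, 3, 7, 8, 3, 4, 5, 2, 3, 4, 1, 2, 3, 7, 6, 5, 4, 3, 2, 1]), (0, [8, 7, 3, 4, 2, 3, 7, 8, 3, 7,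 4, 5, 3, 4, 1, 2, 3, 7, 6, 5, 4, 3, 2, 1])] 0 (by decide +kernel) (List.forall_mem_cons.2 ⟨s23_c12, (List.forall_mem_cons.2 ⟨s23_c13, (List.forall_mem_cons.2 ⟨s23_c14, (List.forall_mem_cons.2 ⟨s23_c15, (fun _ h => by cases h)⟩)⟩)⟩)⟩)
theorem s23_c17 : Claim E22 2 s23X (List.map (pv fi22X) [(7, []), (2, []), (0, []), (5, []), (1, []), (3, [])]) := t22M.br e22R e22C 0 [(0, []), (2, [])] (8, []) [(4, []), (5, []), (8, [])] [] [(8, []), (2, [3, 4, 2, 3, 7, 8, 5, 4, 3, 7, 6, 5, 4, 3]), (0, [7, 8, 3, 7, 4, 5, 3, 4, 1, 2, 3, 7, 6, 5, 4, 3, 2, 1]), (0, [7, 8, 3, 4, 5, 2, 3, 4, 1, 2, 3, 7, 6, 5, 4, 3, 2, 1])] 0 (by decide +kernel) (List.forall_mem_cons.2 ⟨s23_c9, (List.forall_mem_cons.2 ⟨s23_c10, (List.forall_mem_cons.2 ⟨s23_c11, (List.forall_mem_cons.2 ⟨s23_c16,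 (fun _ h => by cases h)⟩)⟩)⟩)⟩)
theorem s23_c18 : Claim E22 2 s23X (List.map (pv fi22X) [(3, [7, 4]), (7, [8]), (0, [3, 4, 5, 2, 3, 4, 1, 2, 3, 7, 6, 5, 4, 3, 2, 1]), (2, []), (0, []), (5, []), (1, []), (3, [])]) := t22M.sym e22R e22C 4 [7, 3, 2, 1, 0] (by decide +kernel) s23_c4
theorem s23_c19 : Claim E22 2 s23X (List.map (pv fi22X) [(2, [5, 4, 3, 7, 6, 5, 4, 3]), (7, [8]), (0, [3, 4, 5, 2, 3, 4, 1, 2, 3, 7, 6, 5, 4, 3, 2, 1]), (2, []), (0, []), (5, []), (1, []), (3, [])]) := t22M.bad e22R 2 [(0, []), (2, [])] (0, [3, 4, 2, 3, 7, 8, 1, 2, 3, 7, 4, 3, 2, 1]) (0, [3, 4, 2, 3, 7, 8, 3, 4, 5, 2, 3, 4, 1, 2, 3, 7, 6, 5, 4, 3, 2, 1]) (by decide +kernel)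
theorem s23_c20 : Claim E22 2 s23X (List.map (pv fi22X) [(0, [8, 7, 3, 4, 2, 3, 7, 8, 4, 5, 3, 4, 1, 2, 3, 7, 6, 5, 4, 3, 2, 1]), (7, [8]), (0, [3, 4, 5, 2, 3, 4, 1, 2, 3, 7, 6, 5, 4, 3, 2, 1]), (2, []), (0, []), (5, []), (1, []), (3, [])]) := t22M.bad e22R 1 [(0, []), (0, [7, 8, 7, 3, 4, 1, 2, 3, 7, 6, 5, 4, 3, 2, 1])] (0, [7, 8, 7, 4, 5, 2, 3, 4, 1, 2, 3, 7, 6, 5, 4, 3, 2, 1]) (0, [5, 3, 4, 2, 3, 7, 8, 7, 5, 3, 4, 1, 2, 3, 7, 6, 5, 4, 3, 2, 1]) (by decide +kernel)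
theorem s23_c21 : Claim E22 2 s23X (List.map (pv fi22X) [(0, [8, 7, 3, 4, 2, 3, 7, 8, 7, 4, 5, 2, 3, 4, 1, 2, 3, 7, 6, 5, 4, 3, 2, 1]), (7, [8]), (0, [3, 4, 5, 2, 3, 4, 1, 2, 3, 7, 6, 5, 4, 3, 2, 1]), (2, []), (0, []), (5, []), (1, []), (3, [])]) := t22M.sym e22R e22C 3 [8, 4, 3, 7, 2, 3, 4, 1, 2, 3, 7, 0, 1, 2, 3, 4, 5, 6] (by decide +kernel) s23_c2
theorem s23_c22 : Claim E22 2 s23X (List.map (pv fi22X) [(7, [8]), (0, [3, 4, 5, 2, 3, 4, 1, 2, 3, 7, 6, 5, 4, 3, 2, 1]), (2, []), (0, []), (5, []), (1, []), (3, [])]) := t22M.br e22R e22C 0 [(0, []), (3, [])] (3, [7, 4]) [(6, []), (3, [8, 7, 5, 4]), (2, [7, 3])] [] [(3, [7, 4]), (2, [5, 4, 3, 7, 6, 5, 4, 3]), (0, [8, 7, 3, 4, 2, 3, 7, 8, 4, 5, 3, 4, 1, 2, 3, 7, 6, 5, 4, 3, 2, 1]), (0, [8, 7, 3, 4, 2,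 3, 7, 8, 7, 4, 5, 2, 3, 4, 1, 2, 3, 7, 6, 5, 4, 3, 2, 1])] 0 (by decide +kernel) (List.forall_mem_cons.2 ⟨s23_c18, (List.forall_mem_cons.2 ⟨s23_c19, (List.forall_mem_cons.2 ⟨s23_c20, (List.forall_mem_cons.2 ⟨s23_c21, (fun _ h => by cases h)⟩)⟩)⟩)⟩)
theorem s23_c23 : Claim E22 2 s23X (List.map (pv fi22X) [(4, []), (2, [8, 3, 7, 6, 5, 4, 3]), (0, [3, 4, 5, 2, 3, 4, 1, 2, 3, 7, 6, 5, 4, 3, 2, 1]), (2, []), (0, []), (5, []), (1, []), (3, [])]) := t22M.sym e22R e22C 3 [6, 5, 4, 3, 2, 1, 0] (by decide +kernel) s23_c4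
theorem s23_c24 : Claim E22 2 s23X (List.map (pv fi22X) [(6, []), (2, [8, 3, 7, 6, 5, 4, 3]), (0, [3, 4, 5, 2, 3, 4, 1, 2, 3, 7, 6, 5, 4, 3, 2, 1]), (2, []), (0, []), (5, []), (1, []), (3, [])]) := t22M.bad e22R 2 [(0, []), (2, [])] (0, [8, 7, 5, 3, 4, 2, 3, 7, 8, 3, 4, 5, 2, 3, 4, 1, 2, 3, 7, 6, 5, 4, 3, 2, 1]) (0, [8, 7, 6, 4, 5, 3, 4, 2, 3, 7, 8, 3, 4, 5, 2, 3, 4, 1, 2, 3, 7, 6, 5, 4, 3, 2, 1]) (by decide +kernel)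
theorem s23_c25 : Claim E22 2 s23X (List.map (pv fi22X) [(0, [3, 7, 8, 4, 3, 7, 1, 2, 3, 4, 0, 1, 2, 3, 7, 8, 3, 4, 5, 2, 3, 4, 1, 2, 3, 7, 6, 5, 4, 3, 2, 1]), (2, [8, 3, 7, 6, 5, 4, 3]), (0, [3, 4, 5, 2, 3, 4, 1, 2, 3, 7, 6, 5, 4, 3, 2, 1]), (2, []), (0, []), (5, []), (1, []), (3, [])]) := t22M.bad e22R 1 [(0, []), (2, [])] (0, [3, 7, 8, 2, 3, 7, 6, 4, 5, 3, 4, 2, 3, 7, 8, 3, 4, 5, 2, 3, 4, 1, 2, 3, 7, 6, 5, 4, 3, 2, 1]) (0, [4, 3, 7, 8, 2, 3, 7, 4, 5, 3, 4, 2, 3, 7, 8, 3, 4, 5, 2, 3, 4, 1, 2, 3, 7, 6, 5, 4, 3, 2, 1]) (by decide +kernel)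
theorem s23_c26 : Claim E22 2 s23X (List.map (pv fi22X) [(0, [3, 7, 8, 2, 3, 7, 1, 2, 3, 4, 0, 1, 2, 3, 7, 8, 3, 4, 5, 2, 3, 4, 1, 2, 3, 7, 6, 5, 4, 3, 2, 1]), (2, [8, 3, 7, 6, 5, 4, 3]), (0, [3, 4, 5, 2, 3, 4, 1, 2, 3, 7, 6, 5, 4, 3, 2, 1]), (2, []), (0, []), (5, []), (1, []), (3, [])]) := t22M.bad e22R 1 [(0, []), (2, [])] (0, [3, 7, 8, 2, 3, 7, 6, 4, 5, 3, 4, 2, 3, 7, 8, 3, 4, 5, 2, 3, 4, 1, 2, 3, 7, 6, 5, 4, 3, 2, 1]) (0, [4, 3, 7, 8, 2, 3, 7, 4, 5, 3, 4, 2, 3, 7, 8, 3, 4, 5, 2, 3, 4, 1, 2, 3, 7, 6, 5, 4, 3, 2, 1]) (by decide +kernel)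
theorem s23_c27 : Claim E22 2 s23X (List.map (pv fi22X) [(2, [8, 3, 7, 6, 5, 4, 3]), (0, [3, 4, 5, 2, 3, 4, 1, 2, 3, 7, 6, 5, 4, 3, 2, 1]), (2, []), (0, []), (5, []), (1, []), (3, [])]) := t22M.br e22R e22C 0 [(0, []), (2, [])] (4, []) [(4, []), (7, []), (8, [])] [] [(4, []), (6, []), (0, [3, 7, 8, 4, 3, 7, 1, 2, 3, 4, 0, 1, 2, 3, 7, 8, 3, 4, 5, 2, 3, 4, 1, 2, 3, 7, 6, 5, 4, 3, 2, 1]), (0, [3, 7, 8, 2, 3, 7, 1, 2, 3, 4, 0, 1, 2, 3, 7, 8, 3, 4, 5, 2, 3, 4, 1, 2, 3, 7, 6, 5, 4, 3, 2, 1])] 0 (by decide +kernel) (List.forall_mem_cons.2 ⟨s23_c23, (List.forall_mem_cons.2 ⟨s23_c24, (List.forall_mem_cons.2 ⟨s23_c25, (List.forall_mem_cons.2 ⟨s23_c26, (fun _ h => by cases h)⟩)⟩)⟩)⟩)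
theorem s23_c28 : Claim E22 2 s23X (List.map (pv fi22X) [(0, [7, 4, 5, 3, 4, 2, 3, 7, 8, 3, 4, 5, 2, 3, 4, 1, 2, 3, 7, 6, 5, 4, 3, 2, 1]), (0, [3, 4, 5, 2, 3, 4, 1, 2, 3, 7, 6, 5, 4, 3, 2, 1]), (2, []), (0, []), (5, []), (1, []), (3, [])]) := t22M.bad e22R 1 [(0, []), (2, [])] (0, [4, 5, 3, 4, 2, 3, 7, 8, 3, 4, 5, 2, 3, 4, 1, 2, 3, 7, 6, 5, 4, 3, 2, 1]) (0, [6, 5, 3, 4, 2, 3, 7, 8, 3, 4, 5, 2, 3, 4, 1, 2, 3, 7, 6, 5, 4, 3, 2, 1]) (by decide +kernel)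
theorem s23_c29 : Claim E22 2 s23X (List.map (pv fi22X) [(0, [7, 4, 5, 3, 4, 2, 3, 7, 8, 3, 7, 4, 5, 3, 4, 1, 2, 3, 7, 6, 5, 4, 3, 2, 1]), (0, [3, 4, 5, 2, 3, 4, 1, 2, 3, 7, 6, 5, 4, 3, 2, 1]), (2, []), (0, []), (5, []), (1, []), (3, [])]) := t22M.bad e22R 2 [(0, []), (2, [])] (0, [7, 4, 5, 3, 4, 2, 3, 7, 8, 3, 7, 4, 5, 3, 4, 1, 2, 3, 7, 6, 5, 4, 3, 2, 1]) (0, [7, 6, 5, 3, 4, 2, 3, 7, 8, 3, 7, 4, 5, 3, 4, 1, 2, 3, 7, 6, 5, 4, 3, 2, 1]) (by decide +kernel)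
theorem s23_c30 : Claim E22 2 s23X (List.map (pv fi22X) [(0, [3, 4, 5, 2, 3, 4, 1, 2, 3, 7, 6, 5, 4, 3, 2, 1]), (2, []), (0, []), (5, []), (1, []), (3, [])]) := t22M.br e22R e22C 0 [(0, []), (5, [])] (7, [8]) [(2, []), (3, [7]), (7, [8])] [] [(7, [8]), (2, [8, 3, 7, 6, 5, 4, 3]), (0, [7, 4, 5, 3, 4, 2, 3, 7, 8, 3, 4, 5, 2, 3, 4, 1, 2, 3, 7, 6, 5, 4, 3, 2, 1]), (0, [7, 4, 5, 3, 4, 2, 3, 7, 8, 3, 7, 4, 5, 3, 4, 1, 2, 3, 7, 6, 5, 4, 3, 2, 1])] 0 (by decide +kernel) (List.forall_mem_cons.2 ⟨s23_c22, (List.forall_mem_cons.2 ⟨s23_c27, (List.forall_mem_cons.2 ⟨s23_c28, (List.forall_mem_cons.2 ⟨s23_c29, (fun _ h => by cases h)⟩)⟩)⟩)⟩)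
theorem s23_c31 : Claim E22 2 s23X (List.map (pv fi22X) [(0, [3, 7, 4, 5, 3, 4, 1, 2, 3, 7, 6, 5, 4, 3, 2, 1]), (2, []), (0, []), (5, []), (1, []), (3, [])]) := t22M.bad e22R 1 [(0, []), (2, [])] (0, [3, 7, 4, 5, 3, 4, 1, 2, 3, 7, 6, 5, 4, 3, 2, 1]) (1, [1, 2, 3, 7, 4, 5, 3, 4, 2, 3, 7, 6, 5, 4, 3, 2]) (by decide +kernel)
theorem s23_c32 : Claim E22 2 s23X (List.map (pv fi22X) [(1, [1, 2, 3, 7, 4, 5, 3, 4, 2, 3, 7, 6, 5, 4, 3, 2]), (2, []), (0, []), (5, []), (1, []), (3, [])]) := t22M.bad e22R 1 [(0, []), (2, [])] (0, [3, 7, 4, 5, 3, 4, 1, 2, 3, 7, 6, 5, 4, 3, 2, 1]) (1, [1, 2, 3, 7, 4, 5, 3, 4, 2, 3, 7, 6, 5, 4, 3, 2]) (by decide +kernel)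
theorem s23_c33 : Claim E22 2 s23X (List.map (pv fi22X) [(2, []), (0, []), (5, []), (1, []), (3, [])]) := t22M.br e22R e22C 0 [(0, []), (2, [])] (7, []) [(4, []), (5, []), (7, [])] [] [(7, []), (0, [3, 4, 5, 2, 3, 4, 1, 2, 3, 7, 6, 5, 4, 3, 2, 1]), (0, [3, 7, 4, 5, 3, 4, 1, 2, 3, 7, 6, 5, 4, 3, 2, 1]), (1, [1, 2, 3, 7, 4, 5, 3, 4, 2, 3, 7, 6, 5, 4, 3, 2])] 0 (by decide +kernel) (List.forall_mem_cons.2 ⟨s23_c17, (List.forall_mem_cons.2 ⟨s23_c30, (List.forall_mem_cons.2 ⟨s23_c31, (List.forall_mem_cons.2 ⟨s23_c32, (fun _ h => by cases h)⟩)⟩)⟩)⟩)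
theorem s23_c34 : Claim E22 2 s23X (List.map (pv fi22X) [(0, [1, 2, 3, 7, 4, 3, 2, 1]), (8, []), (7, []), (6, []), (4, [6, 5]), (0, []), (5, []), (1, []), (3, [])]) := t22M.bad e22R 2 [(0, []), (3, [])] (0, [6, 5, 4, 3, 7, 8, 1, 2, 3, 7, 4, 3, 2, 1]) (0, [2, 3, 7, 8, 3, 7, 2, 3, 4, 1, 2, 3, 7, 5, 4, 3, 2, 1]) (by decide +kernel)
theorem s23_c35 : Claim E22 2 s23X (List.map (pv fi22X) [(2, [7, 3]), (0, [5, 2, 3, 4, 1, 2, 3, 7, 6, 5, 4, 3, 2, 1]), (8, []), (7, []), (6, []), (4, [6, 5]), (0, []), (5, []), (1, []), (3, [])]) := t22M.bad e22R 1 [(0, []), (3, [])] (6, []) (2, [4, 3]) (by decide +kernel)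
theorem s23_c36 : Claim E22 2 s23X (List.map (pv fi22X) [(0, [1, 2, 3, 7, 6, 5, 4, 3, 2, 1]), (0, [5, 2, 3, 4, 1, 2, 3, 7, 6, 5, 4, 3, 2, 1]), (8, []), (7, []), (6, []), (4, [6, 5]), (0, []), (5, []), (1, []), (3, [])]) := t22M.bad e22R 1 [(0, []), (3, [])] (6, []) (2, [4, 3]) (by decide +kernel)
theorem s23_c37 : Claim E22 2 s23X (List.map (pv fi22X) [(0, [8, 2, 3, 7, 4, 5, 3, 4, 2, 3, 7, 8, 5, 4, 1, 2, 3, 7, 6, 5, 4, 3, 2, 1]), (0, [5, 2, 3, 4, 1, 2, 3, 7, 6, 5, 4, 3, 2, 1]), (8, []), (7, []), (6, []), (4, [6, 5]), (0, []), (5, []), (1, []), (3, [])]) := t22M.bad e22R 1 [(0, []), (3, [])] (0, [5, 2, 3, 4, 1, 2, 3, 7, 6, 5, 4, 3, 2, 1]) (0, [8, 7, 3, 4, 2, 3, 7, 8, 7, 5, 3, 4, 1, 2, 3, 7, 6, 5, 4, 3, 2, 1]) (by decide +kernel)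
theorem s23_c38 : Claim E22 2 s23X (List.map (pv fi22X) [(0, [8, 7, 6, 5, 3, 4, 2, 3, 7, 8, 5, 2, 3, 4, 1, 2, 3, 7, 6, 5, 4, 3, 2, 1]), (0, [5, 2, 3, 4, 1, 2, 3, 7, 6, 5, 4, 3, 2, 1]), (8, []), (7, []), (6, []), (4, [6, 5]), (0, []), (5, []), (1, []), (3, [])]) := t22M.bad e22R 1 [(0, []), (3, [])] (0, [5, 2, 3, 4, 1, 2, 3, 7, 6, 5, 4, 3, 2, 1]) (0, [8, 7, 3, 4, 2, 3, 7, 8, 7, 5, 3, 4, 1, 2, 3, 7, 6, 5, 4, 3, 2, 1]) (by decide +kernel)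
theorem s23_c39 : Claim E22 2 s23X (List.map (pv fi22X) [(0, [5, 2, 3, 4, 1, 2, 3, 7, 6, 5, 4, 3, 2, 1]), (8, []), (7, []), (6, []), (4, [6, 5]), (0, []), (5, []), (1, []), (3, [])]) := t22M.br e22R e22C 0 [(3, []), (5, [])] (2, [7, 3]) [(0, []), (1, [8, 7, 3, 2]), (2, [7, 3])] [] [(2, [7, 3]), (0, [1, 2, 3, 7, 6, 5, 4, 3, 2, 1]), (0, [8, 2, 3, 7, 4, 5, 3, 4, 2, 3, 7, 8, 5, 4, 1, 2, 3, 7, 6, 5, 4, 3, 2, 1]), (0, [8, 7, 6, 5, 3, 4, 2, 3, 7, 8, 5, 2, 3, 4, 1, 2, 3, 7, 6, 5, 4, 3, 2, 1])] 0 (by decide +kernel) (List.forall_mem_cons.2 ⟨s23_c35, (List.forall_mem_cons.2 ⟨s23_c36, (List.forall_mem_cons.2 ⟨s23_c37, (List.forall_mem_cons.2 ⟨s23_c38, (fun _ h => by cases h)⟩)⟩)⟩)⟩)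
theorem s23_c40 : Claim E22 2 s23X (List.map (pv fi22X) [(0, [8, 7, 3, 4, 2, 3, 7, 8, 7, 5, 3, 4, 1, 2, 3, 7, 6, 5, 4, 3, 2, 1]), (8, []), (7, []), (6, []), (4, [6, 5]), (0, []), (5, []), (1, []), (3, [])]) := t22M.bad e22R 1 [(0, []), (0, [8, 7, 3, 4, 2, 3, 7, 8, 7, 5, 3, 4, 1, 2, 3, 7, 6, 5, 4, 3, 2, 1])] (0, [3, 7, 4, 5, 3, 4, 2, 3, 7, 8, 4, 1, 2, 3, 7, 6, 5, 4, 3, 2, 1]) (0, [7, 6, 4, 5, 3, 4, 2, 3, 7, 8, 5, 3, 4, 1, 2, 3, 7, 6, 5, 4, 3, 2, 1]) (by decide +kernel)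
theorem s23_c41 : Claim E22 2 s23X (List.map (pv fi22X) [(0, [8, 4, 3, 7, 1, 2, 3, 4, 0, 1, 2, 3, 7, 8, 3, 4, 5, 2, 3, 4, 1, 2, 3, 7, 6, 5, 4, 3, 2, 1]), (8, []), (7, []), (6, []), (4, [6, 5]), (0, []), (5, []), (1, []), (3, [])]) := t22M.bad e22R 1 [(0, []), (3, [])] (5, []) (0, [7, 8, 3, 7, 4, 5, 3, 4, 2, 3, 7, 8, 3, 4, 5, 2, 3, 4, 1, 2, 3, 7, 6, 5, 4, 3, 2, 1]) (by decide +kernel)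
theorem s23_c42 : Claim E22 2 s23X (List.map (pv fi22X) [(8, []), (7, []), (6, []), (4, [6, 5]), (0, []), (5, []), (1, []), (3, [])]) := t22M.br e22R e22C 0 [(0, []), (3, [])] (0, [1, 2, 3, 7, 4, 3, 2, 1]) [(6, []), (0, [8, 1, 2, 3, 7, 5, 4, 3, 2, 1]), (2, [7, 3])] [] [(0, [1, 2, 3, 7, 4, 3, 2, 1]), (0, [5, 2, 3, 4, 1, 2, 3, 7, 6, 5, 4, 3, 2, 1]), (0, [8, 7, 3, 4, 2, 3, 7, 8, 7, 5, 3, 4, 1, 2, 3, 7, 6, 5, 4, 3, 2, 1]), (0, [8, 4, 3, 7, 1, 2, 3, 4, 0, 1, 2, 3, 7, 8, 3, 4, 5, 2, 3, 4, 1, 2, 3, 7, 6, 5, 4, 3, 2, 1])] 0 (by decide +kernel) (List.forall_mem_cons.2 ⟨s23_c34, (List.forall_mem_cons.2 ⟨s23_c39, (List.forall_mem_cons.2 ⟨s23_c40, (List.forall_mem_cons.2 ⟨s23_c41, (fun _ h => by cases h)⟩)⟩)⟩)⟩)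
theorem s23_c43 : Claim E22 2 s23X (List.map (pv fi22X) [(2, [4, 3, 7, 8, 5, 4, 3, 7, 6, 5, 4, 3]), (7, []), (6, []), (4, [6, 5]), (0, []), (5, []), (1, []), (3, [])]) := t22M.sym e22R e22C 3 [8, 7, 3, 4, 5, 6] (by decide +kernel) s23_c2
theorem s23_c44 : Claim E22 2 s23X (List.map (pv fi22X) [(0, [2, 3, 7, 8, 3, 4, 5, 2, 3, 4, 1, 2, 3, 7, 6, 5, 4, 3, 2, 1]), (7, []), (6, []), (4, [6, 5]), (0, []), (5, []), (1, []), (3, [])]) := t22M.bad e22R 3 [(0, []), (3, [])] (6, []) (2, [4, 3]) (by decide +kernel)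
theorem s23_c45 : Claim E22 2 s23X (List.map (pv fi22X) [(0, [2, 3, 7, 8, 3, 7, 4, 5, 3, 4, 1, 2, 3, 7, 6, 5, 4, 3, 2, 1]), (7, []), (6, []), (4, [6, 5]), (0, []), (5, []), (1, []), (3, [])]) := t22M.sym e22R e22C 3 [2, 3, 7, 4, 5, 3, 4, 2, 3, 7, 6, 5, 4, 3, 2, 1, 0] (by decide +kernel) s23_c4
theorem s23_c46 : Claim E22 2 s23X (List.map (pv fi22X) [(7, []), (6, []), (4, [6, 5]), (0, []), (5, []), (1, []), (3, [])]) := t22M.br e22R e22C 0 [(0, []), (3, [])] (8, []) [(5, []), (6, []), (8, [])] [] [(8, []), (2, [4, 3, 7, 8, 5, 4, 3, 7, 6, 5, 4, 3]), (0, [2, 3, 7, 8, 3, 4, 5, 2, 3, 4, 1, 2, 3, 7, 6, 5, 4, 3, 2, 1]), (0, [2, 3, 7, 8, 3, 7, 4, 5, 3, 4, 1, 2, 3, 7, 6, 5, 4, 3, 2, 1])] 0 (by decide +kernel) (List.forall_mem_cons.2 ⟨s23_c42, (List.forall_mem_cons.2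 ⟨s23_c43, (List.forall_mem_cons.2 ⟨s23_c44, (List.forall_mem_cons.2 ⟨s23_c45, (fun _ h => by cases h)⟩)⟩)⟩)⟩)
theorem s23_c47 : Claim E22 2 s23X (List.map (pv fi22X) [(8, []), (2, [3, 7, 6, 5, 4, 3]), (6, []), (4, [6, 5]), (0, []), (5, []), (1, []), (3, [])]) := t22M.bad e22R 2 [(0, []), (3, [])] (2, [2, 3, 7, 8, 5, 4, 3, 7, 6, 5, 4, 3]) (0, [4, 3, 7, 8, 5, 4, 1, 2, 3, 7, 6, 5, 4, 3, 2, 1]) (by decide +kernel)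
theorem s23_c48 : Claim E22 2 s23X (List.map (pv fi22X) [(2, [4, 3, 7, 8, 5, 4, 3, 7, 6, 5, 4, 3]), (2, [3, 7, 6, 5, 4, 3]), (6, []), (4, [6, 5]), (0, []), (5, []), (1, []), (3, [])]) := t22M.sym e22R e22C 2 [7, 3, 4, 5, 6] (by decide +kernel) s23_c2
theorem s23_c49 : Claim E22 2 s23X (List.map (pv fi22X) [(0, [2, 3, 7, 8, 3, 4, 5, 2, 3, 4, 1, 2, 3, 7, 6, 5, 4, 3, 2, 1]), (2, [3, 7, 6, 5, 4, 3]), (6, []), (4, [6, 5]), (0, []), (5, []), (1, []), (3, [])]) := t22M.bad e22R 2 [(0, []), (3, [])] (2, [7, 3]) (0, [4, 5, 3, 4, 1, 2, 3, 7, 6, 5, 4, 3, 2, 1]) (by decide +kernel)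
theorem s23_c50 : Claim E22 2 s23X (List.map (pv fi22X) [(0, [2, 3, 7, 8, 3, 7, 4, 5, 3, 4, 1, 2, 3, 7, 6, 5, 4, 3, 2, 1]), (2, [3, 7, 6, 5, 4, 3]), (6, []), (4, [6, 5]), (0, []), (5, []), (1, []), (3, [])]) := t22M.bad e22R 2 [(0, []), (3, [])] (0, [6, 5, 4, 3, 7, 8, 1, 2, 3, 7, 4, 3, 2, 1]) (0, [2, 3, 7, 8, 3, 7, 2, 3, 4, 1, 2, 3, 7, 5, 4, 3, 2, 1]) (by decide +kernel)
theorem s23_c51 : Claim E22 2 s23X (List.map (pv fi22X) [(2, [3, 7, 6, 5, 4, 3]), (6, []), (4, [6, 5]), (0, []), (5, []), (1, []), (3, [])]) := t22M.br e22R e22C 0 [(0, []), (3, [])] (8, []) [(5, []), (6, []), (8, [])] [] [(8, []), (2, [4, 3, 7, 8, 5, 4, 3, 7, 6, 5, 4, 3]), (0, [2, 3, 7, 8, 3, 4, 5, 2, 3, 4, 1, 2, 3, 7, 6, 5, 4, 3, 2, 1]), (0, [2, 3, 7, 8, 3, 7, 4, 5, 3, 4, 1, 2,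 3, 7, 6, 5, 4, 3, 2, 1])] 0 (by decide +kernel) (List.forall_mem_cons.2 ⟨s23_c47, (List.forall_mem_cons.2 ⟨s23_c48, (List.forall_mem_cons.2 ⟨s23_c49, (List.forall_mem_cons.2 ⟨s23_c50, (fun _ h => by cases h)⟩)⟩)⟩)⟩)
theorem s23_c52 : Claim E22 2 s23X (List.map (pv fi22X) [(0, [8, 7, 4, 5, 3, 4, 2, 3, 7, 8, 3, 7, 4, 5, 3, 4, 1, 2, 3, 7, 6, 5, 4, 3, 2, 1]), (6, []), (4, [6, 5]), (0, []), (5, []), (1, []), (3, [])]) := t22M.sym e22R e22C 4 [8, 2, 3, 7, 4, 5, 3, 4, 2, 3, 7, 6, 5, 4, 3, 2, 1, 0] (by decide +kernel) s23_c4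
theorem s23_c53 : Claim E22 2 s23X (List.map (pv fi22X) [(0, [8, 7, 4, 5, 3, 4, 2, 3, 7, 8, 3, 4, 5, 2, 3, 4, 1, 2, 3, 7, 6, 5, 4, 3, 2, 1]), (6, []), (4, [6, 5]), (0, []), (5, []), (1, []), (3, [])]) := t22M.bad e22R 2 [(3, []), (5, [])] (0, [8, 7, 6, 5, 3, 4, 2, 3, 7, 8, 4, 5, 3, 4, 1, 2, 3, 7, 6, 5, 4, 3, 2, 1]) (0, [8, 2, 3, 7, 4, 5, 3, 4, 2, 3, 7, 8, 3, 7, 4, 5, 3, 4, 1, 2, 3, 7, 6, 5, 4, 3, 2, 1]) (by decide +kernel)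
theorem s23_c54 : Claim E22 2 s23X (List.map (pv fi22X) [(6, []), (4, [6, 5]), (0, []), (5, []), (1, []), (3, [])]) := t22M.br e22R e22C 0 [(0, []), (5, [])] (7, []) [(2, []), (3, [8, 7]), (7, [])] [] [(7, []), (2, [3, 7, 6, 5, 4, 3]), (0, [8, 7, 4, 5, 3, 4, 2, 3, 7, 8, 3, 7, 4, 5, 3, 4, 1, 2, 3, 7, 6, 5, 4, 3, 2, 1]), (0, [8, 7, 4, 5, 3, 4, 2, 3, 7, 8, 3, 4, 5, 2, 3, 4, 1, 2, 3, 7, 6, 5, 4, 3, 2, 1])] 0 (by decide +kernel) (List.forall_mem_cons.2 ⟨s23_c46, (List.forall_mem_cons.2 ⟨s23_c51, (List.forall_mem_cons.2 ⟨s23_c52, (List.forall_mem_cons.2 ⟨s23_c53, (fun _ h => by cases h)⟩)⟩)⟩)⟩)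
theorem s23_c55 : Claim E22 2 s23X (List.map (pv fi22X) [(8, []), (7, []), (2, [4, 3]), (4, [6, 5]), (0, []), (5, []), (1, []), (3, [])]) := t22M.bad e22R 3 [(0, []), (3, [])] (0, [8, 4, 5, 3, 4, 1, 2, 3, 7, 6, 5, 4, 3, 2, 1]) (2, [7, 3, 4, 2, 3, 7, 8, 5, 4, 3, 7, 6, 5, 4, 3]) (by decide +kernel)
theorem s23_c56 : Claim E22 2 s23X (List.map (pv fi22X) [(2, [4, 3, 7, 8, 5, 4, 3, 7, 6, 5, 4, 3]), (7, []), (2, [4, 3]), (4, [6, 5]), (0, []), (5, []), (1, []), (3, [])]) := t22M.sym e22R e22C 2 [4, 3, 7, 5, 4, 3, 2, 1, 0] (by decide +kernel) s23_c4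
theorem s23_c57 : Claim E22 2 s23X (List.map (pv fi22X) [(0, [2, 3, 7, 8, 3, 4, 5, 2, 3, 4, 1, 2, 3, 7, 6, 5, 4, 3, 2, 1]), (7, []), (2, [4, 3]), (4, [6, 5]), (0, []), (5, []), (1, []), (3, [])]) := t22M.bad e22R 1 [(0, []), (2, [4, 3])] (0, [5, 3, 4, 2, 3, 7, 8, 3, 4, 5, 2, 3, 4, 1, 2, 3, 7, 6, 5, 4, 3, 2, 1]) (0, [6, 5, 4, 2, 3, 7, 8, 3, 4, 5, 2, 3, 4, 1, 2, 3, 7, 6, 5, 4, 3, 2, 1]) (by decide +kernel)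
theorem s23_c58 : Claim E22 2 s23X (List.map (pv fi22X) [(0, [2, 3, 7, 8, 3, 7, 4, 5, 3, 4, 1, 2, 3, 7, 6, 5, 4, 3, 2, 1]), (7, []), (2, [4, 3]), (4, [6, 5]), (0, []), (5, []), (1, []), (3, [])]) := t22M.bad e22R 2 [(0, []), (3, [])] (0, [5, 4, 3, 7, 8, 1, 2, 3, 7, 4, 3, 2, 1]) (0, [2, 3, 7, 8, 3, 7, 2, 3, 4, 1, 2, 3, 7, 6, 5, 4, 3, 2, 1]) (by decide +kernel)
theorem s23_c59 : Claim E22 2 s23X (List.map (pv fi22X) [(7, []), (2, [4, 3]), (4, [6, 5]), (0, []), (5, []), (1, []), (3, [])]) := t22M.br e22R e22C 0 [(0, []), (3, [])] (8, []) [(5, []), (6, []), (8, [])] [] [(8, []), (2, [4, 3, 7, 8, 5, 4, 3, 7, 6, 5, 4, 3]), (0, [2, 3, 7, 8, 3, 4, 5, 2, 3, 4, 1, 2, 3, 7, 6, 5, 4, 3, 2, 1]), (0, [2, 3, 7, 8, 3, 7, 4, 5, 3, 4, 1, 2, 3, 7, 6, 5, 4, 3, 2, 1])]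 0 (by decide +kernel) (List.forall_mem_cons.2 ⟨s23_c55, (List.forall_mem_cons.2 ⟨s23_c56, (List.forall_mem_cons.2 ⟨s23_c57, (List.forall_mem_cons.2 ⟨s23_c58, (fun _ h => by cases h)⟩)⟩)⟩)⟩)
theorem s23_c60 : Claim E22 2 s23X (List.map (pv fi22X) [(8, []), (2, [3, 7, 6, 5, 4, 3]), (2, [4, 3]), (4, [6, 5]), (0, []), (5, []), (1, []), (3, [])]) := t22M.bad e22R 2 [(0, []), (8, [])] (0, [3, 7, 8, 1, 2, 3, 7, 6, 5, 4, 3, 2, 1]) (0, [6, 5, 4, 2, 3, 7, 8, 5, 4, 1, 2, 3, 7, 6, 5, 4, 3, 2, 1]) (by decide +kernel)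
theorem s23_c61 : Claim E22 2 s23X (List.map (pv fi22X) [(2, [4, 3, 7, 8, 5, 4, 3, 7, 6, 5, 4, 3]), (2, [3, 7, 6, 5, 4, 3]), (2, [4, 3]), (4, [6, 5]), (0, []), (5, []), (1, []), (3, [])]) := t22M.bad e22R 2 [(0, []), (3, [])] (2, [8, 7, 3]) (2, [7, 3, 4, 2, 3, 7, 8, 5, 4, 3, 7, 6, 5, 4, 3]) (by decide +kernel)
theorem s23_c62 : Claim E22 2 s23X (List.map (pv fi22X) [(0, [2, 3, 7, 8, 3, 4, 5, 2, 3, 4, 1, 2, 3, 7, 6, 5, 4, 3, 2, 1]), (2, [3, 7, 6, 5, 4, 3]), (2, [4, 3]), (4, [6, 5]), (0, []), (5, []), (1, []), (3, [])]) := t22M.bad e22R 1 [(0, []), (2, [4, 3])] (0, [5, 3, 4, 2, 3, 7, 8, 3, 4, 5, 2, 3, 4, 1, 2, 3, 7, 6, 5, 4, 3, 2, 1]) (0, [6, 5, 4, 2, 3, 7, 8, 3, 4, 5, 2, 3, 4, 1, 2, 3, 7, 6, 5, 4, 3, 2, 1]) (by decide +kernel)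
theorem s23_c63 : Claim E22 2 s23X (List.map (pv fi22X) [(0, [2, 3, 7, 8, 3, 7, 4, 5, 3, 4, 1, 2, 3, 7, 6, 5, 4, 3, 2, 1]), (2, [3, 7, 6, 5, 4, 3]), (2, [4, 3]), (4, [6, 5]), (0, []), (5, []), (1, []), (3, [])]) := t22M.sym e22R e22C 3 [6, 5, 2, 3, 4, 1, 2, 3, 7, 0, 1, 2, 3, 4, 5, 6] (by decide +kernel) s23_c2
theorem s23_c64 : Claim E22 2 s23X (List.map (pv fi22X) [(2, [3, 7, 6, 5, 4, 3]), (2, [4, 3]), (4, [6, 5]), (0, []), (5, []), (1, []), (3, [])]) := t22M.br e22R e22C 0 [(0, []), (3, [])] (8, []) [(5, []), (6, []), (8, [])] [] [(8, []), (2, [4, 3, 7, 8, 5, 4, 3, 7, 6, 5, 4, 3]), (0, [2, 3, 7, 8, 3, 4, 5, 2, 3, 4, 1, 2, 3, 7, 6, 5, 4, 3, 2, 1]), (0, [2, 3, 7, 8, 3, 7, 4, 5, 3, 4, 1, 2, 3, 7, 6, 5, 4, 3, 2, 1])] 0 (by decide +kernel) (List.forall_mem_cons.2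 ⟨s23_c60, (List.forall_mem_cons.2 ⟨s23_c61, (List.forall_mem_cons.2 ⟨s23_c62, (List.forall_mem_cons.2 ⟨s23_c63, (fun _ h => by cases h)⟩)⟩)⟩)⟩)
theorem s23_c65 : Claim E22 2 s23X (List.map (pv fi22X) [(0, [8, 7, 4, 5, 3, 4, 2, 3, 7, 8, 3, 7, 4, 5, 3, 4, 1, 2, 3, 7, 6, 5, 4, 3, 2, 1]), (2, [4, 3]), (4, [6, 5]), (0, []), (5, []), (1, []), (3, [])]) := t22M.sym e22R e22C 3 [8, 6, 5, 2, 3, 4, 1, 2, 3, 7, 0, 1, 2, 3, 4, 5, 6] (by decide +kernel) s23_c2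
theorem s23_c66 : Claim E22 2 s23X (List.map (pv fi22X) [(0, [8, 7, 4, 5, 3, 4, 2, 3, 7, 8, 3, 4, 5, 2, 3, 4, 1, 2, 3, 7, 6, 5, 4, 3, 2, 1]), (2, [4, 3]), (4, [6, 5]), (0, []), (5, []), (1, []), (3, [])]) := t22M.sym e22R e22C 3 [8, 4, 3, 7, 5, 4, 3, 2, 1, 0] (by decide +kernel) s23_c4
theorem s23_c67 : Claim E22 2 s23X (List.map (pv fi22X) [(2, [4, 3]), (4, [6, 5]), (0, []), (5, []), (1, []), (3, [])]) := t22M.br e22R e22C 0 [(0, []), (5, [])] (7, []) [(2, []), (3, [8, 7]), (7, [])] [] [(7, []), (2, [3, 7, 6, 5, 4, 3]), (0, [8, 7, 4, 5, 3, 4, 2, 3, 7, 8, 3, 7, 4, 5, 3, 4, 1, 2, 3, 7, 6, 5, 4, 3, 2, 1]), (0, [8, 7, 4, 5, 3, 4, 2, 3, 7, 8, 3, 4, 5, 2, 3, 4, 1, 2, 3, 7, 6, 5, 4, 3, 2, 1])] 0 (by decide +kernel) (List.forall_mem_cons.2 ⟨s23_c59, (List.forall_mem_cons.2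 ⟨s23_c64, (List.forall_mem_cons.2 ⟨s23_c65, (List.forall_mem_cons.2 ⟨s23_c66, (fun _ h => by cases h)⟩)⟩)⟩)⟩)
theorem s23_c68 : Claim E22 2 s23X (List.map (pv fi22X) [(7, []), (0, [7, 8, 3, 7, 1, 2, 3, 4, 0, 1, 2, 3, 7, 8, 3, 7, 5, 2, 3, 4, 1, 2, 3, 7, 6, 5, 4, 3, 2, 1]), (4, [6, 5]), (0, []), (5, []), (1, []), (3, [])]) := t22M.sym e22R e22C 4 [8, 7, 6, 5, 3, 4, 2, 3, 7, 8, 1, 2, 3, 7, 0, 1, 2, 3, 4, 5, 6] (by decide +kernel) s23_c2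
theorem s23_c69 : Claim E22 2 s23X (List.map (pv fi22X) [(7, []), (2, [3, 7, 6, 5, 4, 3]), (0, [7, 8, 3, 7, 1, 2, 3, 4, 0, 1, 2, 3, 7, 8, 3, 7, 5, 2, 3, 4, 1, 2, 3, 7, 6, 5, 4, 3, 2, 1]), (4, [6, 5]), (0, []), (5, []), (1, []), (3, [])]) := t22M.bad e22R 0 [(0, []), (7, [])] (5, []) (2, [3, 7, 6, 5, 4, 3]) (by decide +kernel)
theorem s23_c70 : Claim E22 2 s23X (List.map (pv fi22X) [(2, [4, 3, 7, 5, 4, 3]), (2, [3, 7, 6, 5, 4, 3]), (0, [7, 8, 3, 7, 1, 2, 3, 4, 0, 1, 2, 3, 7, 8, 3, 7, 5, 2, 3, 4, 1, 2, 3, 7, 6, 5, 4, 3, 2, 1]), (4, [6, 5]), (0, []), (5, []), (1, []), (3, [])]) := t22M.bad e22R 1 [(0, []), (0, [7, 8, 3, 7, 1, 2, 3, 4, 0, 1, 2, 3, 7, 8, 3, 7, 5, 2, 3, 4, 1, 2, 3, 7, 6, 5, 4, 3, 2, 1])] (0, [8, 7, 3, 4, 2, 3, 7, 8, 5, 2, 3, 4, 1, 2, 3,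 7, 6, 5, 4, 3, 2, 1]) (0, [8, 7, 3, 4, 2, 3, 7, 8, 7, 4, 5, 2, 3, 4, 1, 2, 3, 7, 6, 5, 4, 3, 2, 1]) (by decide +kernel)
theorem s23_c71 : Claim E22 2 s23X (List.map (pv fi22X) [(0, [8, 7, 6, 5, 3, 4, 2, 3, 7, 8, 3, 7, 4, 5, 3, 4, 1, 2, 3, 7, 6, 5, 4, 3, 2, 1]), (2, [3, 7, 6, 5, 4, 3]), (0, [7, 8, 3, 7, 1, 2, 3, 4, 0, 1, 2, 3, 7, 8, 3, 7, 5, 2, 3, 4, 1, 2, 3, 7, 6, 5, 4, 3, 2, 1]), (4, [6, 5]), (0, []), (5, []), (1, []), (3, [])]) := t22M.bad e22R 0 [(5, []), (4, [6, 5])] (2, [3, 7, 6, 5, 4, 3]) (0, [8, 7, 6, 5, 3, 4, 2, 3, 7, 8, 3, 7, 4, 5, 3, 4, 1, 2, 3, 7, 6, 5, 4, 3, 2, 1]) (by decide +kernel)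
theorem s23_c72 : Claim E22 2 s23X (List.map (pv fi22X) [(0, [8, 7, 6, 5, 3, 4, 2, 3, 7, 8, 3, 4, 5, 2, 3, 4, 1, 2, 3, 7, 6, 5, 4, 3, 2, 1]), (2, [3, 7, 6, 5, 4, 3]), (0, [7, 8, 3, 7, 1, 2, 3, 4, 0, 1, 2, 3, 7, 8, 3, 7, 5, 2, 3, 4, 1, 2, 3, 7, 6, 5, 4, 3, 2, 1]), (4, [6, 5]), (0, []), (5, []), (1, []), (3, [])]) := t22M.sym e22R e22C 3 [7, 8, 3, 7, 6, 5, 4, 3, 2, 1, 0] (by decide +kernel) s23_c4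
theorem s23_c73 : Claim E22 2 s23X (List.map (pv fi22X) [(2, [3, 7, 6, 5, 4, 3]), (0, [7, 8, 3, 7, 1, 2, 3, 4, 0, 1, 2, 3, 7, 8, 3, 7, 5, 2, 3, 4, 1, 2, 3, 7, 6, 5, 4, 3, 2, 1]), (4, [6, 5]), (0, []), (5, []), (1, []), (3, [])]) := t22M.br e22R e22C 0 [(0, []), (4, [6, 5])] (7, []) [(2, []), (3, [8, 7, 4]), (7, [])] [] [(7, []), (2, [4, 3, 7, 5, 4, 3]), (0, [8, 7, 6, 5, 3, 4, 2, 3, 7, 8, 3, 7, 4, 5, 3, 4, 1, 2, 3, 7, 6, 5, 4, 3, 2, 1]), (0, [8, 7, 6, 5, 3, 4, 2, 3, 7, 8, 3, 4, 5, 2, 3, 4, 1, 2, 3, 7, 6, 5, 4, 3, 2, 1])] 0 (by decide +kernel) (List.forall_mem_cons.2 ⟨s23_c69, (List.forall_mem_cons.2 ⟨s23_c70, (List.forall_mem_cons.2 ⟨s23_c71, (List.forall_mem_cons.2 ⟨s23_c72, (fun _ h => by cases h)⟩)⟩)⟩)⟩)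
theorem s23_c74 : Claim E22 2 s23X (List.map (pv fi22X) [(0, [8, 7, 4, 5, 3, 4, 2, 3, 7, 8, 3, 7, 4, 5, 3, 4, 1, 2, 3, 7, 6, 5, 4, 3, 2, 1]), (0, [7, 8, 3, 7, 1, 2, 3, 4, 0, 1, 2, 3, 7, 8, 3, 7, 5, 2, 3, 4, 1, 2, 3, 7, 6, 5, 4, 3, 2, 1]), (4, [6, 5]), (0, []), (5, []), (1, []), (3, [])]) := t22M.sym e22R e22C 4 [7, 6, 5, 3, 4, 2, 3, 7, 8, 1, 2, 3, 7, 0, 1, 2, 3, 4, 5, 6] (by decide +kernel) s23_c2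
theorem s23_c75 : Claim E22 2 s23X (List.map (pv fi22X) [(0, [8, 7, 4, 5, 3, 4, 2, 3, 7, 8, 3, 4, 5, 2, 3, 4, 1, 2, 3, 7, 6, 5, 4, 3, 2, 1]), (0, [7, 8, 3, 7, 1, 2, 3, 4, 0, 1, 2, 3, 7, 8, 3, 7, 5, 2, 3, 4, 1, 2, 3, 7, 6, 5, 4, 3, 2, 1]), (4, [6, 5]), (0, []), (5, []), (1, []), (3, [])]) := t22M.bad e22R 2 [(0, []), (3, [])] (0, [8, 4, 5, 3, 4, 1, 2, 3, 7, 6, 5, 4, 3, 2, 1]) (2, [7, 3, 4, 2, 3, 7, 8, 5, 4, 3, 7, 6, 5, 4, 3]) (by decide +kernel)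
theorem s23_c76 : Claim E22 2 s23X (List.map (pv fi22X) [(0, [7, 8, 3, 7, 1, 2, 3, 4, 0, 1, 2, 3, 7, 8, 3, 7, 5, 2, 3, 4, 1, 2, 3, 7, 6, 5, 4, 3, 2, 1]), (4, [6, 5]), (0, []), (5, []), (1, []), (3, [])]) := t22M.br e22R e22C 0 [(0, []), (5, [])] (7, []) [(2, []), (3, [8, 7]), (7, [])] [] [(7, []), (2, [3, 7, 6, 5, 4, 3]), (0, [8, 7, 4, 5, 3, 4, 2, 3, 7, 8, 3, 7, 4, 5, 3, 4, 1, 2, 3, 7, 6, 5, 4, 3, 2, 1]), (0, [8, 7, 4, 5, 3, 4, 2, 3, 7, 8, 3, 4, 5, 2, 3, 4, 1, 2, 3, 7, 6, 5, 4, 3, 2, 1])] 0 (by decide +kernel) (List.forall_mem_cons.2 ⟨s23_c68, (List.forall_mem_cons.2 ⟨s23_c73, (List.forall_mem_cons.2 ⟨s23_c74, (List.forall_mem_cons.2 ⟨s23_c75, (fun _ h => by cases h)⟩)⟩)⟩)⟩)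
theorem s23_c77 : Claim E22 2 s23X (List.map (pv fi22X) [(2, [7, 3]), (0, [7, 8, 3, 7, 1, 2, 3, 4, 0, 1, 2, 3, 7, 8, 3, 4, 5, 2, 3, 4, 1, 2, 3, 7, 6, 5, 4, 3, 2, 1]), (4, [6, 5]), (0, []), (5, []), (1, []), (3, [])]) := t22M.bad e22R 1 [(0, []), (2, [7, 3])] (0, [8, 7, 5, 3, 4, 2, 3, 7, 8, 7, 4, 5, 2, 3, 4, 1, 2, 3, 7, 6, 5, 4, 3, 2, 1]) (0, [7, 8, 3, 7, 6, 4, 5, 3, 4, 2, 3, 7, 8, 3, 4, 5, 2, 3, 4, 1, 2, 3, 7, 6, 5, 4, 3, 2, 1]) (by decide +kernel)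
theorem s23_c78 : Claim E22 2 s23X (List.map (pv fi22X) [(7, []), (0, [4, 5, 3, 4, 1, 2, 3, 7, 6, 5, 4, 3, 2, 1]), (0, [7, 8, 3, 7, 1, 2, 3, 4, 0, 1, 2, 3, 7, 8, 3, 4, 5, 2, 3, 4, 1, 2, 3, 7, 6, 5, 4, 3, 2, 1]), (4, [6, 5]), (0, []), (5, []), (1, []), (3, [])]) := t22M.bad e22R 1 [(0, []), (7, [])] (0, [8, 7, 3, 4, 2, 3, 7, 8, 3, 4, 5, 2, 3, 4, 1, 2, 3, 7, 6, 5, 4, 3, 2, 1]) (0, [8, 7, 3, 4, 2, 3, 7, 8, 3, 7, 4, 5, 3, 4, 1, 2, 3, 7, 6, 5, 4, 3, 2, 1]) (by decide +kernel)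
theorem s23_c79 : Claim E22 2 s23X (List.map (pv fi22X) [(2, [3, 7, 6, 5, 4, 3]), (0, [4, 5, 3, 4, 1, 2, 3, 7, 6, 5, 4, 3, 2, 1]), (0, [7, 8, 3, 7, 1, 2, 3, 4, 0, 1, 2, 3, 7, 8, 3, 4, 5, 2, 3, 4, 1, 2, 3, 7, 6, 5, 4, 3, 2, 1]), (4, [6, 5]), (0, []), (5, []), (1, []), (3, [])]) := t22M.bad e22R 1 [(0, []), (3, [])] (2, [7, 3]) (0, [4, 5, 3, 4, 1, 2, 3, 7, 6, 5, 4, 3, 2, 1]) (by decide +kernel)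
theorem s23_c80 : Claim E22 2 s23X (List.map (pv fi22X) [(0, [8, 7, 4, 5, 3, 4, 2, 3, 7, 8, 3, 7, 4, 5, 3, 4, 1, 2, 3, 7, 6, 5, 4, 3, 2, 1]), (0, [4, 5, 3, 4, 1, 2, 3, 7, 6, 5, 4, 3, 2, 1]), (0, [7, 8, 3, 7, 1, 2, 3, 4, 0, 1, 2, 3, 7, 8, 3, 4, 5, 2, 3, 4, 1, 2, 3, 7, 6, 5, 4, 3, 2, 1]), (4, [6, 5]), (0, []), (5, []), (1, []), (3, [])]) := t22M.bad e22R 1 [(0, []), (0, [7, 8, 3, 7, 1, 2, 3, 4, 0, 1, 2, 3, 7, 8, 3, 4, 5, 2, 3, 4, 1, 2, 3, 7, 6, 5, 4, 3, 2, 1])] (0, [8, 7, 5, 3, 4, 2, 3, 7, 8, 5, 4, 1, 2, 3, 7, 6, 5, 4, 3, 2, 1]) (0, [8, 7, 4, 5, 3, 4, 2, 3, 7, 8, 7, 4, 5, 2, 3, 4, 1, 2, 3, 7, 6, 5, 4, 3, 2, 1]) (by decide +kernel)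
theorem s23_c81 : Claim E22 2 s23X (List.map (pv fi22X) [(0, [8, 7, 4, 5, 3, 4, 2, 3, 7, 8, 3, 4, 5, 2, 3, 4, 1, 2, 3, 7, 6, 5, 4, 3, 2, 1]), (0, [4, 5, 3, 4, 1, 2, 3, 7, 6, 5, 4, 3, 2, 1]), (0, [7, 8, 3, 7, 1, 2, 3, 4, 0, 1, 2, 3, 7, 8, 3, 4, 5, 2, 3, 4, 1, 2, 3, 7, 6, 5, 4, 3, 2, 1]), (4, [6, 5]), (0, []), (5, []), (1, []), (3, [])]) := t22M.sym e22R e22C 3 [4, 5, 3, 4, 2, 3, 7, 8, 1, 2, 3, 7, 0, 1, 2, 3, 4, 5, 6] (by decide +kernel) s23_c2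
theorem s23_c82 : Claim E22 2 s23X (List.map (pv fi22X) [(0, [4, 5, 3, 4, 1, 2, 3, 7, 6, 5, 4, 3, 2, 1]), (0, [7, 8, 3, 7, 1, 2, 3, 4, 0, 1, 2, 3, 7, 8, 3, 4, 5, 2, 3, 4, 1, 2, 3, 7, 6, 5, 4, 3, 2, 1]), (4, [6, 5]), (0, []), (5, []), (1, []), (3, [])]) := t22M.br e22R e22C 0 [(0, []), (5, [])] (7, []) [(2, []), (3, [8, 7]), (7, [])] [] [(7, []), (2, [3, 7, 6, 5, 4, 3]), (0, [8, 7, 4, 5, 3, 4, 2, 3, 7, 8, 3, 7, 4, 5, 3, 4, 1, 2, 3, 7, 6, 5, 4, 3, 2, 1]), (0, [8, 7, 4, 5, 3, 4, 2, 3, 7, 8, 3, 4, 5, 2, 3, 4, 1, 2, 3, 7, 6, 5, 4, 3, 2, 1])] 0 (by decide +kernel) (List.forall_mem_cons.2 ⟨s23_c78, (List.forall_mem_cons.2 ⟨s23_c79, (List.forall_mem_cons.2 ⟨s23_c80, (List.forall_mem_cons.2 ⟨s23_c81, (fun _ h => by cases h)⟩)⟩)⟩)⟩)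
theorem s23_c83 : Claim E22 2 s23X (List.map (pv fi22X) [(0, [7, 4, 5, 2, 3, 4, 1, 2, 3, 7, 6, 5, 4, 3, 2, 1]), (0, [7, 8, 3, 7, 1, 2, 3, 4, 0, 1, 2, 3, 7, 8, 3, 4, 5, 2, 3, 4, 1, 2, 3, 7, 6, 5, 4, 3, 2, 1]), (4, [6, 5]), (0, []), (5, []), (1, []), (3, [])]) := t22M.sym e22R e22C 6 [8, 4, 5, 3, 4, 2, 3, 7, 1, 2, 3, 4, 0, 1, 2, 3, 7, 8, 5, 4, 3, 7, 6, 5, 4, 3, 2, 1, 0] (by decide +kernel) s23_c4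
theorem s23_c84 : Claim E22 2 s23X (List.map (pv fi22X) [(1, [1, 2, 3, 7, 4, 5, 3, 4, 2, 3, 7, 6, 5, 4, 3, 2]), (0, [7, 8, 3, 7, 1, 2, 3, 4, 0, 1, 2, 3, 7, 8, 3, 4, 5, 2, 3, 4, 1, 2, 3, 7, 6, 5, 4, 3, 2, 1]), (4, [6, 5]), (0, []), (5, []), (1, []), (3, [])]) := t22M.sym e22R e22C 5 [4, 5, 3, 4, 2, 3, 7, 1, 2, 3, 4, 0, 1, 2, 3, 7, 8, 5, 4, 3, 7, 6, 5, 4, 3, 2, 1, 0] (by decide +kernel) s23_c4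
theorem s23_c85 : Claim E22 2 s23X (List.map (pv fi22X) [(0, [7, 8, 3, 7, 1, 2, 3, 4, 0, 1, 2, 3, 7, 8, 3, 4, 5, 2, 3, 4, 1, 2, 3, 7, 6, 5, 4, 3, 2, 1]), (4, [6, 5]), (0, []), (5, []), (1, []), (3, [])]) := t22M.br e22R e22C 0 [(0, []), (3, [])] (2, [7, 3]) [(5, []), (6, []), (2, [7, 3])] [] [(2, [7, 3]), (0, [4, 5, 3, 4, 1, 2, 3, 7, 6, 5, 4, 3, 2, 1]), (0, [7, 4, 5, 2, 3, 4, 1, 2, 3, 7, 6, 5, 4, 3, 2, 1]), (1, [1, 2, 3, 7, 4, 5, 3, 4, 2, 3, 7, 6, 5, 4, 3, 2])] 0 (by decide +kernel) (List.forall_mem_cons.2 ⟨s23_c77, (List.forall_mem_cons.2 ⟨s23_c82, (List.forall_mem_cons.2 ⟨s23_c83, (List.forall_mem_cons.2 ⟨s23_c84, (fun _ h => by cases h)⟩)⟩)⟩)⟩)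
theorem s23_c86 : Claim E22 2 s23X (List.map (pv fi22X) [(4, [6, 5]), (0, []), (5, []), (1, []), (3, [])]) := t22M.br e22R e22C 0 [(0, []), (3, [])] (6, []) [(8, []), (2, [7, 3]), (6, [])] [] [(6, []), (2, [4, 3]), (0, [7, 8, 3, 7, 1, 2, 3, 4, 0, 1, 2, 3, 7, 8, 3, 7, 5, 2, 3, 4, 1, 2, 3, 7, 6, 5, 4, 3, 2, 1]), (0, [7, 8, 3, 7, 1, 2, 3, 4, 0, 1, 2, 3, 7, 8, 3, 4, 5, 2, 3, 4, 1, 2, 3, 7, 6, 5, 4, 3, 2, 1])] 0 (by decide +kernel) (List.forall_mem_cons.2 ⟨s23_c54, (List.forall_mem_cons.2 ⟨s23_c67, (List.forall_mem_cons.2 ⟨s23_c76, (List.forall_mem_cons.2 ⟨s23_c85, (fun _ h => by cases h)⟩)⟩)⟩)⟩)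
theorem s23_c87 : Claim E22 2 s23X (List.map (pv fi22X) [(2, [7, 3]), (6, []), (0, [3, 7, 8, 2, 3, 7, 4, 5, 3, 4, 2, 3, 7, 8, 3, 7, 4, 5, 3, 4, 1, 2, 3, 7, 6, 5, 4, 3, 2, 1]), (0, []), (5, []), (1, []), (3, [])]) := t22M.bad e22R 2 [(0, []), (0, [4, 1, 2, 3, 7, 5, 4, 3, 2, 1])] (0, [4, 2, 3, 7, 8, 3, 4, 1, 2, 3, 7, 5, 4, 3, 2, 1]) (0, [5, 4, 3, 7, 8, 5, 4, 1, 2, 3, 7, 6, 5, 4, 3, 2, 1]) (by decide +kernel)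
theorem s23_c88 : Claim E22 2 s23X (List.map (pv fi22X) [(0, [4, 5, 3, 4, 1, 2, 3, 7, 6, 5, 4, 3, 2, 1]), (6, []), (0, [3, 7, 8, 2, 3, 7, 4, 5, 3, 4, 2, 3, 7, 8, 3, 7, 4, 5, 3, 4, 1, 2, 3, 7, 6, 5, 4, 3, 2, 1]), (0, []), (5, []), (1, []), (3, [])]) := t22M.sym e22R e22C 3 [4, 3, 7, 5, 6, 4, 5, 3, 4, 2, 3, 7, 8, 1, 2, 3, 7, 0, 1, 2, 3, 4, 5, 6] (by decide +kernel) s23_c2
theorem s23_c89 : Claim E22 2 s23X (List.map (pv fi22X) [(7, []), (0, [7, 4, 5, 2, 3, 4, 1, 2, 3, 7, 6, 5, 4, 3, 2, 1]), (6, []), (0, [3, 7, 8, 2, 3, 7, 4, 5, 3, 4, 2, 3, 7, 8, 3, 7, 4, 5, 3, 4, 1, 2, 3, 7, 6, 5, 4, 3, 2, 1]), (0, []), (5, []), (1, []), (3, [])]) := t22M.sym e22R e22C 4 [4, 3, 7, 8, 5, 4, 3, 7, 6, 5, 4, 3, 2, 1, 0] (by decide +kernel) s23_c4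
theorem s23_c90 : Claim E22 2 s23X (List.map (pv fi22X) [(2, [3, 7, 6, 5, 4, 3]), (0, [7, 4, 5, 2, 3, 4, 1, 2, 3, 7, 6, 5, 4, 3, 2, 1]), (6, []), (0, [3, 7, 8, 2, 3, 7, 4, 5, 3, 4, 2, 3, 7, 8, 3, 7, 4, 5, 3, 4, 1, 2, 3, 7, 6, 5, 4, 3, 2, 1]), (0, []), (5, []), (1, []), (3, [])]) := t22M.bad e22R 1 [(0, []), (5, [])] (0, [8, 3, 7, 4, 5, 3, 4, 2, 3, 7, 8, 5, 4, 1, 2, 3, 7, 6, 5, 4, 3, 2, 1]) (0, [8, 7, 6, 5, 3, 4, 2, 3, 7, 8, 7, 4, 5, 3, 4, 1, 2, 3, 7, 6, 5, 4, 3, 2, 1]) (by decide +kernel)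
theorem s23_c91 : Claim E22 2 s23X (List.map (pv fi22X) [(0, [8, 7, 4, 5, 3, 4, 2, 3, 7, 8, 3, 7, 4, 5, 3, 4, 1, 2, 3, 7, 6, 5, 4, 3, 2, 1]), (0, [7, 4, 5, 2, 3, 4, 1, 2, 3, 7, 6, 5, 4, 3, 2, 1]), (6, []), (0, [3, 7, 8, 2, 3, 7, 4, 5, 3, 4, 2, 3, 7, 8, 3, 7, 4, 5, 3, 4, 1, 2, 3, 7, 6, 5, 4, 3, 2, 1]), (0, []), (5, []), (1, []), (3, [])]) := t22M.bad e22R 1 [(0, []), (3, [])] (2, [7, 3]) (0, [4, 5, 3, 4, 1, 2, 3, 7, 6, 5, 4, 3, 2, 1]) (by decide +kernel)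
theorem s23_c92 : Claim E22 2 s23X (List.map (pv fi22X) [(0, [8, 7, 4, 5, 3, 4, 2, 3, 7, 8, 3, 4, 5, 2, 3, 4, 1, 2, 3, 7, 6, 5, 4, 3, 2, 1]), (0, [7, 4, 5, 2, 3, 4, 1, 2, 3, 7, 6, 5, 4, 3, 2, 1]), (6, []), (0, [3, 7, 8, 2, 3, 7, 4, 5, 3, 4, 2, 3, 7, 8, 3, 7, 4, 5, 3, 4, 1, 2, 3, 7, 6, 5, 4, 3, 2, 1]), (0, []), (5, []), (1, []), (3, [])]) := t22M.bad e22R 1 [(0, []), (3, [])] (0, [7, 4, 5, 2, 3, 4, 1, 2, 3, 7, 6, 5, 4, 3, 2, 1]) (1, [1, 2, 3, 7, 4, 5, 3, 4, 2, 3, 7, 6, 5, 4, 3, 2]) (by decide +kernel)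
theorem s23_c93 : Claim E22 2 s23X (List.map (pv fi22X) [(0, [7, 4, 5, 2, 3, 4, 1, 2, 3, 7, 6, 5, 4, 3, 2, 1]), (6, []), (0, [3, 7, 8, 2, 3, 7, 4, 5, 3, 4, 2, 3, 7, 8, 3, 7, 4, 5, 3, 4, 1, 2, 3, 7, 6, 5, 4, 3, 2, 1]), (0, []), (5, []), (1, []), (3, [])]) := t22M.br e22R e22C 0 [(0, []), (5, [])] (7, []) [(2, []), (3, [8, 7]), (7, [])] [] [(7, []), (2, [3, 7, 6, 5, 4, 3]), (0, [8, 7, 4, 5, 3, 4, 2, 3, 7, 8, 3, 7, 4, 5, 3, 4, 1, 2, 3, 7, 6, 5, 4, 3, 2, 1]), (0, [8, 7, 4, 5, 3, 4, 2, 3, 7, 8, 3, 4, 5, 2, 3, 4, 1, 2, 3, 7, 6, 5, 4, 3, 2, 1])] 0 (by decide +kernel) (List.forall_mem_cons.2 ⟨s23_c89, (List.forall_mem_cons.2 ⟨s23_c90, (List.forall_mem_cons.2 ⟨s23_c91, (List.forall_mem_cons.2 ⟨s23_c92, (fun _ h => by cases h)⟩)⟩)⟩)⟩)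
theorem s23_c94 : Claim E22 2 s23X (List.map (pv fi22X) [(1, [1, 2, 3, 7, 4, 5, 3, 4, 2, 3, 7, 6, 5, 4, 3, 2]), (6, []), (0, [3, 7, 8, 2, 3, 7, 4, 5, 3, 4, 2, 3, 7, 8, 3, 7, 4, 5, 3, 4, 1, 2, 3, 7, 6, 5, 4, 3, 2, 1]), (0, []), (5, []), (1, []), (3, [])]) := t22M.sym e22R e22C 6 [8, 4, 3, 7, 5, 6, 4, 5, 3, 4, 2, 3, 7, 8, 1, 2, 3, 7, 0, 1, 2, 3, 4, 5, 6] (by decide +kernel) s23_c2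
theorem s23_c95 : Claim E22 2 s23X (List.map (pv fi22X) [(6, []), (0, [3, 7, 8, 2, 3, 7, 4, 5, 3, 4, 2, 3, 7, 8, 3, 7, 4, 5, 3, 4, 1, 2, 3, 7, 6, 5, 4, 3, 2, 1]), (0, []), (5, []), (1, []), (3, [])]) := t22M.br e22R e22C 0 [(0, []), (3, [])] (2, [7, 3]) [(5, []), (6, []), (2, [7, 3])] [] [(2, [7, 3]), (0, [4, 5, 3, 4, 1, 2, 3, 7, 6, 5, 4, 3, 2, 1]), (0, [7, 4, 5, 2, 3, 4, 1, 2, 3, 7, 6, 5, 4, 3, 2, 1]), (1, [1, 2, 3, 7, 4, 5, 3, 4, 2, 3, 7, 6, 5, 4, 3, 2])] 0 (by decide +kernel) (List.forall_mem_cons.2 ⟨s23_c87, (List.forall_mem_cons.2 ⟨s23_c88, (List.forall_mem_cons.2 ⟨s23_c93, (List.forall_mem_cons.2 ⟨s23_c94, (fun _ h => by cases h)⟩)⟩)⟩)⟩)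
theorem s23_c96 : Claim E22 2 s23X (List.map (pv fi22X) [(2, [4, 3]), (0, [3, 7, 8, 2, 3, 7, 4, 5, 3, 4, 2, 3, 7, 8, 3, 7, 4, 5, 3, 4, 1, 2, 3, 7, 6, 5, 4, 3, 2, 1]), (0, []), (5, []), (1, []), (3, [])]) := t22M.bad e22R 2 [(0, []), (5, [])] (2, [3]) (0, [7, 8, 2, 3, 7, 4, 5, 3, 4, 2, 3, 7, 8, 3, 4, 5, 2, 3, 4, 1, 2, 3, 7, 6, 5, 4, 3, 2, 1]) (by decide +kernel)
theorem s23_c97 : Claim E22 2 s23X (List.map (pv fi22X) [(7, []), (0, [7, 8, 3, 7, 1, 2, 3, 4, 0, 1, 2, 3, 7, 8, 3, 7, 5, 2, 3, 4, 1, 2, 3, 7, 6, 5, 4, 3, 2, 1]), (0, [3, 7, 8, 2, 3, 7, 4, 5, 3, 4, 2, 3, 7, 8, 3, 7, 4, 5, 3, 4, 1, 2, 3, 7, 6, 5, 4, 3, 2, 1]), (0, []), (5, []), (1, []), (3, [])]) := t22M.sym e22R e22C 3 [2, 3, 4, 5, 1, 2, 3, 4, 0, 1, 2, 3, 7, 8, 7, 3, 4, 2, 3, 7, 5, 4, 3, 2,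 1, 0] (by decide +kernel) s23_c4
theorem s23_c98 : Claim E22 2 s23X (List.map (pv fi22X) [(2, [3, 7, 6, 5, 4, 3]), (0, [7, 8, 3, 7, 1, 2, 3, 4, 0, 1, 2, 3, 7, 8, 3, 7, 5, 2, 3, 4, 1, 2, 3, 7, 6, 5, 4, 3, 2, 1]), (0, [3, 7, 8, 2, 3, 7, 4, 5, 3, 4, 2, 3, 7, 8, 3, 7, 4, 5, 3, 4, 1, 2, 3, 7, 6, 5, 4, 3, 2, 1]), (0, []), (5, []), (1, []), (3, [])]) := t22M.bad e22R 1 [(0, []), (2, [3, 7, 6, 5, 4, 3])] (0, [8, 7, 6, 5, 3, 4, 2, 3, 7, 8, 3, 7, 4, 5, 3, 4, 1, 2, 3, 7, 6, 5, 4, 3, 2, 1]) (0, [3, 7, 8, 2, 3, 7, 4, 5, 3, 4, 2, 3, 7, 8, 3, 7, 4, 5, 3, 4, 1, 2, 3, 7, 6, 5, 4, 3, 2, 1]) (by decide +kernel)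
theorem s23_c99 : Claim E22 2 s23X (List.map (pv fi22X) [(0, [8, 7, 4, 5, 3, 4, 2, 3, 7, 8, 3, 7, 4, 5, 3, 4, 1, 2, 3, 7, 6, 5, 4, 3, 2, 1]), (0, [7, 8, 3, 7, 1, 2, 3, 4, 0, 1, 2, 3, 7, 8, 3, 7, 5, 2, 3, 4, 1, 2, 3, 7, 6, 5, 4, 3, 2, 1]), (0, [3, 7, 8, 2, 3, 7, 4, 5, 3, 4, 2, 3, 7, 8, 3, 7, 4, 5, 3, 4, 1, 2, 3, 7, 6, 5, 4, 3, 2, 1]), (0, []), (5, []), (1, []), (3, [])]) := t22M.sym e22R e22C 2 [2, 3, 4, 5, 1, 2, 3, 4, 0, 1, 2, 3, 7, 8, 3, 4, 2, 3, 7, 5, 4, 3, 2, 1, 0] (by decide +kernel) s23_c4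
theorem s23_c100 : Claim E22 2 s23X (List.map (pv fi22X) [(2, []), (0, [8, 7, 4, 5, 3, 4, 2, 3, 7, 8, 3, 4, 5, 2, 3, 4, 1, 2, 3, 7, 6, 5, 4, 3, 2, 1]), (0, [7, 8, 3, 7, 1, 2, 3, 4, 0, 1, 2, 3, 7, 8, 3, 7, 5, 2, 3, 4, 1, 2, 3, 7, 6, 5, 4, 3, 2, 1]), (0, [3, 7, 8, 2, 3, 7, 4, 5, 3, 4, 2, 3, 7, 8, 3, 7, 4, 5, 3, 4, 1, 2, 3, 7, 6, 5, 4, 3, 2, 1]), (0, []), (5, []), (1, []), (3, [])]) := t22M.bad e22R 0 [(0, []), (2, [])] (5, []) (0, [3, 7, 8, 2, 3, 7, 4, 5, 3, 4, 2, 3, 7, 8, 3, 7, 4, 5, 3, 4, 1, 2, 3, 7, 6, 5, 4, 3, 2, 1]) (by decide +kernel)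
theorem s23_c101 : Claim E22 2 s23X (List.map (pv fi22X) [(0, [3, 7, 2, 3, 4, 1, 2, 3, 7, 5, 4, 3, 2, 1]), (0, [8, 7, 4, 5, 3, 4, 2, 3, 7, 8, 3, 4, 5, 2, 3, 4, 1, 2, 3, 7, 6, 5, 4, 3, 2, 1]), (0, [7, 8, 3, 7, 1, 2, 3, 4, 0, 1, 2, 3, 7, 8, 3, 7, 5, 2, 3, 4, 1, 2, 3, 7, 6, 5, 4, 3, 2, 1]), (0, [3, 7, 8, 2, 3, 7, 4, 5, 3, 4, 2, 3, 7, 8, 3, 7, 4, 5, 3, 4, 1, 2, 3, 7, 6, 5, 4, 3, 2, 1]), (0, []), (5, []), (1, []), (3, [])]) := t22M.sym e22R e22C 3 [7, 8, 3, 7, 4, 5, 3, 4, 2, 3, 7, 8, 1, 2, 3, 7, 0, 1, 2, 3, 4, 5, 6] (by decide +kernel) s23_c2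
theorem s23_c102 : Claim E22 2 s23X (List.map (pv fi22X) [(0, [4, 3, 7, 2, 3, 4, 1, 2, 3, 7, 6, 5, 4, 3, 2, 1]), (0, [8, 7, 4, 5, 3, 4, 2, 3, 7, 8, 3, 4, 5, 2, 3, 4, 1, 2, 3, 7, 6, 5, 4, 3, 2, 1]), (0, [7, 8, 3, 7, 1, 2, 3, 4, 0, 1, 2, 3, 7, 8, 3, 7, 5, 2, 3, 4, 1, 2, 3, 7, 6, 5, 4, 3, 2, 1]), (0, [3, 7, 8, 2, 3, 7, 4, 5, 3, 4, 2, 3, 7, 8, 3, 7, 4, 5, 3, 4, 1, 2, 3, 7, 6, 5, 4, 3, 2, 1]), (0, []), (5, []), (1, []), (3, [])]) := t22M.bad e22R 0 [(5, []), (0, [4, 3, 7, 2, 3, 4, 1, 2, 3, 7, 6, 5, 4, 3, 2, 1])] (0, [8, 7, 4, 5, 3, 4, 2, 3, 7, 8, 3, 4, 5, 2, 3, 4, 1, 2, 3, 7, 6, 5, 4, 3, 2, 1]) (0, [3, 7, 8, 2, 3, 7, 4, 5, 3, 4, 2, 3, 7, 8, 3, 7, 4, 5, 3, 4, 1, 2, 3, 7, 6, 5, 4, 3, 2, 1]) (by decide +kernel)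
theorem s23_c103 : Claim E22 2 s23X (List.map (pv fi22X) [(0, [8, 7, 6, 5, 3, 4, 2, 3, 7, 8, 3, 4, 5, 2, 3, 4, 1, 2, 3, 7, 6, 5, 4, 3, 2, 1]), (0, [8, 7, 4, 5, 3, 4, 2, 3, 7, 8, 3, 4, 5, 2, 3, 4, 1, 2, 3, 7, 6, 5, 4, 3, 2, 1]), (0, [7, 8, 3, 7, 1, 2, 3, 4, 0, 1, 2, 3, 7, 8, 3, 7, 5, 2, 3, 4, 1, 2, 3, 7, 6, 5, 4, 3, 2, 1]), (0, [3, 7, 8, 2, 3, 7, 4, 5, 3, 4, 2, 3, 7, 8, 3, 7, 4, 5, 3, 4, 1, 2, 3, 7, 6, 5, 4, 3, 2, 1]), (0, []), (5, []), (1, []), (3, [])]) := t22M.bad e22R 1 [(0, []), (3, [])] (0, [4, 5, 3, 4, 1, 2, 3, 7, 6, 5, 4, 3, 2, 1]) (1, [1, 2, 3, 7, 4, 5, 3, 4, 2, 3, 7, 6, 5, 4, 3, 2]) (by decide +kernel)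
theorem s23_c104 : Claim E22 2 s23X (List.map (pv fi22X) [(0, [8, 7, 4, 5, 3, 4, 2, 3, 7, 8, 3, 4, 5, 2, 3, 4, 1, 2, 3, 7, 6, 5, 4, 3, 2, 1]), (0, [7, 8, 3, 7, 1, 2, 3, 4, 0, 1, 2, 3, 7, 8, 3, 7, 5, 2, 3, 4, 1, 2, 3, 7, 6, 5, 4, 3, 2, 1]), (0, [3, 7, 8, 2, 3, 7, 4, 5, 3, 4, 2, 3, 7, 8, 3, 7, 4, 5, 3, 4, 1, 2, 3, 7, 6, 5, 4, 3, 2, 1]), (0, []), (5, []), (1, []), (3, [])]) := t22M.br e22R e22C 0 [(0, []), (0, [8, 7, 4, 5, 3, 4, 2, 3, 7, 8, 3, 4, 5, 2, 3, 4, 1, 2, 3, 7, 6, 5, 4, 3, 2, 1])] (2, []) [(2, []), (7, []), (0, [3, 4, 2, 3, 7, 8, 1, 2, 3, 7, 4, 3, 2, 1])] [] [(2, []), (0, [3, 7, 2, 3, 4, 1, 2, 3, 7, 5, 4, 3, 2, 1]), (0, [4, 3, 7, 2, 3, 4, 1, 2, 3, 7, 6, 5, 4, 3, 2, 1]), (0, [8, 7, 6, 5, 3, 4, 2, 3, 7, 8, 3, 4, 5, 2, 3, 4, 1, 2, 3, 7, 6, 5,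 4, 3, 2, 1])] 0 (by decide +kernel) (List.forall_mem_cons.2 ⟨s23_c100, (List.forall_mem_cons.2 ⟨s23_c101, (List.forall_mem_cons.2 ⟨s23_c102, (List.forall_mem_cons.2 ⟨s23_c103, (fun _ h => by cases h)⟩)⟩)⟩)⟩)
theorem s23_c105 : Claim E22 2 s23X (List.map (pv fi22X) [(0, [7, 8, 3, 7, 1, 2, 3, 4, 0, 1, 2, 3, 7, 8, 3, 7, 5, 2, 3, 4, 1, 2, 3, 7, 6, 5, 4, 3, 2, 1]), (0, [3, 7, 8, 2, 3, 7, 4, 5, 3, 4, 2, 3, 7, 8, 3, 7, 4, 5, 3, 4, 1, 2, 3, 7, 6, 5, 4, 3, 2, 1]), (0, []), (5, []), (1, []), (3, [])]) := t22M.br e22R e22C 0 [(0, []), (5, [])] (7, []) [(2, []), (3, [8, 7]), (7, [])] [] [(7, []), (2, [3, 7, 6, 5, 4, 3]), (0, [8, 7, 4, 5, 3, 4, 2, 3, 7, 8, 3, 7, 4, 5, 3, 4, 1, 2, 3, 7, 6, 5, 4, 3, 2, 1]), (0, [8, 7, 4, 5, 3, 4, 2, 3, 7, 8, 3, 4, 5, 2, 3, 4, 1,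 2, 3, 7, 6, 5, 4, 3, 2, 1])] 0 (by decide +kernel) (List.forall_mem_cons.2 ⟨s23_c97, (List.forall_mem_cons.2 ⟨s23_c98, (List.forall_mem_cons.2 ⟨s23_c99, (List.forall_mem_cons.2 ⟨s23_c104, (fun _ h => by cases h)⟩)⟩)⟩)⟩)
theorem s23_c106 : Claim E22 2 s23X (List.map (pv fi22X) [(0, [7, 8, 3, 7, 1, 2, 3, 4, 0, 1, 2, 3, 7, 8, 3, 4, 5, 2, 3, 4, 1, 2, 3, 7, 6, 5, 4, 3, 2, 1]), (0, [3, 7, 8, 2, 3, 7, 4, 5, 3, 4, 2, 3, 7, 8, 3, 7, 4, 5, 3, 4, 1, 2, 3, 7, 6, 5, 4, 3, 2, 1]), (0, []), (5, []), (1, []), (3, [])]) := t22M.bad e22R 2 [(0, []), (0, [4, 3, 7, 8, 1, 2, 3, 7, 5, 4, 3, 2, 1])] (0, [5, 4, 3, 7, 8, 4, 1, 2, 3, 7, 5, 4, 3, 2, 1]) (0, [4, 2, 3, 7, 8, 3, 7, 5, 2, 3, 4, 1, 2, 3, 7, 6, 5, 4, 3, 2, 1]) (by decide +kernel)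
theorem s23_c107 : Claim E22 2 s23X (List.map (pv fi22X) [(0, [3, 7, 8, 2, 3, 7, 4, 5, 3, 4, 2, 3, 7, 8, 3, 7, 4, 5, 3, 4, 1, 2, 3, 7, 6, 5, 4, 3, 2, 1]), (0, []), (5, []), (1, []), (3, [])]) := t22M.br e22R e22C 0 [(0, []), (3, [])] (6, []) [(8, []), (2, [7, 3]), (6, [])] [] [(6, []), (2, [4, 3]), (0, [7, 8, 3, 7, 1, 2, 3, 4, 0, 1, 2, 3, 7, 8, 3, 7, 5, 2, 3, 4, 1, 2, 3, 7, 6, 5, 4, 3, 2, 1]), (0, [7, 8, 3, 7, 1, 2, 3, 4, 0, 1, 2, 3, 7, 8, 3, 4, 5, 2, 3, 4, 1, 2, 3, 7, 6, 5, 4, 3, 2, 1])] 0 (by decide +kernel) (List.forall_mem_cons.2 ⟨s23_c95, (List.forall_mem_cons.2 ⟨s23_c96, (List.forall_mem_cons.2 ⟨s23_c105, (List.forall_mem_cons.2 ⟨s23_c106, (fun _ h => by cases h)⟩)⟩)⟩)⟩)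
theorem s23_c108 : Claim E22 2 s23X (List.map (pv fi22X) [(2, [7, 3]), (6, []), (0, [3, 7, 8, 2, 3, 7, 4, 5, 3, 4, 2, 3, 7, 8, 3, 4, 5, 2, 3, 4, 1, 2, 3, 7, 6, 5, 4, 3, 2, 1]), (0, []), (5, []), (1, []), (3, [])]) := t22M.sym e22R e22C 5 [8, 2, 3, 7, 1, 2, 3, 4, 0, 1, 2, 3, 7, 8, 5, 4, 3, 7, 6, 5, 4, 3, 2, 1, 0] (by decide +kernel) s23_c4
theorem s23_c109 : Claim E22 2 s23X (List.map (pv fi22X) [(0, [4, 5, 3, 4, 1, 2, 3, 7, 6, 5, 4, 3, 2, 1]), (6, []), (0, [3, 7, 8, 2, 3, 7, 4, 5, 3, 4, 2, 3, 7, 8, 3, 4, 5, 2, 3, 4, 1, 2, 3, 7, 6, 5, 4, 3, 2, 1]), (0, []), (5, []), (1, []), (3, [])]) := t22M.bad e22R 2 [(0, []), (2, [7, 6, 5, 4, 3])] (0, [2, 3, 7, 8, 4, 1, 2, 3, 7, 6, 5, 4, 3, 2, 1]) (0, [7, 4, 5, 3, 4, 2, 3, 7, 8, 3, 4, 1, 2, 3, 7, 6, 5, 4, 3, 2,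 1]) (by decide +kernel)
theorem s23_c110 : Claim E22 2 s23X (List.map (pv fi22X) [(7, []), (0, [7, 4, 5, 2, 3, 4, 1, 2, 3, 7, 6, 5, 4, 3, 2, 1]), (6, []), (0, [3, 7, 8, 2, 3, 7, 4, 5, 3, 4, 2, 3, 7, 8, 3, 4, 5, 2, 3, 4, 1, 2, 3, 7, 6, 5, 4, 3, 2, 1]), (0, []), (5, []), (1, []), (3, [])]) := t22M.sym e22R e22C 4 [2, 3, 7, 8, 1, 2, 3, 7, 0, 1, 2, 3, 4, 5, 6] (by decide +kernel) s23_c2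
theorem s23_c111 : Claim E22 2 s23X (List.map (pv fi22X) [(2, [3, 7, 6, 5, 4, 3]), (0, [7, 4, 5, 2, 3, 4, 1, 2, 3, 7, 6, 5, 4, 3, 2, 1]), (6, []), (0, [3, 7, 8, 2, 3, 7, 4, 5, 3, 4, 2, 3, 7, 8, 3, 4, 5, 2, 3, 4, 1, 2, 3, 7, 6, 5, 4, 3, 2, 1]), (0, []), (5, []), (1, []), (3, [])]) := t22M.bad e22R 1 [(0, []), (5, [])] (0, [4, 1, 2, 3, 7, 5, 4, 3, 2, 1]) (0, [8, 7, 6, 5, 3, 4, 2, 3, 7, 8, 5, 4, 1, 2, 3, 7, 6, 5, 4, 3, 2, 1]) (by decide +kernel)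
theorem s23_c112 : Claim E22 2 s23X (List.map (pv fi22X) [(0, [8, 7, 4, 5, 3, 4, 2, 3, 7, 8, 3, 7, 4, 5, 3, 4, 1, 2, 3, 7, 6, 5, 4, 3, 2, 1]), (0, [7, 4, 5, 2, 3, 4, 1, 2, 3, 7, 6, 5, 4, 3, 2, 1]), (6, []), (0, [3, 7, 8, 2, 3, 7, 4, 5, 3, 4, 2, 3, 7, 8, 3, 4, 5, 2, 3, 4, 1, 2, 3, 7, 6, 5, 4, 3, 2, 1]), (0, []), (5, []), (1, []), (3, [])]) := t22M.bad e22R 1 [(0, []), (3, [])] (3, [7, 6, 5, 4]) (2, [4, 3, 7, 5, 4, 3]) (by decide +kernel)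
theorem s23_c113 : Claim E22 2 s23X (List.map (pv fi22X) [(0, [8, 7, 4, 5, 3, 4, 2, 3, 7, 8, 3, 4, 5, 2, 3, 4, 1, 2, 3, 7, 6, 5, 4, 3, 2, 1]), (0, [7, 4, 5, 2, 3, 4, 1, 2, 3, 7, 6, 5, 4, 3, 2, 1]), (6, []), (0, [3, 7, 8, 2, 3, 7, 4, 5, 3, 4, 2, 3, 7, 8, 3, 4, 5, 2, 3, 4, 1, 2, 3, 7, 6, 5, 4, 3, 2, 1]), (0, []), (5, []), (1, []), (3, [])]) := t22M.bad e22R 1 [(0, []), (3, [])] (2, [7, 3]) (0, [4, 5, 3, 4, 1, 2, 3, 7, 6, 5, 4, 3, 2, 1]) (by decide +kernel)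
theorem s23_c114 : Claim E22 2 s23X (List.map (pv fi22X) [(0, [7, 4, 5, 2, 3, 4, 1, 2, 3, 7, 6, 5, 4, 3, 2, 1]), (6, []), (0, [3, 7, 8, 2, 3, 7, 4, 5, 3, 4, 2, 3, 7, 8, 3, 4, 5, 2, 3, 4, 1, 2, 3, 7, 6, 5, 4, 3, 2, 1]), (0, []), (5, []), (1, []), (3, [])]) := t22M.br e22R e22C 0 [(0, []), (5, [])] (7, []) [(2, []), (3, [8, 7]), (7, [])] [] [(7, []), (2, [3, 7, 6, 5, 4, 3]), (0, [8, 7, 4, 5, 3, 4, 2, 3, 7, 8, 3, 7, 4, 5, 3, 4, 1, 2, 3, 7, 6, 5, 4, 3, 2, 1]), (0, [8, 7, 4, 5, 3, 4, 2, 3, 7, 8, 3, 4, 5, 2, 3, 4, 1, 2, 3, 7, 6, 5, 4, 3, 2, 1])] 0 (by decide +kernel) (List.forall_mem_cons.2 ⟨s23_c110, (List.forall_mem_cons.2 ⟨s23_c111, (List.forall_mem_cons.2 ⟨s23_c112, (List.forall_mem_cons.2 ⟨s23_c113, (fun _ h => by cases h)⟩)⟩)⟩)⟩)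
theorem s23_c115 : Claim E22 2 s23X (List.map (pv fi22X) [(1, [1, 2, 3, 7, 4, 5, 3, 4, 2, 3, 7, 6, 5, 4, 3, 2]), (6, []), (0, [3, 7, 8, 2, 3, 7, 4, 5, 3, 4, 2, 3, 7, 8, 3, 4, 5, 2, 3, 4, 1, 2, 3, 7, 6, 5, 4, 3, 2, 1]), (0, []), (5, []), (1, []), (3, [])]) := t22M.sym e22R e22C 5 [2, 3, 7, 1, 2, 3, 4, 0, 1, 2, 3, 7, 8, 5, 4, 3, 7, 6, 5, 4, 3, 2, 1, 0] (by decide +kernel) s23_c4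
theorem s23_c116 : Claim E22 2 s23X (List.map (pv fi22X) [(6, []), (0, [3, 7, 8, 2, 3, 7, 4, 5, 3, 4, 2, 3, 7, 8, 3, 4, 5, 2, 3, 4, 1, 2, 3, 7, 6, 5, 4, 3, 2, 1]), (0, []), (5, []), (1, []), (3, [])]) := t22M.br e22R e22C 0 [(0, []), (3, [])] (2, [7, 3]) [(5, []), (6, []), (2, [7, 3])] [] [(2, [7, 3]), (0, [4, 5, 3, 4, 1, 2, 3, 7, 6, 5, 4, 3, 2, 1]), (0, [7, 4, 5, 2, 3, 4, 1, 2, 3, 7, 6, 5, 4, 3, 2, 1]), (1, [1, 2, 3, 7, 4, 5, 3, 4, 2, 3, 7, 6, 5, 4, 3, 2])] 0 (by decide +kernel) (List.forall_mem_cons.2 ⟨s23_c108, (List.forall_mem_cons.2 ⟨s23_c109, (List.forall_mem_cons.2 ⟨s23_c114, (List.forall_mem_cons.2 ⟨s23_c115, (fun _ h => by cases h)⟩)⟩)⟩)⟩)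
theorem s23_c117 : Claim E22 2 s23X (List.map (pv fi22X) [(2, [4, 3]), (0, [3, 7, 8, 2, 3, 7, 4, 5, 3, 4, 2, 3, 7, 8, 3, 4, 5, 2, 3, 4, 1, 2, 3, 7, 6, 5, 4, 3, 2, 1]), (0, []), (5, []), (1, []), (3, [])]) := t22M.bad e22R 2 [(0, []), (5, [])] (2, [3]) (0, [7, 8, 2, 3, 7, 4, 5, 3, 4, 2, 3, 7, 8, 3, 4, 5, 2, 3, 4, 1, 2, 3, 7, 6, 5, 4, 3, 2, 1]) (by decide +kernel)
theorem s23_c118 : Claim E22 2 s23X (List.map (pv fi22X) [(0, [7, 8, 3, 7, 1, 2, 3, 4, 0, 1, 2, 3, 7, 8, 3, 7, 5, 2, 3, 4, 1, 2, 3, 7, 6, 5, 4, 3, 2, 1]), (0, [3, 7, 8, 2, 3, 7, 4, 5, 3, 4, 2, 3, 7, 8, 3, 4, 5, 2, 3, 4, 1, 2, 3, 7, 6, 5, 4, 3, 2, 1]), (0, []), (5, []), (1, []), (3, [])]) := t22M.bad e22R 2 [(0, []), (0, [7, 8, 1, 2, 3, 7, 4, 3, 2, 1])] (0, [3, 7, 8, 1, 2, 3, 7, 5, 4, 3, 2,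 1]) (0, [6, 5, 4, 2, 3, 7, 8, 4, 1, 2, 3, 7, 6, 5, 4, 3, 2, 1]) (by decide +kernel)
theorem s23_c119 : Claim E22 2 s23X (List.map (pv fi22X) [(2, [7, 3]), (0, [7, 8, 3, 7, 1, 2, 3, 4, 0, 1, 2, 3, 7, 8, 3, 4, 5, 2, 3, 4, 1, 2, 3, 7, 6, 5, 4, 3, 2, 1]), (0, [3, 7, 8, 2, 3, 7, 4, 5, 3, 4, 2, 3, 7, 8, 3, 4, 5, 2, 3, 4, 1, 2, 3, 7, 6, 5, 4, 3, 2, 1]), (0, []), (5, []), (1, []), (3, [])]) := t22M.bad e22R 1 [(0, []), (2, [7, 3])] (0, [8, 7, 5, 3, 4, 2, 3, 7, 8, 7, 4, 5, 2, 3, 4, 1, 2, 3, 7, 6, 5, 4, 3, 2, 1]) (0, [7, 8, 3, 7, 6, 4, 5, 3, 4, 2, 3, 7, 8, 3, 4, 5, 2, 3, 4, 1, 2, 3, 7, 6, 5, 4, 3, 2, 1]) (by decide +kernel)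
theorem s23_c120 : Claim E22 2 s23X (List.map (pv fi22X) [(0, [4, 5, 3, 4, 1, 2, 3, 7, 6, 5, 4, 3, 2, 1]), (0, [7, 8, 3, 7, 1, 2, 3, 4, 0, 1, 2, 3, 7, 8, 3, 4, 5, 2, 3, 4, 1, 2, 3, 7, 6, 5, 4, 3, 2, 1]), (0, [3, 7, 8, 2, 3, 7, 4, 5, 3, 4, 2, 3, 7, 8, 3, 4, 5, 2, 3, 4, 1, 2, 3, 7, 6, 5, 4, 3, 2, 1]), (0, []), (5, []), (1, []), (3, [])]) := t22M.sym e22R e22C 4 [6, 5, 4, 3, 7, 8, 7, 2, 3, 4, 1, 2, 3, 7, 0, 1, 2, 3, 4, 5, 6] (by decide +kernel) s23_c2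
theorem s23_c121 : Claim E22 2 s23X (List.map (pv fi22X) [(0, [7, 4, 5, 2, 3, 4, 1, 2, 3, 7, 6, 5, 4, 3, 2, 1]), (0, [7, 8, 3, 7, 1, 2, 3, 4, 0, 1, 2, 3, 7, 8, 3, 4, 5, 2, 3, 4, 1, 2, 3, 7, 6, 5, 4, 3, 2, 1]), (0, [3, 7, 8, 2, 3, 7, 4, 5, 3, 4, 2, 3, 7, 8, 3, 4, 5, 2, 3, 4, 1, 2, 3, 7, 6, 5, 4, 3, 2, 1]), (0, []), (5, []), (1, []), (3, [])]) := t22M.sym e22R e22C 4 [6, 5, 4, 3, 7, 8, 2, 3, 4, 1, 2, 3, 7, 0, 1, 2, 3, 4, 5, 6] (by decide +kernel) s23_c2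
theorem s23_c122 : Claim E22 2 s23X (List.map (pv fi22X) [(7, []), (1, [1, 2, 3, 7, 4, 5, 3, 4, 2, 3, 7, 6, 5, 4, 3, 2]), (0, [7, 8, 3, 7, 1, 2, 3, 4, 0, 1, 2, 3, 7, 8, 3, 4, 5, 2, 3, 4, 1, 2, 3, 7, 6, 5, 4, 3, 2, 1]), (0, [3, 7, 8, 2, 3, 7, 4, 5, 3, 4, 2, 3, 7, 8, 3, 4, 5, 2, 3, 4, 1, 2, 3, 7, 6, 5, 4, 3, 2, 1]), (0, []), (5, []), (1, []), (3, [])]) := t22M.sym e22R e22C 3 [6, 5, 4, 3, 7, 8, 2, 3, 7, 4, 5, 3, 4, 2, 3, 7, 6, 5, 4, 3, 2, 1, 0] (by decide +kernel) s23_c4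
theorem s23_c123 : Claim E22 2 s23X (List.map (pv fi22X) [(2, [3, 7, 6, 5, 4, 3]), (1, [1, 2, 3, 7, 4, 5, 3, 4, 2, 3, 7, 6, 5, 4, 3, 2]), (0, [7, 8, 3, 7, 1, 2, 3, 4, 0, 1, 2, 3, 7, 8, 3, 4, 5, 2, 3, 4, 1, 2, 3, 7, 6, 5, 4, 3, 2, 1]), (0, [3, 7, 8, 2, 3, 7, 4, 5, 3, 4, 2, 3, 7, 8, 3, 4, 5, 2, 3, 4, 1, 2, 3, 7, 6, 5, 4, 3, 2, 1]), (0, []), (5, []), (1, []), (3, [])]) := t22M.bad e22R 0 [(5, []), (2, [3, 7, 6, 5, 4, 3])] (1, [1, 2, 3, 7, 4, 5, 3, 4, 2, 3, 7, 6, 5, 4, 3, 2]) (0, [3, 7, 8, 2, 3, 7, 4, 5, 3, 4, 2, 3, 7, 8, 3, 4, 5, 2, 3, 4, 1, 2, 3, 7, 6, 5, 4, 3, 2, 1]) (by decide +kernel)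
theorem s23_c124 : Claim E22 2 s23X (List.map (pv fi22X) [(0, [8, 7, 4, 5, 3, 4, 2, 3, 7, 8, 3, 7, 4, 5, 3, 4, 1, 2, 3, 7, 6, 5, 4, 3, 2, 1]), (1, [1, 2, 3, 7, 4, 5, 3, 4, 2, 3, 7, 6, 5, 4, 3, 2]), (0, [7, 8, 3, 7, 1, 2, 3, 4, 0, 1, 2, 3, 7, 8, 3, 4, 5, 2, 3, 4, 1, 2, 3, 7, 6, 5, 4, 3, 2, 1]), (0, [3, 7, 8, 2, 3, 7, 4, 5, 3, 4, 2, 3, 7, 8, 3, 4, 5, 2, 3, 4, 1, 2, 3, 7, 6, 5, 4, 3, 2, 1]), (0, []), (5, []), (1, []), (3, [])]) := t22M.bad e22R 1 [(0, []), (3, [])] (3, [7, 6, 5, 4]) (2, [4, 3, 7, 5, 4, 3]) (by decide +kernel)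
theorem s23_c125 : Claim E22 2 s23X (List.map (pv fi22X) [(0, [8, 7, 4, 5, 3, 4, 2, 3, 7, 8, 3, 4, 5, 2, 3, 4, 1, 2, 3, 7, 6, 5, 4, 3, 2, 1]), (1, [1, 2, 3, 7, 4, 5, 3, 4, 2, 3, 7, 6, 5, 4, 3, 2]), (0, [7, 8, 3, 7, 1, 2, 3, 4, 0, 1, 2, 3, 7, 8, 3, 4, 5, 2, 3, 4, 1, 2, 3, 7, 6, 5, 4, 3, 2, 1]), (0, [3, 7, 8, 2, 3, 7, 4, 5, 3, 4, 2, 3, 7, 8, 3, 4, 5, 2, 3, 4, 1, 2, 3, 7, 6, 5, 4, 3, 2, 1]), (0, []), (5, []), (1, []), (3, [])]) := t22M.bad e22R 0 [(0, []), (1, [1, 2, 3, 7, 4, 5, 3, 4, 2, 3, 7, 6, 5, 4, 3, 2])] (0, [8, 7, 4, 5, 3, 4, 2, 3, 7, 8, 3, 4, 5, 2, 3, 4, 1, 2, 3, 7, 6, 5, 4, 3, 2, 1]) (0, [3, 7, 8, 2, 3, 7, 4, 5, 3, 4, 2, 3, 7, 8, 3, 4, 5, 2, 3, 4, 1, 2, 3, 7, 6, 5, 4, 3, 2, 1]) (by decide +kernel)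
theorem s23_c126 : Claim E22 2 s23X (List.map (pv fi22X) [(1, [1, 2, 3, 7, 4, 5, 3, 4, 2, 3, 7, 6, 5, 4, 3, 2]), (0, [7, 8, 3, 7, 1, 2, 3, 4, 0, 1, 2, 3, 7, 8, 3, 4, 5, 2, 3, 4, 1, 2, 3, 7, 6, 5, 4, 3, 2, 1]), (0, [3, 7, 8, 2, 3, 7, 4, 5, 3, 4, 2, 3, 7, 8, 3, 4, 5, 2, 3, 4, 1, 2, 3, 7, 6, 5, 4, 3, 2, 1]), (0, []), (5, []), (1, []), (3, [])]) := t22M.br e22R e22C 0 [(0, []), (5, [])] (7, []) [(2, []), (3, [8, 7]), (7, [])] [] [(7, []), (2, [3, 7, 6, 5, 4, 3]), (0, [8, 7, 4, 5, 3, 4, 2, 3, 7, 8, 3, 7, 4, 5, 3, 4, 1, 2, 3, 7, 6, 5, 4, 3, 2, 1]), (0, [8, 7, 4, 5, 3, 4, 2, 3, 7, 8, 3, 4, 5, 2, 3, 4, 1, 2, 3, 7, 6, 5, 4, 3, 2, 1])] 0 (by decide +kernel) (List.forall_mem_cons.2 ⟨s23_c122, (List.forall_mem_cons.2 ⟨s23_c123, (List.forall_mem_cons.2 ⟨s23_c124,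 (List.forall_mem_cons.2 ⟨s23_c125, (fun _ h => by cases h)⟩)⟩)⟩)⟩)
theorem s23_c127 : Claim E22 2 s23X (List.map (pv fi22X) [(0, [7, 8, 3, 7, 1, 2, 3, 4, 0, 1, 2, 3, 7, 8, 3, 4, 5, 2, 3, 4, 1, 2, 3, 7, 6, 5, 4, 3, 2, 1]), (0, [3, 7, 8, 2, 3, 7, 4, 5, 3, 4, 2, 3, 7, 8, 3, 4, 5, 2, 3, 4, 1, 2, 3, 7, 6, 5, 4, 3, 2, 1]), (0, []), (5, []), (1, []), (3, [])]) := t22M.br e22R e22C 0 [(0, []), (3, [])] (2, [7, 3]) [(5, []), (6, []), (2, [7, 3])] [] [(2, [7, 3]), (0, [4, 5, 3, 4, 1, 2, 3, 7, 6, 5, 4, 3, 2, 1]), (0, [7, 4, 5, 2, 3, 4, 1, 2, 3, 7, 6, 5, 4, 3, 2, 1]), (1, [1, 2, 3, 7, 4, 5, 3, 4, 2, 3, 7, 6, 5, 4, 3, 2])] 0 (by decide +kernel) (List.forall_mem_cons.2 ⟨s23_c119, (List.forall_mem_cons.2 ⟨s23_c120, (List.forall_mem_cons.2 ⟨s23_c121, (List.forall_mem_cons.2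 ⟨s23_c126, (fun _ h => by cases h)⟩)⟩)⟩)⟩)
theorem s23_c128 : Claim E22 2 s23X (List.map (pv fi22X) [(0, [3, 7, 8, 2, 3, 7, 4, 5, 3, 4, 2, 3, 7, 8, 3, 4, 5, 2, 3, 4, 1, 2, 3, 7, 6, 5, 4, 3, 2, 1]), (0, []), (5, []), (1, []), (3, [])]) := t22M.br e22R e22C 0 [(0, []), (3, [])] (6, []) [(8, []), (2, [7, 3]), (6, [])] [] [(6, []), (2, [4, 3]), (0, [7, 8, 3, 7, 1, 2, 3, 4, 0, 1, 2, 3, 7, 8, 3, 7, 5, 2, 3, 4, 1, 2, 3, 7, 6, 5, 4, 3, 2, 1]), (0, [7, 8, 3, 7, 1, 2, 3, 4, 0, 1, 2, 3, 7, 8, 3, 4, 5, 2, 3, 4, 1, 2, 3, 7, 6, 5, 4, 3, 2, 1])] 0 (by decide +kernel) (List.forall_mem_cons.2 ⟨s23_c116, (List.forall_mem_cons.2 ⟨s23_c117, (List.forall_mem_cons.2 ⟨s23_c118, (List.forall_mem_cons.2 ⟨s23_c127, (fun _ h => by cases h)⟩)⟩)⟩)⟩)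
theorem s23_c129 : Claim E22 2 s23X (List.map (pv fi22X) [(0, []), (5, []), (1, []), (3, [])]) := t22M.br e22R e22C 0 [(0, []), (5, [])] (2, []) [(2, []), (7, []), (8, [])] [] [(2, []), (4, [6, 5]), (0, [3, 7, 8, 2, 3, 7, 4, 5, 3, 4, 2, 3, 7, 8, 3, 7, 4, 5, 3, 4, 1, 2, 3, 7, 6, 5, 4, 3, 2, 1]), (0, [3, 7, 8, 2, 3, 7, 4, 5, 3, 4, 2, 3, 7, 8, 3, 4, 5, 2, 3, 4, 1, 2, 3, 7, 6, 5, 4, 3, 2, 1])] 0 (by decide +kernel) (List.forall_mem_cons.2 ⟨s23_c33, (List.forall_mem_cons.2 ⟨s23_c86, (List.forall_mem_cons.2 ⟨s23_c107, (List.forall_mem_cons.2 ⟨s23_c128, (fun _ h => by cases h)⟩)⟩)⟩)⟩)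
theorem s23_c130 : Claim E22 2 s23X (List.map (pv fi22X) [(5, []), (1, []), (3, [])]) := t22M.br e22R e22C 0 [(5, []), (3, [])] (0, []) [(0, []), (8, []), (2, [7, 3])] [[1], [6, 5, 4, 3, 2, 1, 0, 1, 2, 3, 4, 5, 6], [7, 8, 3, 7, 4, 5, 2, 3, 4, 1, 2, 3, 7, 8, 5, 4, 1, 2, 3, 7, 6, 5, 4, 3, 2, 1, 0, 1, 2, 3, 4, 5, 6, 7, 3, 2, 1, 4, 5, 8, 7, 3, 2, 1, 4, 3, 2, 5, 4, 7, 3, 8, 7]] [(0, [])] 1 (by decide +kernel) (List.forall_mem_cons.2 ⟨s23_c129, (fun _ h => by cases h)⟩)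
theorem s23_c131 : Claim E22 2 s23X (List.map (pv fi22X) [(1, []), (3, [])]) := t22M.br e22R e22C 0 [(3, []), (1, [])] (5, []) [(5, []), (8, []), (0, [7, 3, 2, 1])] [[6], [4, 3, 2, 1, 0, 1, 2, 3, 4], [4, 3, 7, 8, 3, 4, 2, 3, 7, 5, 4, 3, 2, 1, 2, 3, 4, 5, 7, 3, 2, 4, 3, 8, 7, 3, 4]] [(5, [])] 2 (by decide +kernel) (List.forall_mem_cons.2 ⟨s23_c130, (fun _ h => by cases h)⟩)
theorem s23_top : Claim E22 2 s23X [ev fi22X [1], ev fi22X [3]] := s23_c131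
def nc23 : List (Nat × Nat) := [(0, 1), (2, 3), (3, 4), (4, 5), (5, 6), (5, 9), (6, 7), (7, 8), (9, 10), (1, 8)]
def rc23 : List (List Nat) := [[0, 0], [1, 1], [2, 2], [3, 3], [4, 4], [5, 5], [6, 6], [7, 7], [8, 8], [9, 9], [10, 10], [0, 1, 0, 1, 0, 1], [0, 2, 0, 2], [0, 3, 0, 3], [0, 4, 0, 4], [0, 5, 0, 5], [0, 6, 0, 6], [0, 7, 0, 7], [0, 8, 0, 8], [0, 9, 0, 9], [0, 10, 0, 10], [1, 2, 1, 2], [1, 3, 1, 3], [1, 4, 1, 4], [1, 5, 1, 5], [1, 6, 1, 6], [1, 7, 1, 7], [1, 8, 1, 8, 1, 8], [1, 9, 1, 9], [1, 10, 1, 10], [2, 3, 2, 3, 2, 3], [2, 4, 2, 4], [2, 5, 2, 5], [2, 6, 2, 6], [2, 7, 2, 7], [2, 8, 2, 8], [2, 9, 2, 9], [2, 10, 2, 10], [3, 4, 3, 4, 3, 4], [3, 5, 3, 5], [3, 6, 3, 6], [3, 7, 3, 7], [3, 8, 3, 8], [3, 9, 3, 9], [3, 10, 3, 10], [4, 5, 4, 5, 4,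 5], [4, 6, 4, 6], [4, 7, 4, 7], [4, 8, 4, 8], [4, 9, 4, 9], [4, 10, 4, 10], [5, 6, 5, 6, 5, 6], [5, 7, 5, 7], [5, 8, 5, 8], [5, 9, 5, 9, 5, 9], [5, 10, 5, 10], [6, 7, 6, 7, 6, 7], [6, 8, 6, 8], [6, 9, 6, 9], [6, 10, 6, 10], [7, 8, 7, 8, 7, 8], [7, 9, 7, 9], [7, 10, 7, 10], [8, 9, 8, 9], [8, 10, 8, 10], [9, 10, 9, 10, 9, 10]]
def rz23 : List (List Nat) := [[5, 4, 3, 5, 6, 7, 5, 9, 10, 5, 4, 3, 5, 6, 7, 5, 9, 10, 5, 4, 3, 5, 6, 7, 5, 9, 10, 5, 4, 3, 5, 6, 7, 5, 9, 10, 5, 4, 3, 5, 6, 7, 5, 9, 10, 5, 4, 3, 5, 6, 7, 5, 9, 10, 5, 4, 3, 5, 6, 7, 5, 9, 10, 5, 4, 3, 5, 6, 7, 5, 9, 10, 5, 4, 3, 5, 6, 7, 5, 9, 10, 5, 4, 3, 5, 6, 7, 5, 9, 10], [2, 3, 4, 5, 6, 7, 9, 2, 3, 4, 5, 6, 7, 9, 2, 3, 4, 5, 6, 7, 9, 2, 3, 4, 5, 6, 7, 9, 2, 3, 4, 5, 6, 7, 9, 2, 3, 4, 5,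 6, 7, 9, 2, 3, 4, 5, 6, 7, 9, 2, 3, 4, 5, 6, 7, 9, 2, 3, 4, 5, 6, 7, 9]]
theorem s23_f0 : t22.cfChk (ones 3510) (t22.clo [(0, []), (1, []), (2, []), (3, []), (4, []), (5, []), (7, []), (8, [])] 6) [(0, []), (1, []), (2, []), (3, []), (4, []), (5, []), (6, []), (7, []), (8, [])] rc23 [] rz23 nc23 [] = true := by decide +kernel
theorem s23_f1 : t22.cfChk (ones 3510) (t22.clo [(1, []), (2, []), (3, []), (4, []), (5, []), (6, []), (7, []), (8, [])] 5) [(6, []), (5, []), (4, []), (3, []), (2, []), (1, []), (0, []), (7, []), (8, [])] rc23 [] rz23 nc23 [] = true := by decide +kernel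
theorem s23_cf {G : Type*} [Group G] {D : Set G} (hD : Cfsg.IsThreeTranspositionSet D) {x c : G} (hx : x ∈ D) (hc : c ∈ D)
    (hxc : ¬ Commute x c) {τ : Cfsg.Spor.Fi22 → G} (t : FIso E22 (Nb D [x]) τ) {X : Set Cfsg.Spor.Fi22} (hX : X ∈ s23X)
    (h : ∀ p ∈ E22, Commute c (τ p) ↔ p ∈ X) : ∃ Z : List G, Cf D Z rc23 [] rz23 nc23 [] ∧ Z.length = 11 ∧ Z.getD 0 1 = x := by
  simp only [s23X, List.mem_cons, List.not_mem_nil, or_false] at hX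
  rcases hX with rfl | rfl
  · exact ⟨_, t22M.cf e22R hD hx hc hxc t h s23_f0, rfl, rfl⟩
  · exact ⟨_, t22M.cf e22R hD hx hc hxc t h s23_f1, rfl, rfl⟩
def s23_i1T : Tr := (.node 37 (.node 18 (.node 9 (.node 4 (.node 2 (.node 1 (.leaf 2 65 0 0 0 0 0 0 0) (.leaf 2 130 0 0 0 0 0 0 0)) (.node 3 (.leaf 2 195 0 0 0 0 0 0 0) (.leaf 2 260 0 0 0 0 0 0 0))) (.node 6 (.node 5 (.leaf 2 325 0 0 0 0 0 0 0) (.leaf 2 390 0 0 0 0 0 0 0)) (.node 7 (.leaf 2 455 0 0 0 0 0 0 0) (.node 8 (.leaf 2 520 0 0 0 0 0 0 0) (.leaf 2 585 0 0 0 0 0 0 0))))) (.node 13 (.node 11 (.node 10 (.leaf 2 650 0 0 0 0 0 0 0) (.leaf 2 715 0 0 0 0 0 0 0)) (.node 12 (.leaf 6 0x81081081 0 0 0 0 0 0 0) (.leaf 4 790721 0 0 0 0 0 0 0))) (.node 15 (.node 14 (.leaf 4 0x101101 0 0 0 0 0 0 0) (.leaf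 4 0x141141 0 0 0 0 0 0 0)) (.node 16 (.leaf 4 0x181181 0 0 0 0 0 0 0) (.node 17 (.leaf 4 0x1c11c1 0 0 0 0 0 0 0) (.leaf 4 0x201201 0 0 0 0 0 0 0)))))) (.node 27 (.node 22 (.node 20 (.node 19 (.leaf 4 0x241241 0 0 0 0 0 0 0) (.leaf 4 0x281281 0 0 0 0 0 0 0)) (.node 21 (.leaf 4 0x2c12c1 0 0 0 0 0 0 0) (.leaf 4 794818 0 0 0 0 0 0 0))) (.node 24 (.node 23 (.leaf 4 0x102102 0 0 0 0 0 0 0) (.leaf 4 0x142142 0 0 0 0 0 0 0)) (.node 25 (.leaf 4 0x182182 0 0 0 0 0 0 0) (.node 26 (.leaf 4 0x1c21c2 0 0 0 0 0 0 0) (.leaf 4 0x202202 0 0 0 0 0 0 0))))) (.node 32 (.node 29 (.node 28 (.leaf 6 0x242242242 0 0 0 0 0 0 0) (.leaf 4 0x282282 0 0 0 0 0 0 0)) (.node 30 (.leaf 4 0x2c22c2 0 0 0 0 0 0 0) (.node 31 (.leaf 6 0x103103103 0 0 0 0 0 0 0) (.leaf 4 0x143143 0 0 0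 0 0 0 0)))) (.node 34 (.node 33 (.leaf 4 0x183183 0 0 0 0 0 0 0) (.leaf 4 0x1c31c3 0 0 0 0 0 0 0)) (.node 35 (.leaf 4 0x203203 0 0 0 0 0 0 0) (.node 36 (.leaf 4 0x243243 0 0 0 0 0 0 0) (.leaf 4 0x283283 0 0 0 0 0 0 0))))))) (.node 56 (.node 46 (.node 41 (.node 39 (.node 38 (.leaf 4 0x2c32c3 0 0 0 0 0 0 0) (.leaf 6 0x144144144 0 0 0 0 0 0 0)) (.node 40 (.leaf 4 0x184184 0 0 0 0 0 0 0) (.leaf 4 0x1c41c4 0 0 0 0 0 0 0))) (.node 43 (.node 42 (.leaf 4 0x204204 0 0 0 0 0 0 0) (.leaf 4 0x244244 0 0 0 0 0 0 0)) (.node 44 (.leaf 4 0x284284 0 0 0 0 0 0 0) (.node 45 (.leaf 4 0x2c42c4 0 0 0 0 0 0 0) (.leaf 6 0x185185185 0 0 0 0 0 0 0))))) (.node 51 (.node 48 (.node 47 (.leaf 4 0x1c51c5 0 0 0 0 0 0 0) (.leaf 4 0x205205 0 0 0 0 0 0 0)) (.node 49 (.leaf 4 0x245245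 0 0 0 0 0 0 0) (.node 50 (.leaf 4 0x285285 0 0 0 0 0 0 0) (.leaf 4 0x2c52c5 0 0 0 0 0 0 0)))) (.node 53 (.node 52 (.leaf 6 0x1c61c61c6 0 0 0 0 0 0 0) (.leaf 4 0x206206 0 0 0 0 0 0 0)) (.node 54 (.leaf 4 0x246246 0 0 0 0 0 0 0) (.node 55 (.leaf 6 0x286286286 0 0 0 0 0 0 0) (.leaf 4 0x2c62c6 0 0 0 0 0 0 0)))))) (.node 65 (.node 60 (.node 58 (.node 57 (.leaf 6 0x207207207 0 0 0 0 0 0 0) (.leaf 4 0x247247 0 0 0 0 0 0 0)) (.node 59 (.leaf 4 0x287287 0 0 0 0 0 0 0) (.leaf 4 0x2c72c7 0 0 0 0 0 0 0))) (.node 62 (.node 61 (.leaf 6 0x248248248 0 0 0 0 0 0 0) (.leaf 4 0x288288 0 0 0 0 0 0 0)) (.node 63 (.leaf 4 0x2c82c8 0 0 0 0 0 0 0) (.node 64 (.leaf 4 0x289289 0 0 0 0 0 0 0) (.leaf 4 0x2c92c9 0 0 0 0 0 0 0))))) (.node 70 (.node 67 (.node 66 (.leaf 6 0x2ca2ca2ca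 0 0 0 0 0 0 0) (.leaf 90 0x2ca1881c610518b2862071841462ca1881c610518b2862071841462ca1881c610518b2862071841462ca1881c610518b2862071841462ca1881c610518b286207184146 0 0 0 0 0 0 0)) (.node 68 (.leaf 63 0xa2071851032881c61440ca2071851032881c61440ca2071851032881c61440ca2071851032881c61440ca207185103 0 0 0 0 0 0 0) (.node 69 (.leaf 4 536707 0 0 0x83083082 1 1024 2 0x40000005401) (.leaf 4 540804 0 0 0x84084082 1 1024 2 0x40000005801)))) (.node 72 (.node 71 (.leaf 4 544901 0 0 0x85085082 1 1024 2 0x40000005c01) (.leaf 4 548998 0 0 0x86086082 1 1024 2 0x40000006001)) (.node 73 (.leaf 4 553095 0 0 0x87087082 1 1024 2 0x40000006401) (.node 74 (.leaf 4 557192 0 0 0x88088082 1 1024 2 0x40000006801) (.leaf 6 0x89089089 0 0 0x89089089082 1 1024 2 0x40000006c01))))))))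
theorem s23_i1 : Impl.{u} 11 (catL rc23 rz23) (expL [[2], [3], [4], [5], [6], [7], [8], [1], [9], [10]] fi23_R) := Impl.refl.trans (impl_of_rw1 (R := (catL rc23 rz23)) s23_i1T 68 7 [2, 3, 4, 5, 6, 7, 8, 1, 9, 10, 30, 31, 32, 33, 34, 35, 68, 36, 37, 38, 39, 40, 41, 42, 69, 43, 44, 45, 46, 47, 48, 70, 49, 50, 51, 52, 53, 71, 54, 55, 56, 57, 72, 58, 59, 60, 73, 61, 62, 74, 63, 64, 28, 29, 65, 66, 67] (by decide +kernel))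
end
end H28
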