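import Cfsg.Agent.H28.Np1

/-! Automorphisms induced on residues. -/
namespace H28
open Cfsg H27
open scoped commutatorElement
noncomputable section
variable {G M : Type*} [Group G] [Group M] {D : Set G}

theorem exists_aut {C N : Type*} [Group C] [Group N] (φ : N →* M) (hs : Function.Surjective φ) (β : C →* MulAut N)
    (h : ∀ x y, φ y = 1 → φ (β x y) = 1) : ∃ α : C →* MulAut M, ∀ x y, α x (φ y) = φ (β x y) := by
  let ψ := fun x => φ.liftOfSurjective hs ⟨φ.comp (β x).toMonoidHom, fun y hy => h x y hy⟩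
  have k : ∀ x y, ψ x (φ y) = φ (β x y) := fun x y => φ.liftOfRightInverse_comp_apply _ _ _ y
  have i : ∀ x m, ψ x⁻¹ (ψ x m) = m := fun x m => by
    obtain ⟨y, rfl⟩ := hs m; rw [k, k, map_inv, MulAut.inv_apply_self]
  refine ⟨MonoidHom.mk' (fun x => ⟨⟨ψ x, ψ x⁻¹, i x, fun m => by simpa using i x⁻¹ m⟩, map_mul _⟩) fun x y =>
    MulEquiv.ext fun m => ?_, k⟩
  obtain ⟨y, rfl⟩ := hs m
  change ψ _ _ = ψ _ (ψ _ _)
  rw [k, k, k, map_mul, MulAut.mul_apply]
theorem fstar_qs [Finite G] {K C : Subgroup G} (h : K ≤ C) (n : C ≤ Subgroup.normalizer (K : Set G)) (q : IsQuasisimple K)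
    (c : C ⊓ Subgroup.centralizer (K : Set G) ≤ K) : (generalizedFittingSubgroup C).map C.subtype = K :=
  have s := H5.SN.of_normal h n
  have l := H5.CompOf.le_layerOf ⟨s, q⟩
  (H5.fstarOf_eq C).trans (le_antisymm (sup_le (s.layerOf_le_of_centralizer_le c) ((le_inf (H5.fitOf_le C)
    ((H5.fitOf_le_centralizer_layerOf C).trans (Subgroup.centralizer_le l))).trans c)) (le_sup_of_le_left l))
theorem card_aut {C : Type*} [Group C] [Finite C] [Finite M] (α : C →* MulAut M)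
    (c : Nat.card (MulAut M) * Nat.card α.ker ≤ Nat.card C) : Function.Surjective α := by
  rw [← α.ker.index_mul_card, Subgroup.index_ker] at c
  exact MonoidHom.range_eq_top.1 (Subgroup.eq_top_of_le_card _ (Nat.le_of_mul_le_mul_right c Nat.card_pos))
/-- the subgroups generated by a class of involutions -/
theorem mem_comm_or {A : Set G} {K : Subgroup G} (hK : Subgroup.closure A = K) (h2 : ∀ x ∈ A, x * x = 1)
    (hc : ∀ x ∈ A, ∀ y ∈ A, ∃ g ∈ K, g * x * g⁻¹ = y) {a : G} (ha : a ∈ A) {x : G} (hx : x ∈ K) :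
    x ∈ ⁅K, K⁆ ∨ x * a ∈ ⁅K, K⁆ := by
  have hm : ∀ x ∈ A, x ∈ K := fun x hx => hK ▸ Subgroup.subset_closure hx
  have k : ∀ y ∈ A, y * a ∈ ⁅K, K⁆ := fun y hy => by
    obtain ⟨g, b, rfl⟩ := hc a ha y hy
    have := Subgroup.commutator_mem_commutator b (hm a ha)
    rwa [commutatorElement_def, inv_eq_of_mul_eq_one_left (h2 a ha)] at this
  have nm : ∀ g ∈ K, ∀ x ∈ ⁅K, K⁆, g * x * g⁻¹ ∈ ⁅K, K⁆ := fun g hg x hx =>
    (Subgroup.mem_normalizer_iff.1 (H5.le_normalizer_commutator Subgroup.le_normalizer Subgroup.le_normalizer hg) x).1 hx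
  have s : ∀ y ∈ A, ∀ x, x ∈ ⁅K, K⁆ ∨ x * a ∈ ⁅K, K⁆ → y * x ∈ ⁅K, K⁆ ∨ y * x * a ∈ ⁅K, K⁆ := by
    rintro y hy x (h | h)
    · exact .inr (by simpa [mul_assoc] using mul_mem (nm y (hm y hy) x h) (k y hy))
    · exact .inl (by simpa [mul_assoc, h2 a ha] using mul_mem (nm y (hm y hy) _ h) (k y hy))
  subst hK
  induction hx using Subgroup.closure_induction_left with
  | one => exact .inl (one_mem _)
  | mul_left y hy _ _ ih => exact s y hy _ ih
  | inv_mul_cancel y hy _ _ ih => rw [inv_eq_of_mul_eq_one_left (h2 y hy)]; exact s y hy _ ih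
theorem RL.aut {l : List G} {E : Set M} {π : G → M} (r : RL D l E π) (hc : ∀ g : G, ∀ d ∈ D, g * d * g⁻¹ ∈ D) (c : Clq D l)
    (g : Subgroup.closure (Nb D l) = Cn l) (zM : Subgroup.center M = ⊥) {C : Subgroup G}
    (u : ∀ x ∈ C, (l.map fun y => x * y * x⁻¹).Perm l) : C ≤ Subgroup.normalizer (Cn l : Set G) ∧
    ∃ α : C →* MulAut M, (∀ x : C, ∀ y ∈ Cn l, α x (π y) = π (x * y * x⁻¹)) ∧ α.ker = (cl l).subgroupOf C := by
  have n : ∀ x ∈ C, ∀ y ∈ Cn l, x * y * x⁻¹ ∈ Cn l := fun x hx y hy => mem_cn.2 fun p hp => by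
    obtain ⟨q, hq, rfl⟩ := List.mem_map.1 ((u x hx).mem_iff.2 hp)
    exact (commute_conj_iff x q y).2 (mem_cn.1 hy q hq)
  have le : C ≤ Subgroup.normalizer (Cn l : Set G) := fun x hx => Subgroup.mem_normalizer_iff.2 fun y =>
    ⟨n x hx y, fun h => by simpa [mul_assoc] using n _ (inv_mem hx) _ h⟩
  obtain ⟨α, a⟩ := exists_aut r.hom r.hom_sur ((Cn l).normalizerMonoidHom.comp (Subgroup.inclusion le)) fun x y hy =>
    (r.ker _ (n _ x.2 _ y.2)).2 (cl_le (H := (cl l).comap (MulAut.conj x.1).toMonoidHom) (fun p hp =>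
      mem_cl ((u x x.2).mem_iff.1 (List.mem_map_of_mem hp))) ((r.ker _ y.2).1 hy))
  refine ⟨le, α, fun x y hy => a x ⟨y, hy⟩, Subgroup.ext fun x => ⟨fun hx => ?_, fun hx => MulEquiv.ext fun m => ?_⟩⟩
  · have k : ∀ y ∈ Cn l, Commute x.1 y := fun y hy => mem_cent1.1 ((Subgroup.closure_le _).2 (fun z hz => mem_cent1.2 (by
      have q := nb_perm (u x x.2) ▸ ((fiso_conj hc x.1).nb c.1).mem hz
      have := a x ⟨z, mem_cn.2 hz.2.2⟩
      rw [(MonoidHom.mem_ker).1 hx] at this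
      exact conj_eq_iff_commute.1 (r.fi.inj hz q this).symm)) (g.ge hy))
    exact (r.center zM).le (show (⟨_, mem_cn.2 fun p hp => (k p (c.cl_le_cn (mem_cl hp))).symm⟩ : Cn l) ∈ _ from
      Subgroup.mem_center_iff.2 fun y => Subtype.ext (k y y.2).symm)
  · obtain ⟨y, rfl⟩ := r.hom_sur m
    exact (a x y).trans (congrArg π (conj_eq_iff_commute.2 (commute_cl (fun p hp => (mem_cn.1 y.2 p hp).symm) hx).symm))
/-- the even parts of the centralisers of a clique and of its product -/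
theorem RL.even [Finite G] {a : G} {t : List G} {E : Set M} {π : G → M} (r : RL D (a :: t) E π) (hD : IsThreeTranspositionGroup D)
    (c : Clq D (a :: t)) (g : Subgroup.closure (Nb D (a :: t)) = Cn (a :: t)) [IsSimpleGroup M] (nM : ¬ (Nat.card M).Prime)
    (gt : GTs D (t.length + 2)) (nr : NR D (2 * (t.length + 1))) (h3 : t.length ≤ 2) (σ : G →* ℤˣ) (hσ : ∀ y ∈ D, σ y = -1)
    (cA : Nat.card (MulAut M) ≤ (t.length + 1).factorial * Nat.card M) {K C : Subgroup G} (hK : K = σ.ker ⊓ Cn (a :: t))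
    (hC : C = σ.ker ⊓ Subgroup.centralizer {(a :: t).prod}) : IsQuasisimple K ∧
    (generalizedFittingSubgroup C).map C.subtype = K ∧ K ≤ C ∧ Subgroup.center K = (cl (a :: t)).subgroupOf K ∧
    Nonempty (K ⧸ Subgroup.center K ≃* M) ∧
    (∃ φ : C →* Equiv.Perm (Fin (t.length + 1)), Function.Surjective φ ∧ φ.ker = K.subgroupOf C) ∧
    ∃ α : C →* MulAut M, Function.Surjective α ∧ α.ker = (cl (a :: t)).subgroupOf C := by
  obtain ⟨qM, zM⟩ := qs_of_simple nM
  have u : ∀ l, Clq D l → l.length = (a :: t).length → l.prod = (a :: t).prod → l.Perm (a :: t) := fun l x y z =>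
    (nr.perm3 hD.1 c x (by simp; omega) (by rw [y]; simp; omega) z.symm).symm
  obtain ⟨φ, φ1, φ2⟩ := cent_prod hD.2.1 c (gt _ (by simp)) u
  have ac : a ∈ Cn (a :: t) := c.cl_le_cn (mem_cl List.mem_cons_self)
  have sa := hσ a (c.1 a List.mem_cons_self)
  have pa := (r.ker a ac).2 (mem_cl List.mem_cons_self)
  have ev : ∀ x, σ x = 1 ∨ σ (a * x) = 1 := fun x => (Int.units_eq_one_or (σ x)).imp_right fun k => by rw [map_mul, k, sa]; rfl
  have KC : K ≤ C := hK ▸ hC ▸ inf_le_inf_left _ cn_le_prod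
  have Kn : K ≤ Cn (a :: t) := hK ▸ inf_le_right
  have Cc : C ≤ Subgroup.centralizer {(a :: t).prod} := hC ▸ inf_le_right
  obtain ⟨nm, α, α1, α2⟩ := r.aut hD.2.1 c g zM (C := C) fun x hx => u _ ((fiso_conj hD.2.1 x).clq c) (by simp) (by
    rw [map_conj_prod, conj_eq_iff_commute.2 (mem_cent1.1 (Cc hx)).symm])
  let ρ := r.hom.comp (Subgroup.inclusion Kn)
  have ρ1 : Function.Surjective ρ := fun m => by
    obtain ⟨x, b, rfl⟩ := r.sur m
    exact (ev x).elim (fun k => ⟨⟨x, hK.ge ⟨k, b⟩⟩, rfl⟩) fun k =>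
      ⟨⟨a * x, hK.ge ⟨k, mul_mem ac b⟩⟩, (r.mul _ ac _ b).trans (by rw [pa, one_mul])⟩
  have ρ2 : ρ.ker = (cl (a :: t)).subgroupOf K := Subgroup.ext fun x => r.ker x (Kn x.2)
  have zK := center_of_hom ρ ρ1 zM (ρ2 ▸ fun x hx => Subgroup.mem_center_iff.2 fun y =>
    Subtype.ext (commute_cl (fun p hp => (mem_cn.1 (Kn y.2) p hp).symm) hx))
  have e := (QuotientGroup.quotientMulEquivOfEq zK).trans (QuotientGroup.quotientKerEquivOfSurjective _ ρ1)
  have q : IsQuasisimple K := ⟨Subgroup.isPerfect_iff.2 (le_antisymm (Subgroup.commutator_le_self K) fun x hx => by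
    have l1 : ⁅Cn (a :: t), Cn (a :: t)⁆ ≤ ⁅K, K⁆ := Subgroup.commutator_le.2 fun x hx y hy => by
      have k : ∀ x ∈ Cn (a :: t), ∃ x' ∈ K, x' = x ∨ x' = a * x := fun x hx => (ev x).elim (fun k => ⟨x, hK.ge ⟨k, hx⟩, .inl rfl⟩)
        fun k => ⟨a * x, hK.ge ⟨k, mul_mem ac hx⟩, .inr rfl⟩
      obtain ⟨x', x1, x2⟩ := k x hx
      obtain ⟨y', y1, y2⟩ := k y hy
      have cx := mem_cn.1 hx a List.mem_cons_self
      have cy := mem_cn.1 hy a List.mem_cons_self
      have e1 : ∀ {x y : G}, Commute a x → Commute a y → ⁅a * x, y⁆ = ⁅x, y⁆ := fun {x y} p q => by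
        rw [commutatorElement_def, commutatorElement_def, mul_inv_rev, mul_assoc a, mul_assoc a, ← mul_assoc (x * y),
          ← mul_assoc a, conj_eq_iff_commute.2 ((p.mul_right q).mul_right p.inv_right)]
      have e2 : ⁅x', y'⁆ = ⁅x, y⁆ := by
        rcases x2 with rfl | rfl <;> rcases y2 with rfl | rfl
        · rfl
        · rw [← commutatorElement_inv, e1 cy cx, commutatorElement_inv]
        · exact e1 cx cy
        · rw [e1 cx ((Commute.refl a).mul_right cy), ← commutatorElement_inv, e1 cy cx, commutatorElement_inv]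
      exact e2 ▸ Subgroup.commutator_mem_commutator x1 y1
    by_cases b : (Nb D (a :: t)).Nonempty
    · obtain ⟨b, hb⟩ := b
      refine l1 ((mem_comm_or g (fun y hy => tt_sq hD.1 hy.1) (fun x hx y hy => GT.nb (gt _ le_rfl) c hx hy) hb (Kn hx)).resolve_right
        fun k => ?_)
      have : σ (x * b) = 1 := Abelianization.commutator_subset_ker σ (Subgroup.commutator_mono le_top le_top k)
      rw [map_mul, show σ x = 1 from (hK.le hx).1, hσ b hb.1] at this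
      exact absurd this (by decide)
    · rw [Set.not_nonempty_iff_eq_empty.1 b, Subgroup.closure_empty] at g
      rw [(g.ge (Kn hx) : x = 1)]; exact one_mem _), e.isSimpleGroup⟩
  let ψ := φ.comp (Subgroup.inclusion Cc)
  have ψ1 : Function.Surjective ψ := fun m => by
    obtain ⟨x, rfl⟩ := φ1 m
    exact (ev x).elim (fun k => ⟨⟨x, hC.ge ⟨k, x.2⟩⟩, rfl⟩) fun k => ⟨⟨a * x, hC.ge ⟨k, mul_mem (cn_le_prod ac) x.2⟩⟩,
      (map_mul φ ⟨a, cn_le_prod ac⟩ x).trans (by rw [(φ2.ge ac : φ ⟨a, cn_le_prod ac⟩ = 1), one_mul])⟩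
  have ψ2 : ψ.ker = K.subgroupOf C := Subgroup.ext fun x =>
    ⟨fun h => hK.ge ⟨(hC.le x.2).1, (Subgroup.ext_iff.1 φ2 ⟨x, Cc x.2⟩).1 h⟩, fun h => (Subgroup.ext_iff.1 φ2 ⟨x, Cc x.2⟩).2 (Kn h)⟩
  have : Finite M := Finite.of_surjective _ ρ1
  refine ⟨q, fstar_qs KC ((Subgroup.normal_subgroupOf_iff_le_normalizer KC).1 (ψ2 ▸ inferInstance)) q fun x hx => ?_, KC,
    zK.trans ρ2, ⟨e⟩, ⟨ψ, ψ1, ψ2⟩, α, card_aut α ?_, α2⟩
  · refine hK.ge ⟨(hC.le hx.1).1, c.cl_le_cn ((Subgroup.ext_iff.1 α2 ⟨x, hx.1⟩).1 (MulEquiv.ext fun m => ?_))⟩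
    obtain ⟨y, rfl⟩ := ρ1 m
    exact (α1 _ _ (Kn y.2)).trans (congrArg π (conj_eq_iff_commute.2 (Subgroup.mem_centralizer_iff.1 hx.2 y y.2).symm))
  · have i1 := ψ.ker.index_mul_card
    have i2 := ρ.ker.index_mul_card
    rw [Subgroup.index_ker, MonoidHom.range_eq_top.2 ψ1, ψ2, Nat.card_congr (Subgroup.subgroupOfEquivOfLe KC).toEquiv, ← i2,
      Subgroup.index_ker, MonoidHom.range_eq_top.2 ρ1, Subgroup.card_top, Subgroup.card_top, Nat.card_perm, Nat.card_fin] at i1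
    rw [← i1, ← mul_assoc]
    refine Nat.mul_le_mul cA (Nat.card_le_card_of_injective (fun x => ⟨⟨x.1.1, hK.ge ⟨(hC.le x.1.2).1,
      c.cl_le_cn (α2.le x.2)⟩⟩, ρ2.ge (α2.le x.2)⟩) fun x y e => Subtype.ext (Subtype.ext (congrArg (·.1.1) e)))
theorem even_cl {a : G} {t : List G} (hD : IsThreeTranspositionSet D) (c : Clq D (a :: t)) (σ : G →* ℤˣ) (hσ : ∀ y ∈ D, σ y = -1) :
    σ.ker ⊓ cl (a :: t) = cl (t.map (a * ·)) := by
  have a2 := tt_sq hD (c.1 a List.mem_cons_self)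
  have sa := hσ a (c.1 a List.mem_cons_self)
  have k : cl (t.map (a * ·)) ≤ σ.ker := cl_le (List.forall_mem_map.2 fun y hy => by
    rw [MonoidHom.mem_ker, map_mul, sa, hσ y (c.1 y (List.mem_cons_of_mem _ hy))]; rfl)
  refine le_antisymm (fun y hy => ((mem_cl_cons_sq a2 (mem_cn.2 (List.forall_mem_map.2 fun y hy => (Commute.refl a).mul_left
    (c.comm _ (List.mem_cons_of_mem _ hy) _ List.mem_cons_self)))).1 (cl_le (List.forall_mem_cons.2 ⟨mem_cl List.mem_cons_self,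
      fun y hy => ?_⟩) hy.2)).resolve_right fun e => ?_) (le_inf k (cl_le (List.forall_mem_map.2 fun y hy =>
        mul_mem (mem_cl List.mem_cons_self) (mem_cl (List.mem_cons_of_mem _ hy)))))
  · exact (mul_mem_cancel_left (mem_cl List.mem_cons_self)).1 (mem_cl (List.mem_cons_of_mem _ (List.mem_map_of_mem hy)))
  · have := k e
    rw [MonoidHom.mem_ker, map_mul, sa, show σ y = 1 from hy.1] at this
    exact absurd this (by decide)
theorem even_sub {a : G} {t : List G} (hD : IsThreeTranspositionSet D) (c : Clq D (a :: t)) (σ : G →* ℤˣ) (hσ : ∀ y ∈ D, σ y = -1)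
    {C : Subgroup G} (h : C ≤ σ.ker) : (cl (a :: t)).subgroupOf C = (cl (t.map (a * ·))).subgroupOf C :=
  Subgroup.ext fun x => ⟨fun k => (even_cl hD c σ hσ).le ⟨h x.2, k⟩, fun k => ((even_cl hD c σ hσ).ge k).2⟩
end
end H28
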