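import Cfsg.Agent.H28.Au1
import Cfsg.Agent.H28.Np3
import Cfsg.Agent.S2079

/-! The automorphisms of the groups of type M(23) and M(24) are inner. -/
namespace H28
open Cfsg H27
noncomputable section
variable {G M : Type*} [Group G] [Group M] {D : Set G}

theorem Res.ind {d : G} {E : Set M} {π : G → M} (r : Res D d E π) (φ : MulAut G) (h : φ d = d) :
    ∃ σ : MulAut M, ∀ x, Commute d x → σ (π x) = π (φ x) := by
  have k : ∀ ψ : MulAut G, ψ d = d → ∀ x ∈ Subgroup.centralizer {d}, ψ x ∈ Subgroup.centralizer {d} := fun ψ h x hx =>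
    mem_cent1.2 (h ▸ (mem_cent1.1 hx).map ψ)
  let ψ : MulAut (Subgroup.centralizer {d}) := ⟨⟨fun x => ⟨φ x, k φ h _ x.2⟩,
    fun x => ⟨φ.symm x, k φ.symm (φ.symm_apply_eq.2 h.symm) _ x.2⟩, fun x => by simp, fun x => by simp⟩, fun x y => by simp⟩
  obtain ⟨α, a⟩ := exists_aut (r.hom (Subgroup.centralizer {d}) fun _ => mem_cent1.1)
    (fun y => let ⟨x, a, b⟩ := r.sur y; ⟨⟨x, mem_cent1.2 a⟩, b⟩)
    (MulAction.stabilizer (MulAut (Subgroup.centralizer {d})) (⟨d, mem_cent1.2 (Commute.refl d)⟩ : Subgroup.centralizer {d})).subtype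
    fun x y hy => by
      rcases (r.ker _ (mem_cent1.1 y.2)).1 hy with e | e
      · rw [show y = 1 from Subtype.ext e, map_one, map_one]
      · rw [show y = ⟨d, mem_cent1.2 (Commute.refl d)⟩ from Subtype.ext e]
        exact (congrArg (fun z : Subgroup.centralizer {d} => π z) x.2).trans r.self
  exact ⟨α ⟨ψ, Subtype.ext h⟩, fun x hx => a ⟨ψ, Subtype.ext h⟩ ⟨x, mem_cent1.2 hx⟩⟩

theorem Lv.inner {E : Set M} (v : Lv D E) (np : ∃ p ∈ D, ∃ q ∈ D, ¬ Commute p q ∧ NPT D p q)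
    (ln : ∀ a ∈ D, ∀ d ∈ D, ¬ Commute a d → LN D a d) {d : G} (hd : d ∈ D) {π : G → M} (r : Res D d E π)
    (u : ∀ φ : MulAut G, ∀ x ∈ D, φ x ∈ D)
    (H : ∀ φ : MulAut G, φ d = d → ∀ σ : MulAut M, (∀ x, Commute d x → σ (π x) = π (φ x)) → σ ∈ Inn M) (φ : MulAut G) :
    φ ∈ Inn G := by
  have hc := v.tg.2.1
  have i : ∀ (g : G) (φ : MulAut G), MulAut.conj g * φ ∈ Inn G → φ ∈ Inn G := fun g φ h =>
    (mul_mem_cancel_left (show MulAut.conj g ∈ Inn G from ⟨g, rfl⟩)).1 h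
  obtain ⟨p, hp, q, hq, n, t⟩ := np
  obtain ⟨g, rfl⟩ := v.cls p hp d hd
  have hq' := hc g q hq
  rw [← commute_conj_iff g] at n
  generalize g * p * g⁻¹ = d at *
  generalize g * q * g⁻¹ = c at *
  have s3 : ∀ φ : MulAut G, φ d = d → (∀ x ∈ Nb D [d], φ x = x) → φ c = c → φ ∈ Inn G := fun φ a b e => by
    have k : ∀ x, Commute d x → φ x = x := fun x hx =>
      (Subgroup.closure_le (φ.toMonoidHom.eqLocus (MonoidHom.id G))).2 b (r.gen.ge (mem_cent1.2 hx))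
    refine (congrArg (· ∈ Inn G) (MulEquiv.ext (g := 1) fun x => (Subgroup.closure_le (φ.toMonoidHom.eqLocus (MonoidHom.id G))).2
      (fun y hy => ?_) (v.tg.2.2.ge (Subgroup.mem_top x)))).mpr (one_mem _)
    by_cases h : Commute d y
    · exact k y h
    · obtain ⟨g, g1, rfl⟩ := t.tr hd hq' n hd hy h
      change φ _ = _
      rw [map_mul, map_mul, map_inv, e, k g (conj_eq_iff_commute.1 g1).symm]; rfl
  have s2 : ∀ φ : MulAut G, φ d = d → (∀ x ∈ Nb D [d], φ x = x) → φ ∈ Inn G := fun φ a b => by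
    rcases ln d hd c hq' n _ (u φ c hq') (fun z hz => by
      have := (hz.2.2 c (by simp)).symm.map φ
      rwa [b z (mem_nb1.2 ⟨hz.1, fun e => hz.2.1 (by simp [e]), hz.2.2 d (by simp)⟩)] at this) with e | e | e
    · exact absurd (φ.injective (e.trans a.symm) ▸ Commute.refl c) n
    · exact s3 φ a b e
    · refine i d⁻¹ φ (s3 _ ?_ (fun x hx => ?_) ?_) <;> simp only [MulAut.mul_apply, MulAut.conj_apply]
      · rw [a]; group
      · rw [b x hx, conj_eq_iff_commute.2 (mem_nb1.1 hx).2.2.inv_left]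
      · rw [e]; group
  obtain ⟨g, hg⟩ := v.cls _ (u φ d hd) d hd
  refine i g φ ?_
  have a : (MulAut.conj g * φ) d = d := hg
  generalize MulAut.conj g * φ = ψ at a
  obtain ⟨σ, s⟩ := r.ind ψ a
  obtain ⟨m, rfl⟩ := H ψ a σ s
  obtain ⟨k, hk, rfl⟩ := r.sur m
  refine i k⁻¹ ψ (s2 _ (by rw [MulAut.mul_apply, a]; exact conj_eq_iff_commute.2 hk.symm.inv_left) fun x hx => ?_)
  have hx' := mem_nb1.1 hx
  have : ψ x ∈ Nb D [d] := mem_nb1.2 ⟨u ψ x hx'.1, fun e => hx'.2.1 (ψ.injective (e.trans a.symm)), a ▸ hx'.2.2.map ψ⟩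
  rw [MulAut.mul_apply, ← r.fi.inj (conj_mem_nb hc hk.symm hx) this ((r.cj hk hx'.2.2).trans (s x hx'.2.2))]
  simp [mul_assoc]

theorem inn23 (φ : MulAut Spor.Fi23) : φ ∈ Inn Spor.Fi23 := by
  obtain ⟨h, t, c, h1, h2, h3⟩ := m24.rl8
  obtain ⟨a, h, rfl⟩ := List.exists_cons_of_length_eq_add_one h1
  obtain ⟨b, t, rfl⟩ := List.exists_cons_of_length_eq_add_one h2
  have c' := clq_append.1 ((c.perm (l' := [a, b] ++ (h ++ t)) (List.perm_middle.cons a)).1.sub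
    ((List.sublist_append_left h t).append_left _))
  obtain ⟨ha, hb⟩ := clq_cons'.1 c'.1
  obtain ⟨ρ, r1⟩ := lv24.res b (hb.1 b (by simp))
  have hd := r1.fi.mem ha
  obtain ⟨π, r⟩ := lv23.res _ hd
  have R := ((rL_nil lv24.tg).cons lv24.tg (by simpa [nb_nil] using hb.1 b (by simp)) r1).cons lv24.tg ha r
  obtain ⟨g, hg⟩ := m24.gts 2 (by norm_num) _ _ c'.1 (c'.1.perm (List.Perm.swap b a [])).1 rfl rfl
  simp only [List.map_cons, List.map_nil, List.cons.injEq, and_true] at hg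
  obtain ⟨-, α, a1, -⟩ := R.aut lv24.tg.2.1 c'.1 (R.gen' (m24.rl8.meet lv24.tg c'.1 (m24.gts 2 (by norm_num)) (by simp)))
    fi22_center (C := Subgroup.centralizer {[a, b].prod}) fun x hx => m24.nr.perm3 m24.tt ((fiso_conj lv24.tg.2.1 x).clq c'.1) c'.1
      (by simp) (by simp) (by rw [map_conj_prod, conj_eq_iff_commute.2 (mem_cent1.1 hx).symm])
  have hg' : g ∈ Subgroup.centralizer {[a, b].prod} := mem_cent1.2 (conj_eq_iff_commute.1 (by
    rw [← map_conj_prod]; simp only [List.map_cons, List.map_nil, hg]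
    exact (c'.1.perm (List.Perm.swap b a [])).2.symm)).symm
  have nb : ∀ y ∈ Nb E24 [a, b], y ∈ Nb (Nb E24 [b]) [a] := fun y hy => by
    simp only [Nb, Set.mem_setOf_eq, List.mem_cons, List.not_mem_nil, or_false, not_or, forall_eq_or_imp, forall_eq] at hy ⊢
    tauto
  have gy : ∀ y ∈ Nb E24 [a, b], g * y * g⁻¹ ∈ Nb E24 [a, b] := fun y hy => by
    have := ((fiso_conj lv24.tg.2.1 g).nb c'.1.1).mem hy
    simp only [List.map_cons, List.map_nil, hg] at this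
    exact nb_perm (List.Perm.swap a b []) ▸ this
  have hp : h.prod = a := (tt_eq_of_mul_eq_one m24.tt ha.1 h3).symm
  have cb : ∀ y ∈ Nb E24 [a, b], Commute b y := fun y hy => hy.2.2 b (by simp)
  have ni : ∀ ψ : MulAut Spor.Fi23, ψ (ρ a) = ρ a → ∀ σ : MulAut Spor.Fi22, (∀ x, Commute (ρ a) x → σ (π x) = π (ψ x)) →
      σ * (α ⟨g, hg'⟩)⁻¹ ∉ Inn Spor.Fi22 := by
    rintro ψ e σ s ⟨m, hm⟩
    obtain ⟨k, hk, rfl⟩ := r.sur m
    have w : (h.map ρ).map ψ = ((h.map fun y => g * y * g⁻¹).map ρ).map fun y => k * y * k⁻¹ := by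
      simp only [List.map_map]
      refine List.map_congr_left fun y hy => ?_
      have y1 := (r1.fi.nb1 ha).mem (nb y (c'.2.1 y hy))
      have y2 := (r1.fi.nb1 ha).mem (nb _ (gy y (c'.2.1 y hy)))
      have y3 := mem_nb1.1 y1
      refine r.fi.inj (mem_nb1.2 ⟨(m23.uniq (class_map e23_class ψ)).le ⟨_, y3.1, rfl⟩,
        fun q => y3.2.1 (ψ.injective (q.trans e.symm)), e ▸ y3.2.2.map ψ⟩) (conj_mem_nb lv23.tg.2.1 hk.symm y2) ?_
      change π (ψ (ρ y)) = π (k * ρ (g * y * g⁻¹) * k⁻¹)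
      rw [← s _ y3.2.2, r.cj hk (mem_nb1.1 y2).2.2, ← eq_mul_inv_iff_mul_eq.1 hm, MulAut.mul_apply]
      exact congrArg (MulAut.conj (π k)) (a1 ⟨g, hg'⟩ y (mem_cn.2 (c'.2.1 y hy).2.2))
    have := congrArg List.prod w
    rw [map_conj_prod, ← r1.prod (List.forall_mem_map.2 fun y hy => cb _ (gy y (c'.2.1 y hy))), map_conj_prod, hp, hg.1, r1.self,
      ← map_list_prod, ← r1.prod fun y hy => cb y (c'.2.1 y hy), hp, e] at this
    exact tt_ne_one m23.tt hd (by simpa using this)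
  refine lv23.inner m23.npt (fun a ha d hd n => (m23.line ha hd n).1.ln) hd r
    (fun φ x hx => (m23.uniq (class_map e23_class φ)).le ⟨x, hx, rfl⟩) (fun ψ e σ s => ?_) φ
  by_contra q
  exact ni ψ e σ s ((Subgroup.mul_mem_iff_of_index_two Cfsg.Agent.S2079.result).2
    (iff_of_false q (by simpa using ni 1 rfl 1 fun _ _ => rfl)))

theorem M24.inner (h : M24 D) (φ : MulAut G) : φ ∈ Inn G :=
  let ⟨_, hd⟩ := h.ne
  let ⟨_, r⟩ := h.lv.res _ hd
  h.lv.inner h.npt (fun _ ha _ hd n => (h.line ha hd n).1.ln) hd r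
    (fun φ x hx => (h.uniq (class_map (h.lv.isClass hd) φ)).le ⟨x, hx, rfl⟩) (fun _ _ σ _ => inn23 σ) φ
end
end H28
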