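import Cfsg.Agent.H28.Rf1

/-! Covers of commuting graphs of 3-transpositions. -/
namespace H28
open Cfsg H27
noncomputable section
variable {Γ M : Type*} [Group Γ] [Group M]

/-- the point named by `g` -/
def pt (π : Γ →* M) (l g : Γ) : M := π g * π l * (π g)⁻¹
/-- adjacency of the cosets `g K`, `h K` -/
def Ad (K : Subgroup Γ) (t g h : Γ) : Prop := ∃ a ∈ K, ∃ b ∈ K, h = g * a * t * b
/-- the coset graph of `Γ` is locally the commuting graph of `E` -/
structure LCv (π : Γ →* M) (K : Subgroup Γ) (E : Set M) (l t s : Γ) : Prop where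
  cj : ∀ g : M, ∀ d ∈ E, g * d * g⁻¹ ∈ E
  sur : ∀ c, Commute (π l) c → ∃ a ∈ K, π a = c
  cen : ∀ a ∈ K, Commute l a
  tt : t * t = 1
  st : ∀ a ∈ K, Commute (pt π l t) (π a) → t * a * t ∈ K
  sK : s ∈ K
  tri : (s * t)⁻¹ * (t * s * t) ∈ K
  clq : Clq E [pt π l (s * t), pt π l t, π l]
  g2 : GT E 2
  g3 : GT E 3
theorem pt_mul (π : Γ →* M) (l f g : Γ) : pt π l (f * g) = π f * pt π l g * (π f)⁻¹ := by simp [pt, mul_assoc]
theorem Ad.left {K : Subgroup Γ} {t g h : Γ} (f : Γ) (a : Ad K t g h) : Ad K t (f * g) (f * h) :=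
  let ⟨a, b, c, d, e⟩ := a; ⟨a, b, c, d, by rw [e]; group⟩
theorem Ad.right {K : Subgroup Γ} {t g g' h : Γ} (a : Ad K t g h) (k : g'⁻¹ * g ∈ K) : Ad K t g' h :=
  let ⟨a, b, c, d, e⟩ := a; ⟨_, mul_mem k b, c, d, by rw [e]; group⟩
theorem nb_conj {E : Set M} (hc : ∀ g : M, ∀ d ∈ E, g * d * g⁻¹ ∈ E) (g : M) {l : List M} {y : M} (h : y ∈ Nb E l) :
    g * y * g⁻¹ ∈ Nb E (l.map fun x => g * x * g⁻¹) :=
  ⟨hc _ _ h.1, fun m => let ⟨_, a, b⟩ := List.mem_map.1 m; h.2.1 (conj_inj b ▸ a),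
    List.forall_mem_map.2 fun x hx => (commute_conj_iff g x y).2 (h.2.2 x hx)⟩
namespace LCv
variable {π : Γ →* M} {K : Subgroup Γ} {E : Set M} {l t s g h h' : Γ} (c : LCv π K E l t s)
include c
theorem pt_K {a : Γ} (ha : a ∈ K) : pt π l (g * a) = pt π l g := by
  rw [pt_mul, pt, conj_eq_iff_commute.2 ((c.cen a ha).symm.map π)]; rfl
theorem symm (a : Ad K t g h) : Ad K t h g :=
  let ⟨a, b, d, e, f⟩ := a
  ⟨_, inv_mem e, _, inv_mem b, by rw [f, show g * a * t * d * d⁻¹ * t * a⁻¹ = g * a * (t * t) * a⁻¹ by group, c.tt]; group⟩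
theorem uniq (a : Ad K t g h) (b : Ad K t g h') (e : pt π l h = pt π l h') : h⁻¹ * h' ∈ K := by
  obtain ⟨a, a1, a', a2, rfl⟩ := a
  obtain ⟨b, b1, b', b2, rfl⟩ := b
  rw [c.pt_K a2, c.pt_K b2, mul_assoc, mul_assoc, pt_mul, pt_mul π l g, pt_mul, pt_mul π l b] at e
  have := c.st _ (mul_mem (inv_mem a1) b1) (conj_eq_iff_commute.1 (by
    rw [map_mul, map_inv, mul_inv_rev, inv_inv, mul_assoc, mul_assoc, ← mul_assoc _ _ (π a), ← mul_assoc (π b),
      ← mul_assoc (π b), ← conj_inj e]; group)).symm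
  rw [show (g * a * t * a')⁻¹ * (g * b * t * b') = a'⁻¹ * (t⁻¹ * (a⁻¹ * b) * t) * b' by group, inv_eq_of_mul_eq_one_right c.tt]
  exact mul_mem (mul_mem (inv_mem a2) this) b2
theorem nb0 : pt π l t ∈ Nb E [π l] := (clq_cons'.1 (clq_cons'.1 c.clq).2).1
theorem nbr (a : Ad K t g h) : pt π l h ∈ Nb E [pt π l g] := by
  obtain ⟨a, a1, a', a2, rfl⟩ := a
  rw [c.pt_K a2, pt_mul, ← c.pt_K a1]
  exact nb_conj c.cj _ c.nb0
theorem lift {q : M} (hq : q ∈ Nb E [pt π l g]) : ∃ h, Ad K t g h ∧ pt π l h = q := by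
  have := nb_conj c.cj (π g)⁻¹ hq
  rw [List.map_singleton, ← map_inv, ← pt_mul, inv_mul_cancel, pt, map_one, one_mul, inv_one, mul_one] at this
  obtain ⟨x, hx, e⟩ := GT.nb (l := [π l]) c.g2 (clq_cons'.1 (clq_cons'.1 c.clq).2).2 c.nb0 this
  obtain ⟨a, ha, rfl⟩ := c.sur x (mem_cn.1 hx _ List.mem_cons_self)
  exact ⟨g * a * t, ⟨a, ha, 1, one_mem _, (mul_one _).symm⟩, by rw [mul_assoc, pt_mul, pt_mul, e, map_inv]; group⟩
theorem tri' (a : Ad K t g h) (b : Ad K t g h') (n : pt π l h' ∈ Nb E [pt π l h]) : Ad K t h h' := by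
  have m := c.nbr b
  obtain ⟨a, a1, a', a2, rfl⟩ := a
  have q : (π (g * a))⁻¹ * pt π l h' * (π (g * a))⁻¹⁻¹ ∈ Nb E [pt π l t, π l] := by
    have n := nb_conj c.cj (π (g * a))⁻¹ n
    have m := nb_conj c.cj (π (g * a))⁻¹ m
    rw [List.map_singleton, ← map_inv, ← pt_mul π l _ (_ * a'), ← mul_assoc, c.pt_K a2, inv_mul_cancel_left, map_inv] at n
    rw [List.map_singleton, ← c.pt_K a1, ← map_inv, ← pt_mul π l _ (g * a), inv_mul_cancel, pt, map_one, one_mul, inv_one,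
      mul_one, map_inv] at m
    rw [← List.singleton_append, ← nb_nb]
    exact ⟨n, m.2⟩
  obtain ⟨x, hx, e⟩ := GT.nb (l := [pt π l t, π l]) c.g3 (clq_cons'.1 c.clq).2 (clq_cons'.1 c.clq).1 q
  obtain ⟨y, hy, rfl⟩ := c.sur x (mem_cn.1 hx _ (by simp))
  have u := c.uniq ⟨a * y * s, mul_mem (mul_mem a1 hy) c.sK, 1, one_mem _, rfl⟩ b (by
    rw [show g * (a * y * s) * t * 1 = g * a * (y * (s * t)) by group, pt_mul, pt_mul π l y, e]; group)
  refine ⟨a'⁻¹ * (t * y * t) * s, mul_mem (mul_mem (inv_mem a2) (c.st y hy (mem_cn.1 hx _ List.mem_cons_self))) c.sK, _,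
    mul_mem c.tri u, ?_⟩
  rw [show ∀ x, g * a * t * a' * (a'⁻¹ * (t * y * t) * s) * t * ((s * t)⁻¹ * (t * s * t) * x) =
    g * a * (t * t) * y * (t * t) * s * t * x from fun x => by group, c.tt]
  group
end LCv

/-- the cone over a walk: the lift of the point `j` is adjacent to `O` and `v` -/
def St (π : Γ →* M) (K : Subgroup Γ) (l t : Γ) (T : TD) (ε : Nat → M) (O v : Γ) (j : Nat) : Prop :=
  j < T.n ∧ ∃ N, Ad K t O N ∧ Ad K t v N ∧ pt π l N = ε j
/-- the mask `m` lies in the neighbourhood of `x` -/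
def MK (T : TD) (ε : Nat → M) (E : Set M) (m : Nat) (x : M) : Prop := ∀ j < T.n, tb m j = true → ε j ∈ Nb E [x]
def TD.swc (T : TD) (m f : Nat) (S : List Pt) (k : Nat → Bool) : Nat → Bool :=
  List.rec (motive := fun _ => Nat → Bool) k (fun p _ ih j => force (T.pi p) fun i => and' (and' (Nat.ble (Nat.succ p.1) T.m)
    (and' (not' (Nat.beq i j)) (tb (nth 0 T.F p.1) (fnW T.Ns (revW p.2) j)))) (and' (and' (tb m i) (tb f i)) (ih i))) S
def TD.blk (T : TD) (f0 f1 f2 g : Nat) (ok : Nat → Bool) (B : List (List Pt × List Pt × List Nat)) (k : Nat → Nat → Bool) :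
    Nat → Nat → Bool := List.rec (motive := fun _ => Nat → Nat → Bool) k (fun b _ ih m j =>
  T.swc m f0 b.1 (fun j => and' (tb f1 j) (T.swc m f1 b.2.1 (fun j => and' (and' (tb f2 j) (allL b.2.2 ok))
    (force (appW T.Ns (g :: b.2.2) m) fun m => force (fnW T.Ns (revW (g :: b.2.2)) j) (ih m))) j)) j) B
def blkW (g : Nat) (B : List (List Pt × List Pt × List Nat)) : List Nat :=
  List.rec (motive := fun _ => List Nat) [] (fun b _ ih => g :: cat b.2.2 ih) B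
section
variable {π : Γ →* M} {K : Subgroup Γ} {E : Set M} {l t s : Γ} {T : TD} {ε : Nat → M} {ys : List Γ}
theorem TM.mk_nb {xs : List M} (h : TM T ε xs E) {p : Pt} (hp : p.1 < T.m) : MK T ε E (T.nb [p] (ones T.n)) (pv xs p) :=
  fun j _ e => (((h.rep_nb (l := [p]) (by simpa using hp) h.rep).2 j).1 (tb_eq _ _ ▸ e)).2
theorem LCv.swc (c : LCv π K E l t s) {xs : List M} (h : TM T ε xs E) {m f : Nat} {O v : Γ} (hm : MK T ε E m (pt π l O))
    (hf : MK T ε E f (pt π l v)) {S : List Pt} {k : Nat → Bool} {j : Nat} (a : St π K l t T ε O v j)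
    (e : T.swc m f S k j = true) : ∃ j, St π K l t T ε O v j ∧ k j = true := by
  induction S generalizing j with
  | nil => exact ⟨j, a, e⟩
  | cons p S ih =>
    change force (T.pi p) (fun i => and' (and' _ (and' (not' (Nat.beq i j)) _)) (and' (and' (tb m i) (tb f i))
      (T.swc m f S k i))) = true at e
    rw [force_eq] at e
    simp only [and'_eq, not'_eq, Bool.and_eq_true, Nat.ble_eq, Bool.not_eq_true', Bool.eq_false_iff, Ne, beq_iff] at e
    obtain ⟨⟨p1, p2, p3⟩, ⟨p4, p5⟩, p6⟩ := e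
    obtain ⟨hj, N, n1, n2, n3⟩ := a
    obtain ⟨N', m1, m2⟩ := c.lift (hm _ (h.pi_lt p1) p4)
    have q := c.tri' n1 m1 (by
      rw [m2, n3]
      refine mem_nb1.2 ⟨h.bij.mapsTo (h.pi_lt p1), fun e => p2 (h.bij.injOn (h.pi_lt p1) hj e), ?_⟩
      rw [h.pi_eq p1]
      exact ((h.pn_iff p1 j).1 (by rwa [TD.pn, testBit_appW h.ok, ← tb_eq])).2.symm)
    exact ih ⟨h.pi_lt p1, N', m1, c.tri' (c.symm n2) q (m2 ▸ hf _ (h.pi_lt p1) p5), m2⟩ p6
theorem LCv.adv (c : LCv π K E l t s) {f : Nat} {O v v' : Γ} (hf : MK T ε E f (pt π l v')) (b : Ad K t v v') {j : Nat}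
    (a : St π K l t T ε O v j) (e : tb f j = true) : St π K l t T ε O v' j :=
  let ⟨hj, N, n1, n2, n3⟩ := a; ⟨hj, N, n1, c.tri' b n2 (n3 ▸ hf j hj e), n3⟩
theorem St.frame (h : TM T ε (ys.map π) E) (sq : ∀ y ∈ ys, y * y = 1) {m : Nat} {O v : Γ} (hm : MK T ε E m (pt π l O)) {j : Nat}
    (a : St π K l t T ε O v j) {w : List Nat} (hw : (ev ys w)⁻¹ * v ∈ K) :
    MK T ε E (appW T.Ns w m) (pt π l ((ev ys w)⁻¹ * O)) ∧ St π K l t T ε ((ev ys w)⁻¹ * O) 1 (fnW T.Ns (revW w) j) := by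
  obtain ⟨hj, N, n1, n2, n3⟩ := a
  refine ⟨fun i hi e => ?_, fnW_lt h.ok _ hj, _, n1.left _, (n2.left _).right (by simpa using hw), ?_⟩
  · have := nb_conj h.cj (π (ev ys w)⁻¹) (hm _ (fnW_lt h.ok w hi) (by rwa [tb_eq, ← testBit_appW h.ok, ← tb_eq]))
    rw [← h.act w i hi, ev_map, List.map_singleton, ← pt_mul] at this
    simpa [mul_assoc] using this
  · rw [pt_mul, n3, ← h.act _ _ hj, ev_map, ev_revW sq]
theorem LCv.blk (c : LCv π K E l t s) (h : TM T ε (ys.map π) E) (sq : ∀ y ∈ ys, y * y = 1) {f0 f1 f2 g : Nat} {β : Γ}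
    (h0 : MK T ε E f0 (pt π l 1)) (h1 : MK T ε E f1 (pt π l β)) (h2 : MK T ε E f2 (pt π l (ys.getD g 1)))
    (a1 : Ad K t 1 β) (a2 : Ad K t β (ys.getD g 1)) {ok : Nat → Bool} (hk : ∀ i, ok i = true → ys.getD i 1 ∈ K)
    {B : List (List Pt × List Pt × List Nat)} {k : Nat → Nat → Bool} {m j : Nat} {O : Γ} (hm : MK T ε E m (pt π l O))
    (a : St π K l t T ε O 1 j) (e : T.blk f0 f1 f2 g ok B k m j = true) : ∃ m j, k m j = true ∧
      MK T ε E m (pt π l ((ev ys (blkW g B))⁻¹ * O)) ∧ St π K l t T ε ((ev ys (blkW g B))⁻¹ * O) 1 j := by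
  induction B generalizing m j O with
  | nil => exact ⟨m, j, e, by simpa [blkW, ev_nil] using hm, by simpa [blkW, ev_nil] using a⟩
  | cons b B ih =>
    obtain ⟨j, a, e⟩ := c.swc h hm h0 a e
    rw [and'_eq, Bool.and_eq_true] at e
    obtain ⟨j, a, e⟩ := c.swc h hm h1 (c.adv h1 a1 a e.1) e.2
    rw [and'_eq, and'_eq, Bool.and_eq_true, Bool.and_eq_true, force_eq, force_eq, allL_iff] at e
    have u : ∀ w : List Nat, (∀ i ∈ w, ok i = true) → ev ys w ∈ K := fun w hw => by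
      induction w with
      | nil => exact one_mem K
      | cons a t ih => exact ev_cons ys a t ▸ mul_mem (hk a (hw a List.mem_cons_self)) (ih fun g hg => hw g (List.mem_cons_of_mem _ hg))
    obtain ⟨x, y⟩ := (c.adv h2 a2 a e.1.1).frame h sq hm (w := g :: b.2.2) (by
      rw [ev_cons, mul_inv_rev, inv_mul_cancel_right]; exact inv_mem (u _ e.1.2))
    have := ih x y e.2
    rwa [← mul_assoc, ← mul_inv_rev, ← ev_append, List.cons_append, ← cat_eq] at this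
end
end
end H28
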