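import Cfsg.Agent.H28.Pkg2
/-! Certified double coset enumeration: a finite group `K` with a network model maps to `G`, and `t` generates `G`
together with the image. -/
namespace H28.Dc
open H27 MulAction
noncomputable section

/-- the claim `T mu • v i = π g • v j` with `g` described by the network -/
structure Fc where
  i : Nat
  mu : Nat
  j : Nat
  N : Net

/-- parameters of the checker -/
structure Par where
  m : Nat
  d : Nat
  nk : Nat
  tI : Nat
  TI : Nat
  c0 : Nat
  Ns : List Net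
  RR : List (List Nat)
  Ws : List (List Nat)

variable (P : Par)
def blt (a b : Nat) : Bool := Nat.ble (Nat.succ a) b
theorem blt_iff {a b : Nat} : blt a b = true ↔ a < b := by unfold blt; rw [Nat.ble_eq]; rfl
def get (acc : List Fc) (c : Nat) : Fc := nth ⟨0, P.m, 0, .nil⟩ acc c
def adv (w : List Nat) : Net → (List Nat → Net → Bool) → (Net → Bool) → Bool :=
  List.rec (motive := fun _ => Net → (List Nat → Net → Bool) → (Net → Bool) → Bool) (fun q _ kE => kE q)
    (fun a t ih q kT kE => ite' (Nat.beq a P.TI) (kT t q)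
      (and' (blt a P.nk) (ih ((nth .nil P.Ns a).rev.append q) kT kE))) w
def use (f : Fc) (dir : Nat) (q : Net) (i : Nat) (k : Net → Nat → Bool) : Bool :=
  ite' (Nat.beq dir 0) (and' (Nat.beq f.i i) (k (q.append f.N) f.j)) (and' (Nat.beq f.j i) (k (q.append f.N.rev) f.i))
def useT (f : Fc) (dir : Nat) (q : Net) (i : Nat) (k : Net → Nat → Bool) : Bool :=
  ite' (Nat.beq dir 0) (and' (and' (Nat.beq f.i i) (Nat.beq (q.fn f.mu) 0)) (k (q.append f.N) f.j))
    (and' (and' (Nat.beq f.j i) (Nat.beq ((q.append f.N.rev).fn f.mu) P.c0)) (k (q.append f.N.rev) f.i))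
def walk (acc : List Fc) (kont : Net → Nat → Bool) (st : List Nat) : List Nat → Net → Nat → Bool :=
  List.rec (motive := fun _ => List Nat → Net → Nat → Bool)
    (fun w q i => adv P w q (fun _ _ => false) fun q' => kont q' i)
    (fun c _ ih w q i => ite' (blt (get P acc (Nat.shiftRight c 1)).mu P.m)
      (adv P w q (fun w' q' => useT P (get P acc (Nat.shiftRight c 1)) (Nat.land c 1) q' i (ih w')) fun _ => false)
      (use (get P acc (Nat.shiftRight c 1)) (Nat.land c 1) q i (ih w))) st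
def code (acc : List Fc) (c : Nat) : Net :=
  ite' (blt c P.nk) (nth .nil P.Ns c) (ite' (Nat.beq (Nat.land (Nat.sub c P.nk) 1) 0)
    (get P acc (Nat.shiftRight (Nat.sub c P.nk) 1)).N (get P acc (Nat.shiftRight (Nat.sub c P.nk) 1)).N.rev)
def kwN (acc : List Fc) (w : List Nat) : Net :=
  List.rec (motive := fun _ => Net) .nil (fun c _ ih => (code P acc c).append ih) w
def headIs (w : List Nat) (a : Nat) : Bool := List.rec (motive := fun _ => Bool) false (fun x _ _ => Nat.beq x a) w
def eqW (a : List Nat) : List Nat → Bool :=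
  List.rec (motive := fun _ => List Nat → Bool) (fun b => List.rec (motive := fun _ => Bool) true (fun _ _ _ => false) b)
    (fun x _ ih b => List.rec (motive := fun _ => Bool) false (fun y s _ => and' (Nat.beq x y) (ih s)) b) a
theorem eqW_eq {a b : List Nat} (h : eqW a b = true) : a = b := by
  induction a generalizing b with
  | nil => cases b with
    | nil => rfl
    | cons => cases h
  | cons x t ih => cases b with
    | nil => cases h
    | cons y s =>
      have : and' (Nat.beq x y) (eqW t s) = true := h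
      rw [and'_eq, Bool.and_eq_true, beq_iff] at this
      rw [this.1, ih this.2]
/-- a record: the claim, its kind, the relator, the conjugating word and the program -/
structure Rc where
  f : Fc
  kd : Nat
  r : Nat
  k0 : List Nat
  st : List Nat
def fin (f : Fc) (kN : Net) (q : Net) (i : Nat) : Bool :=
  and' (Nat.beq i f.j) (and' (f.N.valid P.m) (eqL P.d P.m [kN, q] [f.N]))
def chk (acc : List Fc) (x : Rc) : Bool :=
  ite' (Nat.beq x.kd 0)
    (ite' (blt x.f.mu P.m)
      (and' (and' (headIs (nth [] P.RR x.r) P.tI) (Nat.beq ((kwN P acc x.k0).fn 0) x.f.mu))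
        (walk P acc (fin P x.f (kwN P acc x.k0)) x.st (tl (nth [] P.RR x.r)) (kwN P acc x.k0).rev x.f.i))
      (walk P acc (fin P x.f (kwN P acc x.k0)) x.st (nth [] P.RR x.r) (kwN P acc x.k0).rev x.f.i))
    (ite' (Nat.beq x.kd 1)
      (and' (eqW (nth [] P.Ws x.f.j) (x.f.mu :: nth [] P.Ws x.f.i)) (fin P x.f .nil .nil x.f.j))
      (and' (and' (eqW (nth [] P.Ws x.f.i) []) (Nat.ble P.m x.f.mu)) (fin P x.f (kwN P acc x.k0) .nil x.f.i)))
def run (L : List Rc) : List Fc → Bool :=
  List.rec (motive := fun _ => List Fc → Bool) (fun _ => true) (fun x _ ih acc => and' (chk P acc x) (ih (x.f :: acc))) L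
def push (L : List Rc) : List Fc → List Fc :=
  List.rec (motive := fun _ => List Fc → List Fc) (fun acc => acc) (fun x _ ih acc => ih (x.f :: acc)) L

variable {K G Λ Ω : Type*} [Group K] [Group G] [MulAction K Λ] [MulAction G Ω]

/-- the algebraic setting -/
structure Ctx (e : Nat → Λ) (ks : List K) (π : K →* G) (t : G) (T : Nat → G) (xs : List G) : Prop where
  M : Mdl P.m e ks P.Ns
  pos : 0 < P.m
  T0 : T 0 = t
  Tge : ∀ l, P.m ≤ l → T l = 1
  eqv : ∀ (g : K) l l', l < P.m → l' < P.m → g • e l = e l' → π g * T l = T l' * π g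
  Tc : t * T P.c0 = 1
  lk : ∀ a < P.nk, xs.getD a 1 = π (ks.getD a 1)
  lT : xs.getD P.TI 1 = t⁻¹
  lt : xs.getD P.tI 1 = t
  rel : Rels xs P.RR

/-- the points -/
def vtx (T : Nat → G) (ω : Ω) (i : Nat) : Ω := ((nth [] P.Ws i).map T).prod • ω
def Fc.Ok (e : Nat → Λ) (π : K →* G) (T : Nat → G) (ω : Ω) (f : Fc) : Prop :=
  ∃ g : K, Acts P.m e g f.N ∧ T f.mu • vtx P T ω f.i = π g • vtx P T ω f.j
def Good (e : Nat → Λ) (π : K →* G) (T : Nat → G) (ω : Ω) (acc : List Fc) : Prop := ∀ f ∈ acc, f.Ok P e π T ω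

variable {P} {e : Nat → Λ} {ks : List K} {π : K →* G} {t : G} {T : Nat → G} {xs : List G} {ω : Ω}

theorem Ctx.eqvN (C : Ctx P e ks π t T xs) {g : K} {N : Net} (a : Acts P.m e g N) (l : Nat) :
    π g * T l = T (N.fn l) * π g := by
  rcases lt_or_ge l P.m with h | h
  · exact C.eqv g _ _ h (Net.fn_lt a.ok h) (a.act l h)
  · rw [Net.fn_ge a.ok h, C.Tge l h, mul_one, one_mul]

theorem Good.get (C : Ctx P e ks π t T xs) {acc : List Fc} (h : Good P e π T ω acc) (c : Nat) :
    (get P acc c).Ok P e π T ω := by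
  rcases nth_mem_or ⟨0, P.m, 0, .nil⟩ acc c with a | a
  · exact h _ a
  · rw [Dc.get, a]; exact ⟨1, Acts.one, by rw [C.Tge _ le_rfl, map_one]⟩

theorem adv_spec (C : Ctx P e ks π t T xs) (w : List Nat) {q : Net} {kT : List Nat → Net → Bool} {kE : Net → Bool}
    (h : adv P w q kT kE = true) {g : K} (a : Acts P.m e g q) :
    ∃ g' q', Acts P.m e g' q' ∧ ((∃ w', kT w' q' = true ∧ (ev xs w)⁻¹ * π g = (ev xs w')⁻¹ * (t * π g')) ∨
      (kE q' = true ∧ (ev xs w)⁻¹ * π g = π g')) := by
  induction w generalizing q g with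
  | nil => exact ⟨g, q, a, Or.inr ⟨h, by simp [ev_nil]⟩⟩
  | cons x s ih =>
    have h' : ite' (Nat.beq x P.TI) (kT s q)
      (and' (blt x P.nk) (adv P s ((nth .nil P.Ns x).rev.append q) kT kE)) = true := h
    rw [ite'_eq] at h'
    split_ifs at h' with hx
    · rw [beq_iff] at hx
      exact ⟨g, q, a, Or.inl ⟨s, h', by rw [ev_cons, hx, C.lT]; group⟩⟩
    · rw [and'_eq, Bool.and_eq_true, blt_iff] at h'
      have b : Acts P.m e (ks.getD x 1) (nth .nil P.Ns x) := by rw [nth_eq]; exact C.M.acts.getD x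
      obtain ⟨g', q', a', h2⟩ := ih h'.2 (b.inv.mul a)
      refine ⟨g', q', a', ?_⟩
      have : (ev xs (x :: s))⁻¹ * π g = (ev xs s)⁻¹ * π ((ks.getD x 1)⁻¹ * g) := by
        rw [ev_cons, C.lk x h'.1, map_mul, map_inv]; group
      rwa [this]

theorem use_spec (C : Ctx P e ks π t T xs) {f : Fc} (hf : f.Ok P e π T ω) (hm : ¬ f.mu < P.m) {dir i : Nat} {q : Net}
    {k : Net → Nat → Bool} (h : use f dir q i k = true) {g : K} (a : Acts P.m e g q) :
    ∃ g' q' i', Acts P.m e g' q' ∧ k q' i' = true ∧ π g • vtx P T ω i = π g' • vtx P T ω i' := by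
  obtain ⟨s, b, hs⟩ := hf
  rw [C.Tge _ (not_lt.1 hm), one_smul] at hs
  rw [use, ite'_eq] at h
  split_ifs at h <;> rw [and'_eq, Bool.and_eq_true, beq_iff] at h
  · exact ⟨_, _, _, a.mul b, h.2, by rw [← h.1, hs, map_mul, mul_smul]⟩
  · exact ⟨_, _, _, a.mul b.inv, h.2, by rw [← h.1, hs, map_mul, map_inv, mul_smul, inv_smul_smul]⟩

theorem useT_spec (C : Ctx P e ks π t T xs) {f : Fc} (hf : f.Ok P e π T ω) {dir i : Nat} {q : Net}
    {k : Net → Nat → Bool} (h : useT P f dir q i k = true) {g : K} (a : Acts P.m e g q) :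
    ∃ g' q' i', Acts P.m e g' q' ∧ k q' i' = true ∧ (t * π g) • vtx P T ω i = π g' • vtx P T ω i' := by
  obtain ⟨s, b, hs⟩ := hf
  rw [useT, ite'_eq] at h
  split_ifs at h <;> simp only [and'_eq, Bool.and_eq_true, beq_iff] at h
  · refine ⟨_, _, _, a.mul b, h.2, ?_⟩
    rw [← h.1.1, ← C.T0, ← h.1.2, ← C.eqvN a, mul_smul, hs, map_mul, mul_smul]
  · refine ⟨_, _, _, a.mul b.inv, h.2, ?_⟩
    have h1 := C.eqvN (a.mul b.inv) f.mu
    rw [h.1.2] at h1
    have h2 : vtx P T ω f.j = (π s)⁻¹ • T f.mu • vtx P T ω f.i := by rw [hs, inv_smul_smul]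
    rw [← h.1.1, h2, smul_smul, smul_smul, mul_assoc t, ← map_inv, ← map_mul, mul_assoc t, h1, ← mul_assoc, C.Tc,
      one_mul]

theorem walk_spec (C : Ctx P e ks π t T xs) {acc : List Fc} (hG : Good P e π T ω acc) {kont : Net → Nat → Bool}
    (st : List Nat) {w : List Nat} {q : Net} {i : Nat} (h : walk P acc kont st w q i = true) {g : K}
    (a : Acts P.m e g q) :
    ∃ g' q' i', Acts P.m e g' q' ∧ kont q' i' = true ∧
      ((ev xs w)⁻¹ * π g) • vtx P T ω i = π g' • vtx P T ω i' := by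
  induction st generalizing w q i g with
  | nil =>
    obtain ⟨g', q', a', ⟨_, h, _⟩ | h⟩ := adv_spec C w h a
    · cases h
    · exact ⟨g', q', i, a', h.1, by rw [h.2]⟩
  | cons c s ih =>
    have h' : ite' (blt (get P acc (Nat.shiftRight c 1)).mu P.m)
      (adv P w q (fun w' q' => useT P (get P acc (Nat.shiftRight c 1)) (Nat.land c 1) q' i (walk P acc kont s w'))
        fun _ => false)
      (use (get P acc (Nat.shiftRight c 1)) (Nat.land c 1) q i (walk P acc kont s w)) = true := h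
    rw [ite'_eq] at h'
    split_ifs at h' with hx
    · obtain ⟨g1, q1, a1, ⟨w', h1, h2⟩ | h⟩ := adv_spec C w h' a
      · obtain ⟨g2, q2, i2, a2, h3, h4⟩ := useT_spec C (hG.get C _) h1 a1
        obtain ⟨g3, q3, i3, a3, h5, h6⟩ := ih h3 a2
        exact ⟨g3, q3, i3, a3, h5, by rw [h2, mul_smul, h4, ← mul_smul, h6]⟩
      · cases h.1
    · rw [blt_iff] at hx
      obtain ⟨g2, q2, i2, a2, h3, h4⟩ := use_spec C (hG.get C _) hx h' a
      obtain ⟨g3, q3, i3, a3, h5, h6⟩ := ih h3 a2
      exact ⟨g3, q3, i3, a3, h5, by rw [mul_smul, h4, ← mul_smul, h6]⟩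

theorem kwN_spec (C : Ctx P e ks π t T xs) {acc : List Fc} (hG : Good P e π T ω acc) (w : List Nat) :
    ∃ g : K, Acts P.m e g (kwN P acc w) := by
  induction w with
  | nil => exact ⟨1, Acts.one⟩
  | cons c s ih =>
    obtain ⟨g, a⟩ := ih
    suffices ∃ g : K, Acts P.m e g (code P acc c) from let ⟨_, b⟩ := this; ⟨_, b.mul a⟩
    obtain ⟨u, b, -⟩ := hG.get C (Nat.shiftRight (Nat.sub c P.nk) 1)
    rw [code, ite'_eq, ite'_eq]
    split_ifs
    · exact ⟨_, by rw [nth_eq]; exact C.M.acts.getD c⟩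
    · exact ⟨_, b⟩
    · exact ⟨_, b.inv⟩

theorem fin_spec {f : Fc} {kN q : Net} {i : Nat} (h : fin P f kN q i = true) {k g : K} (a : Acts P.m e k kN)
    (b : Acts P.m e g q) : i = f.j ∧ Acts P.m e (k * g) f.N := by
  simp only [fin, and'_eq, Bool.and_eq_true, beq_iff] at h
  have := ActsL.prod_acts (gs := [k, g]) (.cons a (.cons b .nil)) h.2.1 h.2.2
  exact ⟨h.1, by simpa using this⟩

theorem rel_nth (C : Ctx P e ks π t T xs) (r : Nat) : ev xs (nth [] P.RR r) = 1 := by
  rcases nth_mem_or [] P.RR r with a | a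
  · exact C.rel _ a
  · rw [a, ev_nil]

theorem chk_spec (C : Ctx P e ks π t T xs) (hω : ∀ k, π k • ω = ω) {acc : List Fc} (hG : Good P e π T ω acc) {x : Rc}
    (h : chk P acc x = true) : x.f.Ok P e π T ω := by
  obtain ⟨k, a⟩ := kwN_spec C hG x.k0
  have hr := rel_nth C x.r
  rw [chk, ite'_eq, ite'_eq, ite'_eq] at h
  split_ifs at h with h1 h2 h3
  · simp only [and'_eq, Bool.and_eq_true, beq_iff] at h
    obtain ⟨g, q, i, b, h4, h5⟩ := walk_spec C hG _ h.2 a.inv
    obtain ⟨rfl, c⟩ := fin_spec h4 a b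
    refine ⟨_, c, ?_⟩
    have h6 : (ev xs (tl (nth [] P.RR x.r)))⁻¹ = t := by
      generalize nth [] P.RR x.r = w at hr h
      cases w with
      | nil => cases h.1.1
      | cons y s =>
        have : y = P.tI := (beq_iff _ _).1 h.1.1
        rw [ev_cons, this, C.lt] at hr
        exact (eq_inv_of_mul_eq_one_left hr).symm
    rw [h6] at h5
    rw [map_mul, mul_smul, ← h5, smul_smul, ← mul_assoc, ← C.T0, C.eqvN a, h.1.2, map_inv, mul_inv_cancel_right]
  · rw [blt_iff] at h2
    obtain ⟨g, q, i, b, h4, h5⟩ := walk_spec C hG _ h a.inv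
    obtain ⟨rfl, c⟩ := fin_spec h4 a b
    refine ⟨_, c, ?_⟩
    rw [hr, inv_one, one_mul] at h5
    rw [map_mul, mul_smul, ← h5, map_inv, smul_inv_smul, C.Tge _ (not_lt.1 h2), one_smul]
  · rw [and'_eq, Bool.and_eq_true] at h
    refine ⟨_, (fin_spec h.2 (Acts.one (G := K)) Acts.one).2, ?_⟩
    simp only [vtx, eqW_eq h.1, mul_one, map_one, one_smul, List.map_cons, List.prod_cons, mul_smul]
  · simp only [and'_eq, Bool.and_eq_true, Nat.ble_eq] at h
    obtain ⟨h4, c⟩ := fin_spec h.2 a Acts.one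
    refine ⟨_, c, ?_⟩
    rw [← h4, C.Tge _ h.1.2, vtx, eqW_eq h.1.1]
    simp [hω]

theorem Good.nil : Good P e π T ω [] := fun _ h => by cases h
theorem Good.run (C : Ctx P e ks π t T xs) (hω : ∀ k, π k • ω = ω) {L : List Rc} {acc : List Fc}
    (hG : Good P e π T ω acc) (h : run P L acc = true) : Good P e π T ω (push L acc) := by
  induction L generalizing acc with
  | nil => exact hG
  | cons x s ih =>
    have h' : and' (chk P acc x) (Dc.run P s (x.f :: acc)) = true := h
    rw [and'_eq, Bool.and_eq_true] at h'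
    exact ih (acc := x.f :: acc) (List.forall_mem_cons.2 ⟨chk_spec C hω hG h'.1, hG⟩) h'.2

end
end H28.Dc
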