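import Cfsg.Agent.H28.Dc1
/-! Certified double coset enumeration: closure, counting and the set-up from a presentation. -/
namespace H28.Dc
open H27 MulAction
noncomputable section
universe u

/-- a double coset: the stabiliser claims, the entry claims, rounds, and a lower bound for the stabiliser -/
structure Vr where
  i : Nat
  S : List Nat
  E : List Nat
  k : Nat
  c : Nat

def memN (l : List Nat) (a : Nat) : Bool := List.rec (motive := fun _ => Bool) false (fun x _ ih => or' (Nat.beq x a) ih) l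
theorem memN_mem {l : List Nat} {a : Nat} (h : memN l a = true) : a ∈ l := by
  induction l with
  | nil => cases h
  | cons x t ih =>
    have : or' (Nat.beq x a) (memN t a) = true := h
    rw [or'_eq, Bool.or_eq_true, beq_iff] at this
    exact this.elim (fun h => h ▸ List.mem_cons_self) fun h => List.mem_cons_of_mem _ (ih h)

variable (P : Par)
def sN (F : List Fc) (r : Vr) : List Net := mapL (fun s => (get P F s).N) r.S
def vchk (F : List Fc) (al : List Nat) (r : Vr) : Bool :=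
  and' (and' (allL r.S fun s => and' (and' (Nat.beq (get P F s).i r.i) (Nat.beq (get P F s).j r.i))
      (Nat.ble P.m (get P F s).mu))
    (allL r.E fun s => and' (and' (Nat.beq (get P F s).i r.i) (memN al (get P F s).j)) (blt (get P F s).mu P.m)))
    (Nat.beq (orb (sN P F r) r.k (orL (mapL (fun s => (get P F s).mu) r.E))) (ones P.m))
def VOk (F : List Fc) (al : List Nat) (r : Vr) : Prop :=
  vchk P F al r = true ∧ 0 < r.c ∧ ∃ S sel L, and' (Nat.ble P.m (Nat.shiftLeft 1 P.d)) (and' (slpChk P.d P.m S (sN P F r))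
    (Nat.beq (chain P.d P.m L (wordN (slpN S (sN P F r)) sel)) r.c)) = true
theorem VOk.of {F : List Fc} {al : List Nat} {r : Vr} (S : List (List Nat × Net)) (sel : List Nat)
    (L : List (Nat × Nat × Nat)) (h : and' (and' (vchk P F al r) (blt 0 r.c))
      (and' (Nat.ble P.m (Nat.shiftLeft 1 P.d)) (and' (slpChk P.d P.m S (sN P F r))
        (Nat.beq (chain P.d P.m L (wordN (slpN S (sN P F r)) sel)) r.c))) = true) : VOk P F al r := by
  rw [and'_eq, Bool.and_eq_true, and'_eq (vchk P F al r), Bool.and_eq_true, blt_iff] at h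
  exact ⟨h.1.1, h.1.2, S, sel, L, h.2⟩

section
variable {K G Λ Ω : Type*} [Group K] [Group G] [MulAction K Λ] [MulAction G Ω]
variable {P} {e : Nat → Λ} {ks : List K} {π : K →* G} {t : G} {T : Nat → G} {xs : List G} {ω : Ω}
  {F : List Fc} {al : List Nat}

theorem VOk.stab (C : Ctx P e ks π t T xs) (hG : Good P e π T ω F) {r : Vr} (h : VOk P F al r) :
    ∃ gs : List K, ActsL P.m e gs (sN P F r) ∧ ∀ g ∈ gs, π g • vtx P T ω r.i = vtx P T ω r.i := by
  have h1 := h.1
  simp only [vchk, and'_eq, Bool.and_eq_true, allL_iff, beq_iff, Nat.ble_eq] at h1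
  have h2 := h1.1.1
  rw [sN, mapL_eq]
  generalize r.S = S at h2
  induction S with
  | nil => exact ⟨[], .nil, fun _ h => by cases h⟩
  | cons s S ih =>
    obtain ⟨gs, a, b⟩ := ih fun x hx => h2 x (List.mem_cons_of_mem _ hx)
    obtain ⟨g, c, d⟩ := hG.get C s
    obtain ⟨⟨h3, h4⟩, h5⟩ := h2 s List.mem_cons_self
    rw [h3, h4, C.Tge _ h5, one_smul] at d
    exact ⟨g :: gs, .cons c a, List.forall_mem_cons.2 ⟨d.symm, b⟩⟩

theorem VOk.ent (C : Ctx P e ks π t T xs) (hG : Good P e π T ω F) {r : Vr} (h : VOk P F al r) {l : Nat}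
    (hl : l < P.m) : ∃ j ∈ al, ∃ k, T l • vtx P T ω r.i = π k • vtx P T ω j := by
  obtain ⟨gs, a, b⟩ := h.stab C hG
  have h1 := h.1
  simp only [vchk, and'_eq, Bool.and_eq_true, allL_iff, beq_iff, blt_iff] at h1
  refine (orb_ind (n := P.m) (fun _ => a.ok) (fun l => ∃ j ∈ al, ∃ k, T l • vtx P T ω r.i = π k • vtx P T ω j) ?_ r.k
    ?_ l (h1.2 ▸ (testBit_ones _ _).2 hl)).2
  · rintro N hN l - ⟨j, hj, k, hk⟩
    obtain ⟨g, hg, c⟩ := a.exists_left hN
    refine ⟨j, hj, g⁻¹ * k, ?_⟩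
    rw [map_mul, mul_smul, ← hk, ← b g hg, ← mul_smul (T (N.fn l)), ← C.eqvN c, mul_smul, map_inv, inv_smul_smul,
      b g hg]
  · intro l hl
    rw [testBit_orL, mapL_eq] at hl
    obtain ⟨s, hs, rfl⟩ := List.mem_map.1 hl
    obtain ⟨⟨h3, h4⟩, h5⟩ := h1.1.2 s hs
    obtain ⟨g, -, d⟩ := hG.get C s
    exact ⟨h5, _, memN_mem h4, g, h3 ▸ d⟩

theorem VOk.card [Finite K] (C : Ctx P e ks π t T xs) (hG : Good P e π T ω F) {r : Vr} (h : VOk P F al r) :
    (Set.range fun k => π k • vtx P T ω r.i).ncard ≤ Nat.card K / r.c := by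
  obtain ⟨gs, a, b⟩ := h.stab C hG
  obtain ⟨S, sel, L, h1⟩ := h.2.2
  have h2 := le_card_cl C.M.inj a S sel L h1
  have h3 := card_eq_orbit_mul_top (G := K) (Ω := Via π Ω) (vtx (Ω := Ω) P T ω r.i)
  have h4 : cl gs ≤ stabilizer K (α := Via π Ω) (vtx (Ω := Ω) P T ω r.i) := cl_le b
  rw [Nat.le_div_iff_mul_le h.2.1, h3]
  exact Nat.mul_le_mul_left _ (h2.trans (Subgroup.card_le_of_le h4))

theorem cover (C : Ctx P e ks π t T xs) (hG : Good P e π T ω F) {recs : List Vr} (h : ∀ r ∈ recs, VOk P F al r)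
    (hal : mapL Vr.i recs = al) (h0 : 0 ∈ al) (hW : nth [] P.Ws 0 = []) (hc : P.c0 < P.m)
    (hx : ∀ x ∈ xs, x ∈ π.range ∨ x = t ∨ x = t⁻¹) {g : G} (hg : g ∈ cl xs) :
    ∃ r ∈ recs, ∃ k, g • ω = π k • vtx P T ω r.i := by
  have hal' : ∀ j ∈ al, ∃ r ∈ recs, r.i = j := fun j hj => by
    rw [← hal, mapL_eq] at hj; exact List.mem_map.1 hj
  let Y : Ω → Prop := fun y => ∃ r ∈ recs, ∃ k, y = π k • vtx P T ω r.i
  have hK : ∀ k y, Y y → Y (π k • y) := by
    rintro k _ ⟨r, hr, k', rfl⟩; exact ⟨r, hr, k * k', by rw [map_mul, mul_smul]⟩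
  have hT : ∀ l < P.m, ∀ y, Y y → Y (T l • y) := by
    rintro l hl _ ⟨r, hr, k, rfl⟩
    obtain ⟨l', hl', h1⟩ := C.M.acts.closed (g := k⁻¹) (C.M.top ▸ Subgroup.mem_top _) hl
    obtain ⟨j, hj, k', h2⟩ := (h r hr).ent C hG hl'
    obtain ⟨r', hr', rfl⟩ := hal' j hj
    refine ⟨r', hr', k * k', ?_⟩
    rw [map_mul, mul_smul, ← h2, smul_smul, smul_smul, C.eqv k l' l hl' hl (by rw [← h1, smul_inv_smul])]
  have ht : t⁻¹ = T P.c0 := inv_eq_of_mul_eq_one_right C.Tc
  suffices ∀ y, Y y → Y (g • y) by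
    obtain ⟨r, hr, h1⟩ := hal' 0 h0
    exact this ω ⟨r, hr, 1, by simp [h1, vtx, hW]⟩
  induction hg using Subgroup.closure_induction'' with
  | one => simp
  | mem g hg =>
    rcases hx g hg with ⟨k, rfl⟩ | rfl | rfl
    · exact hK k
    · exact C.T0 ▸ hT 0 C.pos
    · exact ht ▸ hT _ hc
  | inv_mem g hg =>
    rcases hx g hg with ⟨k, rfl⟩ | rfl | rfl
    · exact map_inv π k ▸ hK k⁻¹
    · exact ht ▸ hT _ hc
    · rw [inv_inv]; exact C.T0 ▸ hT 0 C.pos
  | mul a b _ _ iha ihb => exact fun y hy => mul_smul a b y ▸ iha _ (ihb y hy)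

theorem ncard_cover [Finite K] (C : Ctx P e ks π t T xs) (hG : Good P e π T ω F) {recs : List Vr}
    (h : ∀ r ∈ recs, VOk P F al r) :
    {y | ∃ r ∈ recs, ∃ k, y = π k • vtx P T ω r.i}.Finite ∧
      {y | ∃ r ∈ recs, ∃ k, y = π k • vtx P T ω r.i}.ncard ≤ (recs.map fun r => Nat.card K / r.c).sum := by
  induction recs with
  | nil => simp
  | cons r s ih =>
    obtain ⟨a, b⟩ := ih fun x hx => h x (List.mem_cons_of_mem _ hx)
    have : {y | ∃ r' ∈ r :: s, ∃ k, y = π k • vtx P T ω r'.i} =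
        (Set.range fun k => π k • vtx P T ω r.i) ∪ {y | ∃ r ∈ s, ∃ k, y = π k • vtx P T ω r.i} := by
      ext y; simp [eq_comm]
    rw [this]
    exact ⟨(Set.finite_range _).union a, (Set.ncard_union_le _ _).trans
      (Nat.add_le_add ((h r List.mem_cons_self).card C hG) b)⟩

theorem bd_of_orbit {A H : Subgroup G} {Y : Set (G ⧸ H)} (hY : Y.Finite) {n m : Nat} (hn : Y.ncard ≤ n)
    (h : ∀ g ∈ A, g • ((1 : G) : G ⧸ H) ∈ Y) (hH : Bd H m) : Bd A (n * m) := by
  have hc := card_eq_orbit_mul A ((1 : G) : G ⧸ H)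
  rw [MulAction.stabilizer_quotient] at hc
  have hsub : MulAction.orbit A ((1 : G) : G ⧸ H) ⊆ Y := by rintro _ ⟨g, rfl⟩; exact h g g.2
  have h2 := hH.mono (inf_le_right : A ⊓ H ≤ H)
  have := h2.1
  refine ⟨Nat.finite_of_card_ne_zero ?_, hc ▸ Nat.mul_le_mul ((Set.ncard_le_ncard hsub hY).trans hn) h2.2⟩
  rw [hc]
  exact Nat.mul_ne_zero (Set.ncard_ne_zero_of_mem (MulAction.mem_orbit_self _) (hY.subset hsub)) Nat.card_pos.ne'

theorem exists_T {m : Nat} (h0 : 0 < m) (htr : ∀ j < m, ∃ g : K, g • e 0 = e j)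
    (hs : ∀ g ∈ stabilizer K (e 0), π g * t = t * π g) :
    ∃ T : Nat → G, T 0 = t ∧ (∀ l, m ≤ l → T l = 1) ∧
      ∀ (g : K) l l', l < m → l' < m → g • e l = e l' → π g * T l = T l' * π g := by
  choose! r hr using htr
  have key : ∀ a b : K, a • e 0 = b • e 0 → π a * t * (π a)⁻¹ = π b * t * (π b)⁻¹ := fun a b h => by
    have := hs (b⁻¹ * a) (by rw [mem_stabilizer_iff, mul_smul, h, inv_smul_smul])
    rw [map_mul, map_inv] at this
    calc π a * t * (π a)⁻¹ = π b * ((π b)⁻¹ * π a * t) * (π a)⁻¹ := by group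
      _ = _ := by rw [this]; group
  refine ⟨fun l => if l < m then π (r l) * t * (π (r l))⁻¹ else 1, ?_, fun l h => if_neg (not_lt.2 h), ?_⟩
  · simp only [h0, if_true]; rw [key _ 1 (by rw [hr 0 h0, one_smul])]; simp
  · intro g l l' a b h
    simp only [a, b, if_true]
    rw [← key (g * r l) (r l') (by rw [mul_smul, hr l a, h, hr l' b]), map_mul]; group
end

/-- inverse words -/
def iw (I : List Nat) (w : List Nat) : List Nat :=
  List.rec (motive := fun _ => List Nat) [] (fun a _ ih => cat ih [nth a I a]) w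
def invR (I : List Nat) : List (List Nat) := (List.range I.length).map fun a => [a, nth a I a]
theorem ev_iw {G : Type*} [Group G] {xs : List G} {I : List Nat} (hl : xs.length = I.length) (h : Rels xs (invR I))
    (w : List Nat) : ev xs (iw I w) = (ev xs w)⁻¹ := by
  induction w with
  | nil => simp [iw, ev_nil]
  | cons a s ih =>
    have : iw I (a :: s) = cat (iw I s) [nth a I a] := rfl
    rw [this, cat_eq, ev_append, ih, ev_cons xs a, mul_inv_rev, ev_single]
    congr 1
    rcases lt_or_ge a I.length with ha | ha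
    · have := h _ (List.mem_map.2 ⟨a, List.mem_range.2 ha, rfl⟩)
      rw [ev_cons, ev_single] at this
      exact eq_inv_of_mul_eq_one_right this
    · rw [nth_eq, List.getD_eq_default _ _ ha, List.getD_eq_default _ _ (hl ▸ ha), inv_one]

/-- the relators needed: inverses, the relators of `K`, `t` commutes with the stabiliser, `r` inverts `t`, the letters
are expressed by the words `Xs`, and the relators used in the enumeration -/
def needR (I : List Nat) (R' S Xs : List (List Nat)) (r : List Nat) : List (List Nat) :=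
  catL (catL (invR I) (expL (gensW P.nk) R'))
    (catL (catL (mapL (fun s => cat (cat s [P.tI]) (cat (iw I s) [P.TI])) S)
      ([P.tI, P.TI] :: cat (P.tI :: r) (P.tI :: iw I r) :: mapL (fun a => a :: iw I (nth [] Xs a)) (List.range I.length))) P.RR)
def setChk (I : List Nat) (S Xs : List (List Nat)) (r : List Nat) (kk : Nat) : Bool :=
  and' (and' (and' (transChk P.m P.Ns kk) (fix0Chk P.Ns S)) (and' (rng P.nk (r :: S)) (Nat.beq (fnW P.Ns r 0) P.c0)))
    (and' (Nat.beq P.Ns.length P.nk) (allN I.length fun a => or' (rngW P.nk (nth [] Xs a))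
      (or' (eqW (nth [] Xs a) [P.tI]) (eqW (nth [] Xs a) [P.TI]))))

theorem ev_expand_gens {G : Type*} [Group G] (xs : List G) {k : Nat} {w : List Nat} (h : ∀ g ∈ w, g < k) :
    ev ((gensW k).map (ev xs)) w = ev xs w := by
  induction w with
  | nil => rfl
  | cons a s ih =>
    rw [ev_cons, ev_cons, ih fun g hg => h g (List.mem_cons_of_mem _ hg)]
    have := h a List.mem_cons_self
    simp [gensW, this, ev_single]

/-- the set-up -/
theorem setup [NeZero P.m] {R' S Xs : List (List Nat)} {I r : List Nat} {kk s : Nat}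
    (a : Univ.{u} R' (perms P.m P.Ns)) (hv : Enum.validL P.m P.Ns = true)
    (hκ : Nat.card (cl (perms P.m P.Ns)) = P.m * s) (hs : s ≤ Nat.card (cl (S.map (ev (perms P.m P.Ns)))))
    (h : setChk P I S Xs r kk = true) {G : Type u} [Group G] {xs : List G} (hl : xs.length = I.length)
    (hR : Rels xs (needR P I R' S Xs r)) :
    ∃ (π : cl (perms P.m P.Ns) →* G) (T : Nat → G),
      Ctx P (pts (cl (perms P.m P.Ns)).subtype) (subL (perms P.m P.Ns)) π (xs.getD P.tI 1) T xs ∧ P.c0 < P.m ∧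
      (∀ x ∈ xs, x ∈ π.range ∨ x = xs.getD P.tI 1 ∨ x = (xs.getD P.tI 1)⁻¹) ∧
      (∀ w, (∀ g ∈ w, g < P.nk) → π (ev (subL (perms P.m P.Ns)) w) = ev xs w) ∧
      π.range = cl ((gensW P.nk).map (ev xs)) ∧
      ∀ w, (∀ g ∈ w, g < P.nk) → T (fnW P.Ns w 0) = ev xs (cat w (P.tI :: iw I w)) := by
  simp only [setChk, and'_eq, or'_eq, Bool.and_eq_true, Bool.or_eq_true, beq_iff, allN_iff, rng_iff, rngW_iff] at h
  obtain ⟨⟨⟨h1, h2⟩, h3, h4⟩, h5, h6⟩ := h
  simp only [needR, catL_eq, mapL_eq, cat_eq] at hR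
  have hi := ev_iw hl hR.left.left
  obtain ⟨π, hπ⟩ := a.hom (xs := (gensW P.nk).map (ev xs)) (by simp [gensW, length_perms, h5])
    (rels_expL.1 hR.left.right)
  have hπ' : ∀ w, (∀ g ∈ w, g < P.nk) → π (ev (subL (perms P.m P.Ns)) w) = ev xs w := fun w hw => by
    rw [← ev_expand_gens xs hw, ← hπ]; congr 1; exact Subtype.ext (coe_ev_subL _ _)
  have M : Mdl P.m (pts (cl (perms P.m P.Ns)).subtype) (subL (perms P.m P.Ns)) P.Ns :=
    mdl_of_inj (map_subL _) hv (cl_subL _) (Subgroup.subtype_injective _)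
  have h0 : 0 < P.m := Nat.pos_of_ne_zero (NeZero.ne _)
  have htr := trans_of_chk M.acts h1
  have hst := stab_eq_of_le M.inj M.acts M.top h0 htr hκ h2 (by
    rw [← Subgroup.card_map_of_injective (cl (perms P.m P.Ns)).subtype_injective, ← cl_map, List.map_map]
    refine hs.trans (le_of_eq ?_)
    rw [show ((cl (perms P.m P.Ns)).subtype ∘ ev (subL (perms P.m P.Ns))) = ev (perms P.m P.Ns) from
      funext fun w => coe_ev_subL _ w])
  have hT : xs.getD P.TI 1 = (xs.getD P.tI 1)⁻¹ := by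
    have := hR.right.left.right _ List.mem_cons_self
    rw [ev_cons, ev_single] at this
    exact eq_inv_of_mul_eq_one_right this
  obtain ⟨T, T0, Tge, eqv⟩ := exists_T (π := π) (t := xs.getD P.tI 1) h0 htr fun g hg => by
    rw [hst] at hg
    refine ((Subgroup.mem_centralizer_iff.1 (cl_le (H := (Subgroup.centralizer {xs.getD P.tI 1}).comap π)
      (fun g hg => ?_) hg)) _ rfl).symm
    obtain ⟨w, hw, rfl⟩ := List.mem_map.1 hg
    have := hR.right.left.left _ (List.mem_map_of_mem hw)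
    rw [ev_append, ev_append, ev_append, hi, ev_single, ev_single, hT] at this
    rw [Subgroup.mem_comap, hπ' w (h3 w (List.mem_cons_of_mem _ hw)), Subgroup.mem_centralizer_iff]
    rintro _ rfl
    calc _ = (ev xs w * xs.getD P.tI 1 * ((ev xs w)⁻¹ * (xs.getD P.tI 1)⁻¹))⁻¹ * (ev xs w * xs.getD P.tI 1) := by group
      _ = _ := by rw [this, inv_one, one_mul]
  have hTw : ∀ w, (∀ g ∈ w, g < P.nk) → T (fnW P.Ns w 0) = ev xs (cat w (P.tI :: iw I w)) := fun w hw => by
    have := eqv _ 0 _ h0 (fnW_lt (ok_of_validL hv) w h0) (ev_smul M.acts w h0)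
    rw [hπ' w hw, T0] at this
    rw [cat_eq, ev_append, ev_cons, hi, ← mul_assoc, this, mul_inv_cancel_right]
  refine ⟨π, T, ⟨M, h0, T0, Tge, eqv, ?_, fun a ha => ?_, hT, rfl, hR.right.right⟩,
    h4 ▸ fnW_lt (ok_of_validL hv) r h0, fun x hx => ?_, hπ', ?_, hTw⟩
  · rw [← h4, hTw r (h3 r List.mem_cons_self), cat_eq, ← ev_cons]
    exact hR.right.left.right _ (List.mem_cons_of_mem _ List.mem_cons_self)
  · rw [← ev_single, ← ev_single, hπ' _ (by simpa using ha)]
  · obtain ⟨i, hi', rfl⟩ := List.getElem_of_mem hx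
    have := hR.right.left.right _ (List.mem_cons_of_mem _ (List.mem_cons_of_mem _
      (List.mem_map_of_mem (List.mem_range.2 (hl ▸ hi')))))
    rw [ev_cons, hi, mul_inv_eq_one, List.getD_eq_getElem _ _ hi'] at this
    rw [this]
    rcases h6 i (hl ▸ hi') with h | h | h
    · exact Or.inl ⟨_, hπ' _ h⟩
    · rw [eqW_eq h, ev_single]; exact Or.inr (Or.inl rfl)
    · rw [eqW_eq h, ev_single]; exact Or.inr (Or.inr hT)
  · rw [range_eq_cl π (cl_subL _), subL, List.map_map, gensW, List.map_map, length_perms, h5]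
    congr 1
    refine List.map_congr_left fun i hi => ?_
    have := hπ [i]
    rw [ev_expand_gens xs (k := P.nk) (by simpa using hi)] at this
    exact this

/-- all the data of a double coset enumeration -/
structure Data [NeZero P.m] (R' S Xs : List (List Nat)) (I r : List Nat) (L : List Rc) (recs : List Vr) (s n : Nat) :
    Prop where
  univ : Univ.{u} R' (perms P.m P.Ns)
  val : Enum.validL P.m P.Ns = true
  card : Nat.card (cl (perms P.m P.Ns)) = P.m * s
  stab : s ≤ Nat.card (cl (S.map (ev (perms P.m P.Ns))))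
  set : ∃ kk, setChk P I S Xs r kk = true
  run : run P L [] = true
  vok : ∀ r ∈ recs, VOk P (push L []) (mapL Vr.i recs) r
  fin : and' (and' (memN (mapL Vr.i recs) 0) (eqW (nth [] P.Ws 0) []))
    (Nat.beq (recs.map fun r => P.m * s / r.c).sum n) = true

variable {P}
theorem Data.idx [NeZero P.m] {R R' S Xs : List (List Nat)} {I r : List Nat} {L : List Rc} {recs : List Vr}
    {s n : Nat} (D : Data.{u} P R' S Xs I r L recs s n) (a : Impl.{u} I.length R (needR P I R' S Xs r)) :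
    Idx.{u} I.length R (gensW P.nk) n := by
  intro G _ xs hl hR H m hH hb
  obtain ⟨kk, hk⟩ := D.set
  obtain ⟨π, T, C, hc, hx, -, hr, -⟩ := setup P D.univ D.val D.card D.stab hk hl (a G xs hl hR)
  have hω : ∀ k, π k • ((1 : G) : G ⧸ H) = ((1 : G) : G ⧸ H) := fun k => by
    rw [← mem_stabilizer_iff, stabilizer_quotient]
    refine cl_le (fun g hg => ?_) (hr.le ⟨k, rfl⟩)
    obtain ⟨w, hw, rfl⟩ := List.mem_map.1 hg
    exact hH w hw
  have hG := Good.nil.run C hω D.run
  have hf := D.fin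
  simp only [and'_eq, Bool.and_eq_true, beq_iff] at hf
  obtain ⟨b, c⟩ := ncard_cover C hG D.vok
  rw [D.card, hf.2] at c
  exact bd_of_orbit b c (fun g hg => cover C hG D.vok rfl (memN_mem hf.1.1) (eqW_eq hf.1.2) hc hx hg) hb

/-- the word for a list of labels given by words -/
def vW (I : List Nat) (tI : Nat) (l : List (List Nat)) : List Nat :=
  List.rec (motive := fun _ => List Nat) [] (fun w _ ih => cat (cat w (tI :: iw I w)) ih) l

theorem Data.dcos [NeZero P.m] {R' S Xs : List (List Nat)} {I r : List Nat} {L : List Rc} {recs : List Vr}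
    {s n : Nat} (D : Data.{u} P R' S Xs I r L recs s n) {G : Type u} [Group G] {xs : List G}
    (hl : xs.length = I.length) (hR : Rels xs (needR P I R' S Xs r)) (Vs : List (List (List Nat)))
    (hV : allL recs (fun r => and' (rng P.nk (nth [] Vs r.i))
      (eqW (mapL (fun w => fnW P.Ns w 0) (nth [] Vs r.i)) (nth [] P.Ws r.i))) = true) {g : G} (hg : g ∈ cl xs) :
    ∃ i ∈ mapL Vr.i recs, ∃ a ∈ cl ((gensW P.nk).map (ev xs)), ∃ b ∈ cl ((gensW P.nk).map (ev xs)),
      g = a * ev xs (vW I P.tI (nth [] Vs i)) * b := by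
  obtain ⟨kk, hk⟩ := D.set
  obtain ⟨π, T, C, hc, hx, -, hr, hT⟩ := setup P D.univ D.val D.card D.stab hk hl hR
  set H := cl ((gensW P.nk).map (ev xs))
  have hω : ∀ k, π k • ((1 : G) : G ⧸ H) = ((1 : G) : G ⧸ H) := fun k => by
    rw [← mem_stabilizer_iff, stabilizer_quotient, ← hr]; exact ⟨k, rfl⟩
  have hG := Good.nil.run C hω D.run
  have hf := D.fin
  simp only [and'_eq, Bool.and_eq_true, beq_iff] at hf
  obtain ⟨r, hr', k, h⟩ := cover C hG D.vok rfl (memN_mem hf.1.1) (eqW_eq hf.1.2) hc hx hg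
  have h1 := (allL_iff _ _).1 hV r hr'
  rw [and'_eq, Bool.and_eq_true, rng_iff] at h1
  have h2 : ((nth [] P.Ws r.i).map T).prod = ev xs (vW I P.tI (nth [] Vs r.i)) := by
    rw [← eqW_eq h1.2, mapL_eq]
    have h3 := h1.1
    generalize nth [] Vs r.i = l at h3
    induction l with
    | nil => rfl
    | cons w l ih =>
      have : vW I P.tI (w :: l) = cat (cat w (P.tI :: iw I w)) (vW I P.tI l) := rfl
      rw [this, cat_eq, ev_append, ← ih fun x hx => h3 x (List.mem_cons_of_mem _ hx), ← hT w (h3 w List.mem_cons_self)]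
      rfl
  rw [vtx, h2, smul_smul] at h
  refine ⟨r.i, by rw [mapL_eq]; exact List.mem_map_of_mem hr', π k, hr.le ⟨k, rfl⟩,
    (π k * ev xs (vW I P.tI (nth [] Vs r.i)))⁻¹ * g, ?_, by group⟩
  rw [← stabilizer_quotient H, mem_stabilizer_iff, mul_smul, h, inv_smul_smul]

end
end H28.Dc
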