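import Cfsg.Agent.H28.Dc2
/-! Large permutation models: small invariant parts, bases, maximality from double cosets. -/
namespace H28.Dc
open H27 MulAction
noncomputable section
universe u

def gpl (K m k : Nat) : Nat := Nat.land (Nat.shiftRight (idp k K) 1) (ones m)
theorem testBit_gpl {K m : Nat} (hm : m < 2 ^ K) (k i : Nat) :
    (gpl K m k).testBit i = (decide (i < m) && (i + 1).testBit k) := by
  change ((idp k K >>> 1) &&& ones m).testBit i = _
  rw [Nat.testBit_and, Nat.testBit_shiftRight, testBit_idp, add_comm 1 i]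
  by_cases h : i < m
  · simp [h, (testBit_ones m i).2 h, show i + 1 < 2 ^ K by omega]
  · have : (ones m).testBit i = false := by
      rw [← Bool.not_eq_true, testBit_ones]; exact h
    simp [h, this]
def gthChk (K m : Nat) (S N M : Net) : Bool :=
  and' (and' (M.valid m) (blt m (Nat.shiftLeft 1 K))) (allN K fun k => force (gpl K m k) fun P =>
    Nat.beq (S.app (N.app (S.rev.app P))) (M.app P))
/-- `N` acts on the points `S.fn j`, `j < m`, as `M` -/
def Gth (m : Nat) (S N M : Net) : Prop := M.Ok m ∧ ∀ j < m, N.fn (S.fn j) = S.fn (M.fn j)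
theorem gth_of_chk {K n m : Nat} {S N M : Net} (hS : S.Ok n) (hN : N.Ok n) (h : gthChk K m S N M = true) :
    Gth m S N M := by
  simp only [gthChk, and'_eq, Bool.and_eq_true, allN_iff, force_eq, beq_iff, blt_iff] at h
  obtain ⟨⟨h1, h2⟩, h3⟩ := h
  have hM := Net.ok_of_valid h1
  have hm : m < 2 ^ K := by rw [← Nat.one_shiftLeft]; exact h2
  refine ⟨hM, fun j hj => ?_⟩
  have hj' := Net.fn_lt hM hj
  have key : ∀ k < K, (decide (S.rev.fn (N.fn (S.fn j)) < m) && (S.rev.fn (N.fn (S.fn j)) + 1).testBit k) =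
      (M.fn j + 1).testBit k := fun k hk => by
    have := congrArg (fun x => Nat.testBit x j) (h3 k hk)
    simp only [Net.testBit_app hS, Net.testBit_app hN, Net.testBit_app (Net.ok_rev hS), Net.testBit_app hM,
      testBit_gpl hm] at this
    simpa [hj'] using this
  rw [← Net.fn_fn_rev hS (N.fn (S.fn j))]
  congr 1
  by_cases hp : S.rev.fn (N.fn (S.fn j)) < m
  · have := eq_of_testBit_lt (K := K) (a := S.rev.fn (N.fn (S.fn j)) + 1) (b := M.fn j + 1) (by omega) (by omega)
      fun k hk => by simpa [hp] using key k hk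
    omega
  · have := eq_of_testBit_lt (K := K) (a := 0) (b := M.fn j + 1) (by omega) (by omega) fun k hk => by
      simpa [hp] using key k hk
    omega

variable {G Ω : Type*} [Group G] [MulAction G Ω] {n m : Nat} {e : Nat → Ω} {xs : List G} {Ns Ms : List Net}

theorem gather {S : Net} (a : ActsL n e xs Ns) (hS : S.Ok n) (hm : m ≤ n) (h : List.Forall₂ (Gth m S) Ns Ms) :
    ActsL m (fun j => e (S.fn j)) xs Ms := by
  induction a generalizing Ms with
  | nil => cases h; exact .nil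
  | cons a _ ih =>
    cases h with
    | cons b c => exact .cons ⟨b.1, fun j hj => by rw [a.act _ (Net.fn_lt hS (hj.trans_le hm)), b.2 j hj]⟩ (ih c)
omit [Group G] [MulAction G Ω] in
theorem gather_inj {S : Net} (he : Set.InjOn e {j | j < n}) (hS : S.Ok n) (hm : m ≤ n) :
    Set.InjOn (fun j => e (S.fn j)) {j | j < m} := fun _ a _ b h =>
  Net.fn_inj hS (he (Net.fn_lt hS (lt_of_lt_of_le a hm)) (Net.fn_lt hS (lt_of_lt_of_le b hm)) h)

theorem le_card_of_trans [Finite G] (he : Set.InjOn e {j | j < n}) (a : ActsL n e xs Ns) (ht : cl xs = ⊤) (hn : 0 < n)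
    (htr : ∀ j < n, ∃ g : G, g • e 0 = e j) {S : List (List Nat)} (h : fix0Chk Ns S = true)
    (hm : m ≤ Nat.card (cl (S.map (ev xs)))) : n * m ≤ Nat.card G := by
  rw [card_eq_orbit_mul_top (e 0), orbit_ncard_of_trans he a ht hn htr]
  exact Nat.mul_le_mul_left _ (hm.trans (Subgroup.card_le_of_le (words_le_stab a hn h)))

theorem chain_fix {d : Nat} (he : Set.InjOn e {j | j < n}) (hn : n ≤ 2 ^ d)
    (L : List (Nat × Nat × Nat)) {gs : List G} {Ns : List Net} (h : ActsL n e gs Ns) {H : Subgroup G} [Finite H]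
    (hH : ∀ g ∈ gs, g ∈ H) : chain d n L Ns * Nat.card ↥(H ⊓ fixS G (L.map fun l => e l.1)) ≤ Nat.card H := by
  induction L generalizing gs Ns H with
  | nil => rw [List.map_nil, fixS_nil, inf_top_eq]; exact (one_mul _).le
  | cons l L ih =>
    have : chain d n (l :: L) Ns = ite' (and' (Nat.ble (Nat.succ l.1) n) (fixChk (dropL Ns l.2.2) l.1))
      (Nat.mul (pop d n (orb Ns l.2.1 (Nat.shiftLeft 1 l.1))) (chain d n L (dropL Ns l.2.2))) 0 := rfl
    rw [this, ite'_eq]
    split_ifs with hc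
    · simp only [and'_eq, Bool.and_eq_true, Nat.ble_eq, dropL_eq] at hc
      have h' : ActsL n e (gs.drop l.2.2) (Ns.drop l.2.2) := List.forall₂_drop _ h
      have := finite_inf_left H (stabilizer G (e l.1))
      have a := ih h' (H := H ⊓ stabilizer G (e l.1)) fun g hg =>
        ⟨hH g (List.mem_of_mem_drop hg), h'.fix hc.1 hc.2 (mem_cl hg)⟩
      rw [List.map_cons, fixS_cons, inf_comm (fixS _ _), ← inf_assoc, dropL_eq, Nat.mul_eq, mul_assoc,
        card_eq_orbit_mul H (e l.1)]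
      refine Nat.mul_le_mul ?_ a
      rw [← ncard_mset_pop he hn]
      exact Set.ncard_le_ncard (h.mset_orb_subset hH _ hc.1) (Set.finite_range _)
    · simp

theorem base_of_chain {K c : Nat} (he : Set.InjOn e {j | j < n}) (a : ActsL n e xs Ns) [Finite (cl xs)]
    (hc : Nat.card (cl xs) ≤ c) (h0 : 0 < c) (S : List (List Nat × Net)) (sel : List Nat) (L : List (Nat × Nat × Nat))
    (h : and' (Nat.ble n (Nat.shiftLeft 1 K)) (and' (slpChk K n S Ns)
      (Nat.beq (chain K n L (wordN (slpN S Ns) sel)) c)) = true) :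
    ∀ g ∈ cl xs, (∀ l ∈ L, g • e l.1 = e l.1) → g = 1 := by
  simp only [and'_eq, Bool.and_eq_true, Nat.ble_eq] at h
  have := chain_fix he (by rw [← Nat.one_shiftLeft]; exact h.1) L ((a.slp S h.2.1).word sel)
    (H := cl xs) (wordG_mem (slpG_mem S fun _ => mem_cl) sel)
  rw [(beq_iff _ _).1 h.2.2] at this
  replace this := Nat.le_of_mul_le_mul_left (this.trans (hc.trans (mul_one c).ge)) h0
  have hf : Finite ↥(cl xs ⊓ fixS G (L.map fun l => e l.1)) := finite_of_le inf_le_left
  rw [Subgroup.card_le_one_iff_eq_bot] at this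
  intro g hg hl
  rw [← Subgroup.mem_bot, ← this]
  refine ⟨hg, fun x hx => ?_⟩
  obtain ⟨l, hl', rfl⟩ := List.mem_map.1 hx
  exact hl l hl'

/-- the words fix the point `p` -/
def ptChk (Ns : List Net) (W : List (List Nat)) (p : Nat) : Bool := allL W fun w => Nat.beq (fnW Ns w p) p
theorem rels_of_base (a : ActsL n e xs Ns) {B : List Nat} (hB : ∀ g : G, (∀ p ∈ B, g • e p = e p) → g = 1)
    (hn : ∀ p ∈ B, p < n) {W : List (List Nat)} (h : ∀ p ∈ B, ptChk Ns W p = true) : Rels xs W := fun w hw =>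
  hB _ fun p hp => by rw [ev_smul a w (hn p hp), (beq_iff _ _).1 ((allL_iff _ _).1 (h p hp) w hw)]

/-- the word `W` lies in the subgroup, or together with it moves the first point like `t` -/
def mxChk (Ns : List Net) (k t : Nat) (W u : List Nat) : Bool :=
  or' (eqW W []) (Nat.beq (fnW Ns (expand (catL (gensW k) [W]) u) 0) (fnW Ns [t] 0))
theorem coatom_of_dcos (he : Set.InjOn e {j | j < n}) (a : ActsL n e xs Ns) (ht : cl xs = ⊤) (hn : 0 < n) {k t : Nat}
    (hH : stabilizer G (e 0) = cl ((gensW k).map (ev xs))) (h1 : fnW Ns [t] 0 ≠ 0)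
    (hx : ∀ x ∈ xs, x ∈ cl ((gensW k).map (ev xs)) ∨ x = ev xs [t] ∨ x = (ev xs [t])⁻¹) {al : List Nat}
    {W : Nat → List Nat} (hd : ∀ g ∈ cl xs, ∃ i ∈ al, ∃ a ∈ cl ((gensW k).map (ev xs)),
      ∃ b ∈ cl ((gensW k).map (ev xs)), g = a * ev xs (W i) * b)
    (hu : ∀ i ∈ al, ∃ u, mxChk Ns k t (W i) u = true) : IsCoatom (stabilizer G (e 0)) := by
  have hok : ∀ g, (nth .nil Ns g).Ok n := fun g => by rw [nth_eq]; exact (a.getD g).ok
  refine ⟨fun h => h1 (he (fnW_lt hok _ hn) hn ?_), fun M hM => ?_⟩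
  · rw [← ev_smul a _ hn, ← mem_stabilizer_iff, h]; trivial
  obtain ⟨g, hg, hg'⟩ := SetLike.exists_of_lt hM
  obtain ⟨i, hi, b, hb, c, hc, rfl⟩ := hd g (ht ▸ Subgroup.mem_top g)
  obtain ⟨u, hu⟩ := hu i hi
  rw [← hH] at hb hc hx
  rw [mxChk, or'_eq, Bool.or_eq_true, beq_iff] at hu
  rcases hu with hu | hu
  · rw [eqW_eq hu, ev_nil, mul_one] at hg'
    exact absurd (Subgroup.mul_mem _ hb hc) hg'
  have hW : ev xs (W i) ∈ M := by
    have := M.mul_mem (M.mul_mem (M.inv_mem (hM.le hb)) hg) (M.inv_mem (hM.le hc))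
    simpa [mul_assoc] using this
  have h2 : ev xs (expand (catL (gensW k) [W i]) u) ∈ M := by
    rw [← ev_expand]
    refine ev_mem (fun y hy => ?_) u
    rw [catL_eq, List.map_append, List.mem_append] at hy
    rcases hy with hy | hy
    · exact hM.le (hH ▸ mem_cl hy)
    · rw [List.mem_singleton.1 hy]; exact hW
  have h3 : ev xs [t] ∈ M := by
    have : (ev xs (expand (catL (gensW k) [W i]) u))⁻¹ * ev xs [t] ∈ stabilizer G (e 0) := by
      rw [mem_stabilizer_iff, mul_smul, inv_smul_eq_iff, ev_smul a _ hn, ev_smul a _ hn, hu]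
    simpa using M.mul_mem h2 (hM.le this)
  rw [eq_top_iff, ← ht]
  exact cl_le fun x hx' => (hx x hx').elim (fun h => hM.le h) fun h => h.elim (fun h => h ▸ h3) fun h => h ▸ M.inv_mem h3

/-- transitivity in two stages -/
theorem trans_of_orb2 (a : ActsL n e xs Ns) (hn : 0 < n) {k l X : Nat} (h1 : Nat.beq (orb Ns k 1) X = true)
    (h2 : Nat.beq (orb Ns l X) (ones n) = true) : ∀ j < n, ∃ g : G, g • e 0 = e j := by
  rw [beq_iff] at h1 h2
  have hQ : ∀ N ∈ Ns, ∀ j < n, (∃ g : G, g • e 0 = e (N.fn j)) → ∃ g : G, g • e 0 = e j := by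
    rintro N hN j hj ⟨g, hg⟩
    obtain ⟨s, -, b⟩ := a.exists_left hN
    exact ⟨s⁻¹ * g, by rw [mul_smul, hg, ← b.act j hj, inv_smul_smul]⟩
  intro j hj
  refine (orb_ind (fun _ => a.ok) (fun j => ∃ g : G, g • e 0 = e j) hQ l
    (h1 ▸ orb_ind (fun _ => a.ok) (fun j => ∃ g : G, g • e 0 = e j) hQ k fun j hj => ?_) j
    (h2 ▸ (testBit_ones n j).2 hj)).2
  rw [Nat.testBit_one_eq_true_iff_self_eq_zero] at hj
  subst hj
  exact ⟨hn, 1, one_smul _ _⟩

end
end H28.Dc
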