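import Cfsg.Agent.H28.Dc3
import Cfsg.Agent.H29.QM
/-! Certified double coset enumeration over an amalgam: `t` normalises a subgroup of `K`; elements of `K` are codes. -/
namespace H28.Dm
open H27 MulAction H28.Dc
noncomputable section

/-- `b`: `t k • v i = g • v j`; otherwise `v i = g • v j` and `v j = k • v i` -/
structure Fc where
  i : Nat
  b : Bool
  k : Nat
  g : Nat
  j : Nat
structure St where
  op : Nat
  c : Nat
  w : List Nat
structure Rc where
  kd : Nat
  r : Nat
  q : List Nat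
  st : List St
structure Par where
  one : Nat
  mul : Nat → Nat → Nat
  ok : Nat → Bool
  u : Nat
  KL : List Nat
  A : List Nat
  B : List Nat
  RR : List (List Nat)
  Ws : List (List Nat)
  F : List Fc

variable (P : Par)
def get (n c : Nat) : Fc := ite' (blt c n) (nth ⟨0, false, P.one, P.one, 0⟩ P.F c) ⟨0, false, P.one, P.one, 0⟩
def pr (l w : List Nat) : Nat := H29.prodL P.mul P.one (nth P.one l) w
def fm (a b : Nat) (k : Nat → Bool) : Bool := force a fun x => force b fun y => force (P.mul x y) k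
def stepT (w : List Nat) (src key out h q i : Nat) (k : Nat → Bool) : Bool :=
  and' (Nat.beq src i) (fm P h q fun y => fm P (pr P P.A w) key fun z => and' (Nat.beq y z) (fm P (pr P P.B w) out k))
def step (f : Fc) (s : St) (ih : List Nat → Nat → Nat → Bool) (r : List Nat) (q i : Nat) : Bool :=
  ite' (Nat.beq s.op 4)
    (and' (Nat.beq i 0) (List.rec (motive := fun _ => Bool) false (fun _ r' _ => ih r' P.one 1) r))
    (ite' f.b
      (List.rec (motive := fun _ => Bool) false (fun h r' _ => ite' (Nat.beq s.op 2)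
        (stepT P s.w f.i f.k f.g h q i fun q' => ih r' q' f.j)
        (stepT P s.w f.j (P.mul P.u f.g) f.k h q i fun q' => ih r' q' f.i)) r)
      (ite' (Nat.beq s.op 0) (and' (Nat.beq f.i i) (fm P q f.g fun q' => ih r q' f.j))
        (and' (Nat.beq f.j i) (fm P q f.k fun q' => ih r q' f.i))))
def walk (n : Nat) (kont : List Nat → Nat → Nat → Bool) (st : List St) : List Nat → Nat → Nat → Bool :=
  List.rec (motive := fun _ => List Nat → Nat → Nat → Bool) kont (fun s _ ih => step P (get P n s.c) s ih) st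
def code (n c : Nat) : Nat :=
  ite' (Nat.beq (Nat.land c 3) 0) (nth P.one P.KL (Nat.shiftRight c 2))
    (ite' (Nat.beq (Nat.land c 3) 1) (get P n (Nat.shiftRight c 2)).k
      (ite' (Nat.beq (Nat.land c 3) 2) (get P n (Nat.shiftRight c 2)).g (nth P.one P.A (Nat.shiftRight c 2))))
def chk1 (n : Nat) (f : Fc) (x : Rc) (q0 : Nat) : Bool :=
  ite' f.b
    (ite' (Nat.beq x.kd 1)
      (and' (Nat.beq f.g q0) (walk P n (fun r q j => and' (Nat.beq j f.i) 
        (and' (eqW r [hd r]) (Nat.beq f.k (P.mul (hd r) q)))) x.st (nth [] P.RR x.r) q0 f.j))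
      (and' (and' (Nat.beq f.k q0) (Nat.beq f.g P.one)) (eqW (nth [] P.Ws f.j) (f.k :: nth [] P.Ws f.i))))
    (and' (and' (P.ok f.g) (P.ok f.k)) (walk P n (fun r q j => and' (and' (eqW r []) (Nat.beq j f.j))
      (and' (Nat.beq (P.mul q0 f.g) q) (Nat.beq (P.mul q f.k) q0))) x.st (nth [] P.RR x.r) q0 f.i))
def chk (n : Nat) (x : Rc) : Bool :=
  force (H29.prodL P.mul P.one (code P n) x.q) (chk1 P n (get P (Nat.succ n) n) x)
def run (L : List Rc) : Nat → Bool :=
  List.rec (motive := fun _ => Nat → Bool) (fun _ => true) (fun x _ ih n => and' (chk P n x) (ih (Nat.succ n))) L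

variable {G Ω : Type*} [Group G] [MulAction G Ω]

/-- the product of a relator, first letter applied first -/
def prodR (φ : Nat → G) (t : G) : List Nat → G
  | [] => 1
  | a :: s => prodR φ t s * (t * φ a)

structure Ctx (V : Nat → Prop) (φ : Nat → G) (t : G) (ω : Ω) : Prop where
  V1 : V P.one
  φ1 : φ P.one = 1
  Vm : ∀ {a b}, V a → V b → V (P.mul a b)
  φm : ∀ {a b}, V a → V b → φ (P.mul a b) = φ a * φ b
  div : ∀ {a c}, P.ok c = true → V a → V (P.mul a c) → V c
  Vu : V P.u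
  hu : t * φ P.u * t = 1
  KL : ∀ c ∈ P.KL, V c
  AB : ∀ a, V (nth P.one P.A a) ∧ V (nth P.one P.B a) ∧ t * φ (nth P.one P.A a) = φ (nth P.one P.B a) * t
  rel : ∀ r ∈ P.RR, (∀ c ∈ r, V c) ∧ prodR φ t r = 1
  fix : ∀ c, V c → φ c • ω = ω
  W0 : nth [] P.Ws 0 = []
  W1 : nth [] P.Ws 1 = [P.one]

def wv (φ : Nat → G) (t : G) (i : Nat) : G := ((nth [] P.Ws i).map fun c => t * φ c).prod
def Fc.Ok (V : Nat → Prop) (φ : Nat → G) (t : G) (ω : Ω) (f : Fc) : Prop :=
  V f.k ∧ V f.g ∧ (f.b = true → (t * φ f.k) • wv P φ t f.i • ω = φ f.g • wv P φ t f.j • ω) ∧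
    (f.b = false → wv P φ t f.i • ω = φ f.g • wv P φ t f.j • ω ∧ wv P φ t f.j • ω = φ f.k • wv P φ t f.i • ω)
def Good (V : Nat → Prop) (φ : Nat → G) (t : G) (ω : Ω) (n : Nat) : Prop := ∀ c, (get P n c).Ok P V φ t ω

variable {P} {V : Nat → Prop} {φ : Nat → G} {t : G} {ω : Ω}

theorem fm_eq (a b : Nat) (k : Nat → Bool) : fm P a b k = k (P.mul a b) := by simp only [fm, force_eq]
theorem Ctx.prodL (C : Ctx P V φ t ω) {f : Nat → Nat} (h : ∀ a, V (f a)) (w : List Nat) :
    V (H29.prodL P.mul P.one f w) := by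
  induction w with
  | nil => exact C.V1
  | cons a s ih => exact C.Vm (h a) ih
theorem Ctx.pair (C : Ctx P V φ t ω) (w : List Nat) :
    V (pr P P.A w) ∧ V (pr P P.B w) ∧ t * φ (pr P P.A w) = φ (pr P P.B w) * t := by
  induction w with
  | nil => exact ⟨C.V1, C.V1, by change t * φ P.one = φ P.one * t; rw [C.φ1]; simp⟩
  | cons a s ih =>
    obtain ⟨a1, a2, a3⟩ := C.AB a
    refine ⟨C.Vm a1 ih.1, C.Vm a2 ih.2.1, ?_⟩
    change t * φ (P.mul _ (pr P P.A s)) = φ (P.mul _ (pr P P.B s)) * t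
    rw [C.φm a1 ih.1, C.φm a2 ih.2.1, ← mul_assoc, a3, mul_assoc, ih.2.2, mul_assoc]
theorem Ctx.rev (C : Ctx P V φ t ω) {k g : Nat} {x y : Ω} (hg : V g) (h : (t * φ k) • x = φ g • y) :
    (t * φ (P.mul P.u g)) • y = φ k • x := by
  rw [C.φm C.Vu hg, ← mul_assoc, mul_smul, ← h, smul_smul, ← mul_assoc, C.hu, one_mul]
theorem stepT_spec (C : Ctx P V φ t ω) {w : List Nat} {src key out h q i : Nat} {k : Nat → Bool} {y : Ω}
    (e : stepT P w src key out h q i k = true) (h1 : V key) (h2 : V out) (hh : V h) (hq : V q)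
    (h3 : (t * φ key) • wv P φ t src • ω = φ out • y) :
    ∃ q', V q' ∧ k q' = true ∧ (t * φ h) • φ q • wv P φ t i • ω = φ q' • y := by
  simp only [stepT, fm_eq, and'_eq, Bool.and_eq_true, beq_iff] at e
  obtain ⟨a1, a2, a3⟩ := C.pair w
  refine ⟨_, C.Vm a2 h2, e.2.2, ?_⟩
  rw [smul_smul, mul_assoc, ← C.φm hh hq, e.2.1, C.φm a1 h1, ← mul_assoc, a3, mul_assoc, mul_smul, ← e.1, h3,
    C.φm a2 h2, mul_smul]

theorem walk_spec (C : Ctx P V φ t ω) {n : Nat} (hG : Good P V φ t ω n) {kont : List Nat → Nat → Nat → Bool}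
    (st : List St) {r : List Nat} {q i : Nat} (h : walk P n kont st r q i = true) (hr : ∀ c ∈ r, V c) (hq : V q) :
    ∃ r' q' i', (∀ c ∈ r', V c) ∧ V q' ∧ kont r' q' i' = true ∧
      prodR φ t r • φ q • wv P φ t i • ω = prodR φ t r' • φ q' • wv P φ t i' • ω := by
  induction st generalizing r q i with
  | nil => exact ⟨r, q, i, hr, hq, h, rfl⟩
  | cons s st ih =>
    have h' : step P (get P n s.c) s (walk P n kont st) r q i = true := h
    obtain ⟨f1, f2, f3, f4⟩ := hG s.c
    generalize get P n s.c = f at h' f1 f2 f3 f4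
    rw [step, ite'_eq, ite'_eq, ite'_eq] at h'
    split_ifs at h' with h1 h2 h3
    · rw [and'_eq, Bool.and_eq_true, beq_iff] at h'
      cases r with
      | nil => cases h'.2
      | cons a r =>
        obtain ⟨r', q', i', b1, b2, b3, b4⟩ := ih (r := r) h'.2 (fun c hc => hr c (List.mem_cons_of_mem _ hc)) C.V1
        refine ⟨r', q', i', b1, b2, b3, ?_⟩
        rw [← b4, h'.1, prodR, mul_smul, mul_smul]
        simp only [wv, C.W0, C.W1, C.φ1, List.map_nil, List.prod_nil, one_smul, List.map_cons, List.prod_cons, mul_one,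
          C.fix q hq, C.fix a (hr a List.mem_cons_self)]
    · cases r with
      | nil => cases h'
      | cons a r =>
        have ha := hr a List.mem_cons_self
        have h4 : ite' (Nat.beq s.op 2) (stepT P s.w f.i f.k f.g a q i fun q' => walk P n kont st r q' f.j)
          (stepT P s.w f.j (P.mul P.u f.g) f.k a q i fun q' => walk P n kont st r q' f.i) = true := h'
        rw [ite'_eq] at h4
        split_ifs at h4
        · obtain ⟨q1, c1, c2, c3⟩ := stepT_spec C h4 f1 f2 ha hq (f3 h2)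
          obtain ⟨r', q', i', b1, b2, b3, b4⟩ := ih c2 (fun c hc => hr c (List.mem_cons_of_mem _ hc)) c1
          exact ⟨r', q', i', b1, b2, b3, by rw [← b4, prodR, mul_smul, c3]⟩
        · obtain ⟨q1, c1, c2, c3⟩ := stepT_spec C h4 (C.Vm C.Vu f2) f1 ha hq (C.rev f2 (f3 h2))
          obtain ⟨r', q', i', b1, b2, b3, b4⟩ := ih c2 (fun c hc => hr c (List.mem_cons_of_mem _ hc)) c1
          exact ⟨r', q', i', b1, b2, b3, by rw [← b4, prodR, mul_smul, c3]⟩
    · rw [and'_eq, Bool.and_eq_true, beq_iff, fm_eq] at h'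
      obtain ⟨r', q', i', b1, b2, b3, b4⟩ := ih h'.2 hr (C.Vm hq f2)
      exact ⟨r', q', i', b1, b2, b3, by rw [← b4, C.φm hq f2, mul_smul, ← (f4 (by simpa using h2)).1, h'.1]⟩
    · rw [and'_eq, Bool.and_eq_true, beq_iff, fm_eq] at h'
      obtain ⟨r', q', i', b1, b2, b3, b4⟩ := ih h'.2 hr (C.Vm hq f1)
      exact ⟨r', q', i', b1, b2, b3, by rw [← b4, C.φm hq f1, mul_smul, ← (f4 (by simpa using h2)).2, h'.1]⟩

theorem Ctx.nthV (C : Ctx P V φ t ω) {l : List Nat} (h : ∀ c ∈ l, V c) (i : Nat) : V (nth P.one l i) :=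
  (nth_mem_or P.one l i).elim (h _) fun e => e.symm ▸ C.V1
theorem chk_spec (C : Ctx P V φ t ω) {n : Nat} (hG : Good P V φ t ω n) {x : Rc} (h : chk P n x = true) :
    (get P (n + 1) n).Ok P V φ t ω := by
  rw [chk, force_eq] at h
  have hq : V (H29.prodL P.mul P.one (code P n) x.q) := C.prodL (fun c => by
    rw [code, ite'_eq, ite'_eq, ite'_eq]
    split_ifs
    exacts [C.nthV C.KL _, (hG _).1, (hG _).2.1, (C.AB _).1]) _
  generalize H29.prodL P.mul P.one (code P n) x.q = q0 at h hq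
  change chk1 P n (get P (n + 1) n) x q0 = true at h
  generalize get P (n + 1) n = f at h
  have hr : (∀ c ∈ nth [] P.RR x.r, V c) ∧ prodR φ t (nth [] P.RR x.r) = 1 :=
    (nth_mem_or [] P.RR x.r).elim (C.rel _) fun e => e.symm ▸ ⟨fun _ h => (by cases h), rfl⟩
  rw [chk1, ite'_eq, ite'_eq] at h
  split_ifs at h with h1 h2
  · rw [and'_eq, Bool.and_eq_true, beq_iff] at h
    obtain ⟨r, q, j, b1, b2, b3, b4⟩ := walk_spec C hG _ h.2 hr.1 hq
    simp only [and'_eq, Bool.and_eq_true, beq_iff] at b3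
    have e := eqW_eq b3.2.1
    have ha : V (hd r) := b1 _ (by rw [e]; exact List.mem_cons_self)
    refine ⟨b3.2.2 ▸ C.Vm ha b2, h.1 ▸ hq, fun _ => ?_, fun h => by simp [h] at h1⟩
    rw [hr.2, one_smul, (congrArg (prodR φ t) e).trans (one_mul _), b3.1] at b4
    rw [h.1, b4, b3.2.2, C.φm ha b2, smul_smul (t * φ (hd r)), mul_assoc]
  · simp only [and'_eq, Bool.and_eq_true, beq_iff] at h
    refine ⟨h.1.1 ▸ hq, h.1.2 ▸ C.V1, fun _ => ?_, fun h => by simp [h] at h1⟩
    rw [h.1.2, C.φ1, one_smul, wv, wv, eqW_eq h.2, List.map_cons, List.prod_cons, mul_smul (t * _)]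
  · simp only [and'_eq, Bool.and_eq_true] at h
    obtain ⟨r, q, j, -, b2, b3, b4⟩ := walk_spec C hG _ h.2 hr.1 hq
    simp only [Bool.and_eq_true, beq_iff] at b3
    have vg := C.div h.1.1 hq (b3.2.1 ▸ b2)
    have vk := C.div h.1.2 b2 (b3.2.2 ▸ hq)
    rw [hr.2, one_smul, eqW_eq b3.1.1, prodR, one_smul, b3.1.2] at b4
    refine ⟨vk, vg, fun h => absurd h h1, fun _ => ⟨smul_left_cancel (φ q0) ?_, smul_left_cancel (φ q) ?_⟩⟩
    · rw [b4, ← b3.2.1, C.φm hq vg, mul_smul]
    · rw [← b4, smul_smul (φ q), ← C.φm b2 vk, b3.2.2]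

theorem Good.zero (C : Ctx P V φ t ω) : Good P V φ t ω 0 := fun c => by
  rw [get, show blt c 0 = false from rfl]
  exact ⟨C.V1, C.V1, fun h => (by cases h), fun _ => by simp [C.φ1]⟩
theorem Good.run (C : Ctx P V φ t ω) {L : List Rc} {n : Nat} (hG : Good P V φ t ω n) (h : run P L n = true) :
    Good P V φ t ω (n + L.length) := by
  induction L generalizing n with
  | nil => exact hG
  | cons x s ih =>
    have h' : and' (chk P n x) (Dm.run P s (n + 1)) = true := h
    rw [and'_eq, Bool.and_eq_true] at h'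
    rw [List.length_cons, ← Nat.add_assoc, Nat.add_right_comm]
    refine ih (fun c => ?_) h'.2
    rcases lt_trichotomy c n with a | rfl | a
    · have := hG c
      rwa [get, blt_iff.2 a, ← blt_iff.2 (Nat.lt_succ_of_lt a)] at this
    · exact chk_spec C hG h'.1
    · have := Good.zero C c
      rwa [get, show blt c 0 = blt c (n + 1) from by
        rw [show blt c 0 = false from rfl, eq_comm, ← Bool.not_eq_true, blt_iff]; omega] at this

end
end H28.Dm
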