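import Cfsg.Agent.H28.Dm1
/-! Certified double coset enumeration over an amalgam: closure, counting and the set-up from a presentation. -/
namespace H28.Dm
open H27 MulAction H28.Dc
noncomputable section
universe u

structure Vr where
  i : Nat
  S : List (Nat × List Nat)
  E : List (Nat × List Nat)
  k : Nat
  c : Nat
/-- the words behind the codes -/
structure Sp where
  m : Nat
  Ns : List Net
  nk : Nat
  tI : Nat
  TI : Nat
  I : List Nat
  kc : List Nat
  PW : List (List Nat × List Nat)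
  uw : List Nat
  KW : List (List Nat)
  RW : List (List (List Nat))
  Xs : List (List Nat)

variable (P : Par) (Q : Sp)
def eChk (al : List Nat) (i src dst key : Nat) (w : List Nat) : Bool :=
  and' (and' (Nat.beq src i) (memN al dst)) (fm P key (pr P Q.kc w) (Nat.beq P.one))
def vchk (n : Nat) (al : List Nat) (r : Vr) : Bool :=
  and' (and' (allL r.S fun s => and' (and' (Nat.beq (get P n s.1).i r.i) (Nat.beq (get P n s.1).j r.i))
      (and' (ite' (get P n s.1).b false true) (Nat.beq (get P n s.1).g (pr P Q.kc s.2))))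
    (allL r.E fun s => and' (get P n (Nat.shiftRight s.1 1)).b (ite' (Nat.beq (Nat.land s.1 1) 0)
      (eChk P Q al r.i (get P n (Nat.shiftRight s.1 1)).i (get P n (Nat.shiftRight s.1 1)).j
        (get P n (Nat.shiftRight s.1 1)).k s.2)
      (eChk P Q al r.i (get P n (Nat.shiftRight s.1 1)).j (get P n (Nat.shiftRight s.1 1)).i
        (P.mul P.u (get P n (Nat.shiftRight s.1 1)).g) s.2))))
    (and' (blt 0 r.c)
      (Nat.beq (orb (mapL (catN Q.Ns) (mapL Prod.snd r.S)) r.k (orL (mapL (fun s => fnW Q.Ns s.2 0) r.E))) (ones Q.m)))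

/-- codes for the elements of `K` -/
structure KD {K : Type*} [Group K] (V : Nat → Prop) (el : Nat → K) (ks : List K) : Prop where
  V1 : V P.one
  el1 : el P.one = 1
  Vm : ∀ {a b}, V a → V b → V (P.mul a b)
  elm : ∀ {a b}, V a → V b → el (P.mul a b) = el a * el b
  div : ∀ {a c}, P.ok c = true → V a → V (P.mul a c) → V c
  gen : ∀ a, V (nth P.one Q.kc a) ∧ el (nth P.one Q.kc a) = ks.getD a 1

section
variable {K G Λ Ω : Type*} [Group K] [Group G] [MulAction K Λ] [MulAction G Ω]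
variable {P Q} {V : Nat → Prop} {el : Nat → K} {e : Nat → Λ} {ks : List K} {π : K →* G} {t : G} {ω : Ω} {n : Nat}
  {al : List Nat}

theorem KD.pr (D : KD P Q V el ks) (w : List Nat) : V (pr P Q.kc w) ∧ el (pr P Q.kc w) = ev ks w := by
  induction w with
  | nil => exact ⟨D.V1, D.el1⟩
  | cons a s ih => exact ⟨D.Vm (D.gen a).1 ih.1, by
      rw [ev_cons, ← ih.2, ← (D.gen a).2]; exact D.elm (D.gen a).1 ih.1⟩

theorem v_stab (D : KD P Q V el ks) (hG : Good P V (fun c => π (el c)) t ω n) {r : Vr}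
    (h : vchk P Q n al r = true) : ∀ g ∈ (mapL Prod.snd r.S).map (ev ks),
      π g • wv P (fun c => π (el c)) t r.i • ω = wv P (fun c => π (el c)) t r.i • ω := by
  simp only [vchk, and'_eq, Bool.and_eq_true, allL_iff, beq_iff] at h
  intro g hg
  rw [mapL_eq, List.map_map] at hg
  obtain ⟨s, hs, rfl⟩ := List.mem_map.1 hg
  obtain ⟨⟨h1, h2⟩, h3, h4⟩ := h.1.1 s hs
  have := ((hG s.1).2.2.2 (by revert h3; cases (get P n s.1).b <;> simp)).1
  rw [h1, h2, h4] at this
  simp only [(D.pr _).2] at this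
  exact this.symm

theorem v_ent (D : KD P Q V el ks) (C : Ctx P V (fun c => π (el c)) t ω) (hG : Good P V (fun c => π (el c)) t ω n)
    (a : ActsL Q.m e ks Q.Ns) (top : cl ks = ⊤) (h0 : 0 < Q.m)
    (hS : ∀ s ∈ stabilizer K (e 0), ∃ s', t * π s = π s' * t) {r : Vr}
    (h : vchk P Q n al r = true) (y : K) :
    ∃ j ∈ al, ∃ k, (t * π y) • wv P (fun c => π (el c)) t r.i • ω = π k • wv P (fun c => π (el c)) t j • ω := by
  have hs := v_stab D hG h
  have b := actsL_catN a (mapL Prod.snd r.S)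
  simp only [vchk, and'_eq, Bool.and_eq_true, allL_iff, beq_iff] at h
  obtain ⟨l, hl, e1⟩ := a.closed (g := y⁻¹) (top ▸ Subgroup.mem_top _) h0
  refine (orb_ind (n := Q.m) (fun _ => b.ok) (fun l => ∀ y : K, y⁻¹ • e 0 = e l → ∃ j ∈ al, ∃ k,
    (t * π y) • wv P (fun c => π (el c)) t r.i • ω = π k • wv P (fun c => π (el c)) t j • ω) ?_ r.k
    ?_ l (h.2.2 ▸ (testBit_ones _ _).2 hl)).2 y e1
  · rintro N hN l hl ih y hy
    obtain ⟨g, hg, c⟩ := b.exists_left hN
    obtain ⟨j, hj, k, hk⟩ := ih (y * g⁻¹) (by rw [mul_inv_rev, inv_inv, mul_smul, hy, c.act l hl])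
    refine ⟨j, hj, k, ?_⟩
    rw [← hk, ← hs g hg, smul_smul (t * π (y * g⁻¹)), hs g hg, mul_assoc, ← map_mul, inv_mul_cancel_right]
  · intro l hl
    rw [testBit_orL, mapL_eq] at hl
    obtain ⟨s, hs, rfl⟩ := List.mem_map.1 hl
    have hok : ∀ g, (nth .nil Q.Ns g).Ok Q.m := fun g => by rw [nth_eq]; exact (a.getD g).ok
    refine ⟨fnW_lt hok _ h0, fun y hy => ?_⟩
    have key : ∀ {src dst key out : Nat}, eChk P Q al r.i src dst key s.2 = true → V key →
        (t * π (el key)) • wv P (fun c => π (el c)) t src • ω = π (el out) • wv P (fun c => π (el c)) t dst • ω →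
        ∃ j ∈ al, ∃ k, (t * π y) • wv P (fun c => π (el c)) t r.i • ω = π k • wv P (fun c => π (el c)) t j • ω := by
      intro src dst key out h1 h2 h3
      simp only [eChk, fm_eq, and'_eq, Bool.and_eq_true, beq_iff] at h1
      have h4 := D.elm h2 (D.pr s.2).1
      rw [← h1.2, D.el1, (D.pr _).2] at h4
      obtain ⟨s', h5⟩ := hS (y * ev ks s.2) (by
        rw [mem_stabilizer_iff, mul_smul, ev_smul a _ h0, ← hy, smul_inv_smul])
      refine ⟨dst, memN_mem h1.1.2, s' * el out, ?_⟩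
      rw [map_mul, mul_smul (π s'), ← h3, h1.1.1, smul_smul (π s'), ← mul_assoc, ← h5, mul_assoc, ← map_mul, mul_assoc,
        mul_eq_one_comm.1 h4.symm, mul_one]
    obtain ⟨h1, h2⟩ := h.1.2 s hs
    obtain ⟨f1, f2, f3, -⟩ := hG (Nat.shiftRight s.1 1)
    rw [ite'_eq] at h2
    split_ifs at h2
    exacts [key h2 f1 (f3 h1), key h2 (C.Vm C.Vu f2) (C.rev f2 (f3 h1))]

theorem cover (D : KD P Q V el ks) (C : Ctx P V (fun c => π (el c)) t ω) (hG : Good P V (fun c => π (el c)) t ω n)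
    (a : ActsL Q.m e ks Q.Ns) (top : cl ks = ⊤) (h0 : 0 < Q.m) (hω : ∀ k, π k • ω = ω)
    (hS : ∀ s ∈ stabilizer K (e 0), ∃ s', t * π s = π s' * t) {recs : List Vr}
    (h : ∀ r ∈ recs, vchk P Q n (0 :: mapL Vr.i recs) r = true) (h1 : 1 ∈ mapL Vr.i recs) {g : G}
    (hg : g ∈ Subgroup.closure (insert t (π.range : Set G))) :
    g • ω = ω ∨ ∃ r ∈ recs, ∃ k, g • ω = π k • wv P (fun c => π (el c)) t r.i • ω := by
  let Y : Ω → Prop := fun y => y = ω ∨ ∃ r ∈ recs, ∃ k, y = π k • wv P (fun c => π (el c)) t r.i • ω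
  have hal : ∀ j ∈ 0 :: mapL Vr.i recs, ∀ k, Y (π k • wv P (fun c => π (el c)) t j • ω) := fun j hj k => by
    rcases List.mem_cons.1 hj with rfl | hj
    · exact Or.inl (by simp [wv, C.W0, hω])
    · rw [mapL_eq] at hj
      obtain ⟨r, hr, rfl⟩ := List.mem_map.1 hj
      exact Or.inr ⟨r, hr, k, rfl⟩
  have hK : ∀ k y, Y y → Y (π k • y) := by
    rintro k _ (rfl | ⟨r, hr, k', rfl⟩)
    exacts [Or.inl (hω k), Or.inr ⟨r, hr, k * k', by rw [map_mul, mul_smul]⟩]
  have hT : ∀ y, Y y → Y (t • y) := by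
    rintro _ (rfl | ⟨r, hr, k, rfl⟩)
    · simpa [wv, C.W1, D.el1] using hal 1 (List.mem_cons_of_mem _ h1) 1
    · obtain ⟨j, hj, k', h2⟩ := v_ent D C hG a top h0 hS (h r hr) k
      rw [← mul_smul, h2]; exact hal j hj k'
  have ht : t⁻¹ = π (el P.u) * t := inv_eq_of_mul_eq_one_right (by rw [← mul_assoc]; exact C.hu)
  suffices ∀ y, Y y → Y (g • y) from this ω (Or.inl rfl)
  induction hg using Subgroup.closure_induction'' with
  | one => simp
  | mem g hg =>
    rcases hg with rfl | ⟨k, rfl⟩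
    exacts [hT, hK k]
  | inv_mem g hg =>
    rcases hg with rfl | ⟨k, rfl⟩
    · exact fun y hy => by rw [ht, mul_smul]; exact hK _ _ (hT y hy)
    · exact map_inv π k ▸ hK k⁻¹
  | mul a b _ _ iha ihb => exact fun y hy => mul_smul a b y ▸ iha _ (ihb y hy)

theorem ncard_cover [Finite K] (D : KD P Q V el ks) (hG : Good P V (fun c => π (el c)) t ω n) {recs : List Vr}
    (h : ∀ r ∈ recs, vchk P Q n al r = true ∧ r.c ≤ Nat.card (cl ((mapL Prod.snd r.S).map (ev ks)))) :
    {y | y = ω ∨ ∃ r ∈ recs, ∃ k, y = π k • wv P (fun c => π (el c)) t r.i • ω}.Finite ∧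
      {y | y = ω ∨ ∃ r ∈ recs, ∃ k, y = π k • wv P (fun c => π (el c)) t r.i • ω}.ncard ≤
        (recs.map fun r => Nat.card K / r.c).sum + 1 := by
  induction recs with
  | nil => simp
  | cons r s ih =>
    obtain ⟨a, b⟩ := ih fun x hx => h x (List.mem_cons_of_mem _ hx)
    have : {y | y = ω ∨ ∃ r' ∈ r :: s, ∃ k, y = π k • wv P (fun c => π (el c)) t r'.i • ω} =
        (Set.range fun k => π k • wv P (fun c => π (el c)) t r.i • ω) ∪
          {y | y = ω ∨ ∃ r ∈ s, ∃ k, y = π k • wv P (fun c => π (el c)) t r.i • ω} := by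
      ext y; simp [eq_comm, or_left_comm]
    rw [this, List.map_cons, List.sum_cons, Nat.add_assoc]
    refine ⟨(Set.finite_range _).union a, (Set.ncard_union_le _ _).trans (Nat.add_le_add ?_ b)⟩
    obtain ⟨h1, h2⟩ := h r List.mem_cons_self
    have h3 := card_eq_orbit_mul_top (G := K) (Ω := Via π Ω) (wv P (fun c => π (el c)) t r.i • ω : Ω)
    have h4 : cl _ ≤ stabilizer K (α := Via π Ω) (wv P (fun c => π (el c)) t r.i • ω : Ω) := cl_le (v_stab D hG h1)
    simp only [vchk, and'_eq, Bool.and_eq_true, blt_iff] at h1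
    rw [Nat.le_div_iff_mul_le h1.2.1, h3]
    exact Nat.mul_le_mul_left _ (h2.trans (Subgroup.card_le_of_le h4))
end

def rw (tI : Nat) (r : List (List Nat)) : List Nat :=
  List.rec (motive := fun _ => List Nat) [] (fun a _ ih => cat ih (tI :: a)) r
def eqLL (a : List (List Nat)) : List (List Nat) → Bool :=
  List.rec (motive := fun _ => List (List Nat) → Bool)
    (fun b => List.rec (motive := fun _ => Bool) true (fun _ _ _ => false) b)
    (fun x _ ih b => List.rec (motive := fun _ => Bool) false (fun y s _ => and' (eqW x y) (ih s)) b) a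
theorem eqLL_eq {a b : List (List Nat)} (h : eqLL a b = true) : a = b := by
  induction a generalizing b with
  | nil => cases b with
    | nil => rfl
    | cons => cases h
  | cons x t ih => cases b with
    | nil => cases h
    | cons y s =>
      have : and' (eqW x y) (eqLL t s) = true := h
      rw [and'_eq, Bool.and_eq_true] at this
      rw [eqW_eq this.1, ih this.2]
def needR (R' : List (List Nat)) : List (List Nat) :=
  catL (catL (invR Q.I) (expL (gensW Q.nk) R'))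
    (catL (catL (mapL (fun s => cat (Q.tI :: s.1) (Q.TI :: iw Q.I s.2)) Q.PW)
      ([Q.tI, Q.TI] :: cat (Q.tI :: Q.uw) [Q.tI] ::
        mapL (fun a => a :: iw Q.I (nth [] Q.Xs a)) (List.range Q.I.length))) (mapL (rw Q.tI) Q.RW))
def setChk (kk : Nat) : Bool :=
  and' (and' (and' (transChk Q.m Q.Ns kk) (fix0Chk Q.Ns (mapL Prod.fst Q.PW)))
      (and' (and' (rng Q.nk (Q.uw :: mapL Prod.fst Q.PW)) (rng Q.nk (mapL Prod.snd Q.PW))) (allL Q.RW (rng Q.nk))))
    (and' (and' (and' (eqW P.A (mapL (fun s => pr P Q.kc s.1) Q.PW)) (eqW P.B (mapL (fun s => pr P Q.kc s.2) Q.PW)))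
        (and' (eqW P.KL (mapL (pr P Q.kc) Q.KW)) (and' (Nat.beq P.u (pr P Q.kc Q.uw))
          (eqLL P.RR (mapL (mapL (pr P Q.kc)) Q.RW)))))
      (and' (and' (eqW (nth [] P.Ws 0) []) (eqW (nth [] P.Ws 1) [P.one]))
        (allN Q.I.length fun a => allL (nth [] Q.Xs a) fun g =>
          or' (blt g Q.nk) (or' (Nat.beq g Q.tI) (Nat.beq g Q.TI)))))

theorem Univ.homL {M : Type} [Group M] {ys : List M} {R : List (List Nat)} (a : Univ.{u} R ys) {G : Type u} [Group G]
    {xs : List G} (hl : xs.length = ys.length) (r : Rels xs R) : ∃ π : cl ys →* G, (subL ys).map π = xs := by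
  obtain ⟨π, h⟩ := a.hom hl r
  refine ⟨π, List.ext_getElem (by simp [subL, hl]) fun i h1 h2 => ?_⟩
  simp only [subL, List.getElem_map, List.getElem_range]
  rw [h, ev_single, List.getD_eq_getElem _ _ h2]

/-- all the data of an enumeration -/
structure Data {M Λ : Type} [Group M] (ys : List M) [MulAction (cl ys) Λ] (e : Nat → Λ) (V : Nat → Prop)
    (el : Nat → cl ys) (R' : List (List Nat)) (L : List Rc) (recs : List Vr) (s n : Nat) : Prop where
  univ : Univ.{u} R' ys
  len : ys.length = Q.nk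
  kd : KD P Q V el (subL ys)
  acts : ActsL Q.m e (subL ys) Q.Ns
  inj : Set.InjOn e {j | j < Q.m}
  pos : 0 < Q.m * s
  card : Nat.card (cl ys) = Q.m * s
  stab : s ≤ Nat.card (cl ((mapL Prod.fst Q.PW).map (ev (subL ys))))
  set : ∃ kk, setChk P Q kk = true
  run : run P L 0 = true
  vok : ∀ r ∈ recs, vchk P Q L.length (0 :: mapL Vr.i recs) r = true ∧
    r.c ≤ Nat.card (cl ((mapL Prod.snd r.S).map (ev (subL ys))))
  fin : and' (memN (mapL Vr.i recs) 1) (Nat.beq ((recs.map fun r => Q.m * s / r.c).sum + 1) n) = true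

variable {P Q} {M Λ : Type} [Group M] {ys : List M} [MulAction (cl ys) Λ] {e : Nat → Λ} {V : Nat → Prop}
  {el : Nat → cl ys} {R R' : List (List Nat)} {L : List Rc} {recs : List Vr} {s n : Nat}

theorem Data.main (D : Data.{u} P Q ys e V el R' L recs s n) {G : Type u} [Group G] {xs : List G}
    (hl : xs.length = Q.I.length) (hR : Rels xs (needR Q R')) {H : Subgroup G} (hH : ∀ w ∈ gensW Q.nk, ev xs w ∈ H) :
    ∃ π : cl ys →* G, (subL ys).map π = (gensW Q.nk).map (ev xs) ∧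
      Good P V (fun c => π (el c)) (xs.getD Q.tI 1) ((1 : G) : G ⧸ H) L.length ∧ ∀ g ∈ cl xs,
        g • ((1 : G) : G ⧸ H) = ((1 : G) : G ⧸ H) ∨ ∃ r ∈ recs, ∃ k, g • ((1 : G) : G ⧸ H) =
          π k • wv P (fun c => π (el c)) (xs.getD Q.tI 1) r.i • ((1 : G) : G ⧸ H) := by
  obtain ⟨kk, h⟩ := D.set
  simp only [setChk, and'_eq, or'_eq, Bool.and_eq_true, Bool.or_eq_true, beq_iff, allN_iff, allL_iff, rng_iff,
    blt_iff, mapL_eq] at h
  obtain ⟨⟨⟨h1, h2⟩, ⟨h3, h4⟩, h5⟩, ⟨⟨h6, h7⟩, h8, h9, h10⟩, ⟨h11, h12⟩, h13⟩ := h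
  simp only [needR, catL_eq, mapL_eq, cat_eq] at hR
  have hi := ev_iw hl hR.left.left
  obtain ⟨π, hπ⟩ := Univ.homL D.univ (xs := (gensW Q.nk).map (ev xs)) (by simp [gensW, D.len])
    (rels_expL.1 hR.left.right)
  have hπ' : ∀ w, (∀ g ∈ w, g < Q.nk) → π (el (pr P Q.kc w)) = ev xs w := fun w hw => by
    rw [(D.kd.pr w).2, ← ev_map, hπ, ev_expand_gens xs hw]
  have hr : π.range = cl ((gensW Q.nk).map (ev xs)) := by rw [range_eq_cl π (cl_subL _), hπ]
  have hω : ∀ k, π k • ((1 : G) : G ⧸ H) = ((1 : G) : G ⧸ H) := fun k => by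
    rw [← mem_stabilizer_iff, stabilizer_quotient]
    refine cl_le (fun g hg => ?_) (hr.le ⟨k, rfl⟩)
    obtain ⟨w, hw, rfl⟩ := List.mem_map.1 hg
    exact hH w hw
  have hT : xs.getD Q.TI 1 = (xs.getD Q.tI 1)⁻¹ := by
    have := hR.right.left.right _ List.mem_cons_self
    rw [ev_cons, ev_single] at this
    exact eq_inv_of_mul_eq_one_right this
  have hp : ∀ p ∈ Q.PW, xs.getD Q.tI 1 * π (el (pr P Q.kc p.1)) = π (el (pr P Q.kc p.2)) * xs.getD Q.tI 1 := by
    intro p hp
    have := hR.right.left.left _ (List.mem_map_of_mem hp)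
    rw [ev_append, ev_cons, ev_cons, hi, hT] at this
    rw [hπ' _ (h3 _ (List.mem_cons_of_mem _ (List.mem_map_of_mem hp))), hπ' _ (h4 _ (List.mem_map_of_mem hp)),
      ← mul_inv_eq_one, mul_inv_rev, this]
  have C : Ctx P V (fun c => π (el c)) (xs.getD Q.tI 1) ((1 : G) : G ⧸ H) := by
    refine ⟨D.kd.V1, by simp [D.kd.el1], D.kd.Vm, fun a b => by simp [D.kd.elm a b], D.kd.div,
      h9 ▸ (D.kd.pr _).1, ?_, fun c hc => ?_, fun a => ?_, fun r hr => ?_, fun c _ => hω _, eqW_eq h11, eqW_eq h12⟩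
    · have := hR.right.left.right _ (List.mem_cons_of_mem _ List.mem_cons_self)
      rw [ev_append, ev_cons, ev_single] at this
      simp only [h9, hπ' _ (h3 _ List.mem_cons_self), this]
    · rw [eqW_eq h8] at hc
      obtain ⟨w, -, rfl⟩ := List.mem_map.1 hc
      exact (D.kd.pr _).1
    · rw [eqW_eq h6, eqW_eq h7, nth_eq, nth_eq]
      rcases lt_or_ge a Q.PW.length with ha | ha
      · rw [List.getD_eq_getElem _ _ (by simpa using ha), List.getD_eq_getElem _ _ (by simpa using ha),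
          List.getElem_map, List.getElem_map]
        exact ⟨(D.kd.pr _).1, (D.kd.pr _).1, hp _ (List.getElem_mem _)⟩
      · rw [List.getD_eq_default _ _ (by simpa using ha), List.getD_eq_default _ _ (by simpa using ha)]
        exact ⟨D.kd.V1, D.kd.V1, by simp [D.kd.el1]⟩
    · rw [eqLL_eq h10] at hr
      obtain ⟨w, hw, rfl⟩ := List.mem_map.1 hr
      have h14 := h5 w hw
      rw [mapL_eq]
      suffices _ ∧ _ = ev xs (rw Q.tI w) from ⟨this.1, this.2.trans (hR.right.right _ (List.mem_map_of_mem hw))⟩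
      clear hw hr
      induction w with
      | nil => exact ⟨fun _ h => (by cases h), rfl⟩
      | cons a w ih =>
        obtain ⟨b1, b2⟩ := ih fun x hx => h14 x (List.mem_cons_of_mem _ hx)
        refine ⟨List.forall_mem_cons.2 ⟨(D.kd.pr _).1, b1⟩, ?_⟩
        rw [show rw Q.tI (a :: w) = cat (rw Q.tI w) (Q.tI :: a) from rfl, cat_eq, ev_append, ev_cons, ← b2,
          ← hπ' a (h14 a List.mem_cons_self)]
        rfl
  have h0 : 0 < Q.m := Nat.pos_of_mul_pos_right D.pos
  have : Finite (cl ys) := Nat.finite_of_card_ne_zero (D.card ▸ D.pos.ne')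
  have hst := stab_eq_of_le D.inj D.acts (cl_subL _) h0 (trans_of_chk D.acts h1) D.card h2 (mapL_eq Prod.fst Q.PW ▸ D.stab)
  have hG := Nat.zero_add L.length ▸ (Good.zero C).run C D.run
  have hf := D.fin
  rw [and'_eq, Bool.and_eq_true] at hf
  refine ⟨π, hπ, hG, fun g hg => cover D.kd C hG D.acts (cl_subL _) h0 hω (fun x hx => ?_)
    (fun r hr => (D.vok r hr).1) (memN_mem hf.1) (cl_le (fun x hx => ?_) hg)⟩
  · rw [hst] at hx
    induction hx using Subgroup.closure_induction with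
    | mem x hx =>
      obtain ⟨w, hw, rfl⟩ := List.mem_map.1 hx
      obtain ⟨p, hp', rfl⟩ := List.mem_map.1 hw
      exact ⟨_, (D.kd.pr p.1).2 ▸ hp p hp'⟩
    | one => exact ⟨1, by simp⟩
    | mul x y _ _ a b =>
      obtain ⟨x', a⟩ := a
      obtain ⟨y', b⟩ := b
      exact ⟨x' * y', by rw [map_mul, map_mul, ← mul_assoc, a, mul_assoc, b, mul_assoc]⟩
    | inv x _ a =>
      obtain ⟨x', a⟩ := a
      exact ⟨x'⁻¹, by rw [map_inv, map_inv, mul_inv_eq_iff_eq_mul, mul_assoc, a, inv_mul_cancel_left]⟩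
  · obtain ⟨i, hi', rfl⟩ := List.getElem_of_mem hx
    have := hR.right.left.right _ (List.mem_cons_of_mem _ (List.mem_cons_of_mem _
      (List.mem_map_of_mem (List.mem_range.2 (hl ▸ hi')))))
    rw [ev_cons, hi, mul_inv_eq_one, List.getD_eq_getElem _ _ hi'] at this
    rw [this, ev, wordG]
    refine list_prod_mem fun y hy => ?_
    obtain ⟨g, hg, rfl⟩ := List.mem_map.1 hy
    rcases h13 i (hl ▸ hi') g hg with h | rfl | rfl
    · exact Subgroup.subset_closure (Or.inr ⟨_, (hπ' [g] (by simpa using h)).trans (ev_single _ _)⟩)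
    · exact Subgroup.subset_closure (Or.inl rfl)
    · exact hT ▸ inv_mem (Subgroup.subset_closure (Or.inl rfl))

theorem Data.idx (D : Data.{u} P Q ys e V el R' L recs s n) (a : Impl.{u} Q.I.length R (needR Q R')) :
    Idx.{u} Q.I.length R (gensW Q.nk) n := by
  intro G _ xs hl hR H m hH hb
  obtain ⟨π, -, hG, h⟩ := D.main hl (a G xs hl hR) hH
  have : Finite (cl ys) := Nat.finite_of_card_ne_zero (D.card ▸ D.pos.ne')
  obtain ⟨b, c⟩ := ncard_cover D.kd hG D.vok
  have hf := D.fin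
  rw [and'_eq, Bool.and_eq_true, beq_iff] at hf
  rw [D.card, hf.2] at c
  exact bd_of_orbit b c h hb

/-- the word of a vertex -/
def vW (tI : Nat) (l : List (List Nat)) : List Nat :=
  List.rec (motive := fun _ => List Nat) [] (fun w _ ih => cat (tI :: w) ih) l
theorem Data.dcos (D : Data.{u} P Q ys e V el R' L recs s n) {G : Type u} [Group G] {xs : List G}
    (hl : xs.length = Q.I.length) (hR : Rels xs (needR Q R')) (Vs : List (List (List Nat)))
    (hV : allL recs (fun r => and' (rng Q.nk (nth [] Vs r.i))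
      (eqW (nth [] P.Ws r.i) (mapL (pr P Q.kc) (nth [] Vs r.i)))) = true) {g : G} (hg : g ∈ cl xs) :
    g ∈ cl ((gensW Q.nk).map (ev xs)) ∨ ∃ i ∈ mapL Vr.i recs, ∃ a ∈ cl ((gensW Q.nk).map (ev xs)),
      ∃ b ∈ cl ((gensW Q.nk).map (ev xs)), g = a * ev xs (vW Q.tI (nth [] Vs i)) * b := by
  obtain ⟨π, hπ, -, h⟩ := D.main hl hR (H := cl ((gensW Q.nk).map (ev xs))) fun w hw => mem_cl (List.mem_map_of_mem hw)
  rcases h g hg with h | ⟨r, hr, k, h⟩
  · rw [← mem_stabilizer_iff, stabilizer_quotient] at h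
    exact Or.inl h
  have h1 := (allL_iff _ _).1 hV r hr
  rw [and'_eq, Bool.and_eq_true, rng_iff] at h1
  have h2 : wv P (fun c => π (el c)) (xs.getD Q.tI 1) r.i = ev xs (vW Q.tI (nth [] Vs r.i)) := by
    rw [wv, eqW_eq h1.2, mapL_eq]
    have h3 := h1.1
    generalize nth [] Vs r.i = l at h3
    induction l with
    | nil => rfl
    | cons w l ih =>
      rw [show vW Q.tI (w :: l) = cat (Q.tI :: w) (vW Q.tI l) from rfl, cat_eq, ev_append,
        ← ih fun x hx => h3 x (List.mem_cons_of_mem _ hx), ev_cons, ← ev_expand_gens xs (h3 w List.mem_cons_self), ← hπ,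
        ev_map, ← (D.kd.pr w).2]
      rfl
  rw [h2, smul_smul] at h
  refine Or.inr ⟨r.i, by rw [mapL_eq]; exact List.mem_map_of_mem hr, π k,
    by rw [← hπ, ← range_eq_cl π (cl_subL _)]; exact ⟨k, rfl⟩,
    (π k * ev xs (vW Q.tI (nth [] Vs r.i)))⁻¹ * g, ?_, by group⟩
  rw [← stabilizer_quotient (cl _), mem_stabilizer_iff, mul_smul, h, inv_smul_smul]

/-- codes of matrices -/
theorem kd_mat {p d : Nat} (a : H29.Ar p d) {ys : List (GL (Fin d) (ZMod p))} (hw : 0 < a.w) (h1 : P.one = a.one)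
    (h2 : P.mul = a.mul) (h3 : P.ok = H29.codeOK p (d * d) a.w)
    (h4 : ∀ i, a.gM.R (H29.lgetD a.one Q.kc i) (ys.getD i 1)) :
    ∃ V el, KD P Q V el (subL ys) := by
  classical
  let V : Nat → Prop := fun c => ∃ g : cl ys, a.gM.R c g
  let el : Nat → cl ys := fun c => if h : V c then h.choose else 1
  have e : ∀ {c} {g : cl ys}, a.gM.R c g → el c = g := fun {c g} h =>
    (dif_pos ⟨g, h⟩).trans (Subtype.ext (a.gM.unique (Exists.choose_spec (⟨g, h⟩ : V c)) h))
  refine ⟨V, el, h1 ▸ ⟨1, a.gM.R_one⟩, h1 ▸ e a.gM.R_one, ?_, ?_, ?_, fun i => ?_⟩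
  · rintro _ _ ⟨g, hg⟩ ⟨h, hh⟩
    exact h2 ▸ ⟨g * h, a.gM.R_mul hg hh⟩
  · rintro _ _ ⟨g, hg⟩ ⟨h, hh⟩
    rw [e hg, e hh, h2]; exact e (g := g * h) (a.gM.R_mul hg hh)
  · rintro x c hc ⟨g, rfl⟩ ⟨h, hh⟩
    rw [h3] at hc
    rw [h2, ← H29.code_decode hw hc, a.mul_eq] at hh
    refine ⟨g⁻¹ * h, (H29.code_decode hw hc).symm.trans (congrArg _ ?_)⟩
    have := a.inj hh
    simp only [Units.coeHom_apply, Subgroup.coe_mul, Subgroup.coe_inv, Units.val_mul] at this ⊢
    rw [← this, Units.inv_mul_cancel_left]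
  · have : a.gM.R (nth P.one Q.kc i) ((subL ys).getD i 1 : cl ys) := by
      rw [← ev_single, coe_ev_subL, ev_single, nth_eq, h1, ← H29.lgetD_eq]; exact h4 i
    exact ⟨⟨_, this⟩, e this⟩

end
end H28.Dm
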