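import Cfsg.Agent.H28.Dm2
import Cfsg.Agent.H27.Pre2
/-! Matrix models of lists of words; free reduction; redundant generators. -/
namespace H28.Dm
open H27 H28.Dc
noncomputable section
universe u
variable {G : Type*} [Group G]

theorem R_ev {M : H29.Model G} {L : List Nat} {ys : List G} (h : ∀ i, M.R (H29.lgetD M.one L i) (ys.getD i 1))
    (w : List Nat) : M.R (H29.prodL M.mul M.one (H29.lgetD M.one L) w) (ev ys w) :=
  M.R_prodL (φ := fun i => ys.getD i 1) fun i _ => h i
theorem rels_of_Z {M : H29.Model G} {L : List Nat} {ys : List G} (h : ∀ i, M.R (H29.lgetD M.one L i) (ys.getD i 1))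
    {R : List (List Nat)} (hR : H29.relsZ M.mul M.one L [M.one] R = true) : Rels ys R := fun w hw =>
  M.unique (R_ev h w) (by rw [List.mem_singleton.1 (H29.relsZ_spec hR w hw)]; exact M.R_one)
theorem cl_eq {M : H29.Model G} {L : List Nat} {ys : List G} (hl : ys.length = L.length)
    (h : ∀ i, M.R (H29.lgetD M.one L i) (ys.getD i 1)) : M.cl L = cl ys := by
  refine le_antisymm (H29.Model.cl_le' fun c hc g hg => ?_) (cl_le fun g hg => ?_)
  · obtain ⟨i, -, rfl⟩ := H29.exists_lgetD M.one hc
    rw [M.unique hg (h i), ← ev_single]; exact ev_mem_cl _ _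
  · obtain ⟨i, hi, rfl⟩ := List.getElem_of_mem hg
    have := h i
    rw [H29.lgetD_eq, List.getD_eq_getElem _ _ hi, List.getD_eq_getElem _ _ (hl ▸ hi)] at this
    exact H29.Model.mem_cl (List.getElem_mem _) this

def evP (mul : Nat → Nat → Nat) (one : Nat) (L : List Nat) (w : Nat) : Nat :=
  force w fun w => force (Nat.div (Nat.log2 w) 12) fun n => H29.evW mul one L n w
def lowChk {p d : Nat} (a : H29.Ar p d) (L L' ws U ks : List Nat) (b q n : Nat) : Bool :=
  and' (and' (H29.wdsOK a.mul a.one L' ws L) (and' (blt 0 a.w) (H29.codeOK p (d * d) a.w b)))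
    (and' (H29.allL (H29.fixP a.mul b) L') (allN n fun j =>
      H29.kchk (H29.keyP a.mul b q) (fun j => evP a.mul a.one L (nth 0 U j)) (nth 0 ks) n j))
theorem low {p d : Nat} (a : H29.Ar p d) {L : List Nat} (L' ws U ks : List Nat) (b q n : Nat) {m : Nat}
    (h : lowChk a L L' ws U ks b q n = true)
    (hm : (∀ c ∈ L', a.gM.In ⊤ c) → m ≤ Nat.card (a.gM.cl L')) (hv : ∀ c ∈ L, a.gM.In ⊤ c) :
    n * m ≤ Nat.card (a.gM.cl L) := by
  simp only [lowChk, and'_eq, Bool.and_eq_true, blt_iff, allN_iff] at h
  have := a.finGL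
  have h1 := H29.in_of_slpW 0 (ab := 0) (H29.in_cl_self hv) h.1.1
  have k := a.keyP (Units.coeHom _) Units.val_injective (H29.code_decode h.1.2.1 h.1.2.2).symm q
  exact k.card_ge (H29.Model.cl_le h1) (k.cl_le h.2.1) (fun j => by
    rw [evP, force_eq, force_eq]; exact H29.in_evW (H29.in_cl_self hv) _ _) h.2.2 (hm fun c hc => (h1 c hc).mono le_top)
theorem low0 {p d : Nat} (a : H29.Ar p d) {L : List Nat} (_ : ∀ c ∈ L, a.gM.In ⊤ c) : 1 ≤ Nat.card (a.gM.cl L) :=
  have := a.finGL; Nat.card_pos

/-- free reduction; the inverse of a letter differs in the last bit -/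
def red (w : List Nat) : List Nat :=
  List.rec (motive := fun _ => List Nat) [] (fun a _ ih => List.rec (motive := fun _ => List Nat) [a]
    (fun b s _ => ite' (Nat.beq b (Nat.xor a 1)) s (a :: b :: s)) ih) w
theorem ev_red {xs : List G} (h : ∀ a, xs.getD a 1 * xs.getD (Nat.xor a 1) 1 = 1) (w : List Nat) :
    ev xs (red w) = ev xs w := by
  induction w with
  | nil => rfl
  | cons a t ih =>
    rw [ev_cons, ← ih, show red (a :: t) = List.rec (motive := fun _ => List Nat) [a]
      (fun b s _ => ite' (Nat.beq b (Nat.xor a 1)) s (a :: b :: s)) (red t) from rfl]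
    cases red t with
    | nil => exact ev_cons _ _ _
    | cons b s =>
      change ev xs (ite' (Nat.beq b (Nat.xor a 1)) s (a :: b :: s)) = _
      rw [ite'_eq]
      split_ifs with hb
      · rw [(beq_iff _ _).1 hb, ev_cons, ← mul_assoc, h, one_mul]
      · exact ev_cons _ _ _
def memW (R : List (List Nat)) (w : List Nat) : Bool :=
  List.rec (motive := fun _ => Bool) false (fun x _ ih => or' (eqW x w) ih) R
theorem memW_mem {R : List (List Nat)} {w : List Nat} (h : memW R w = true) : w ∈ R := by
  induction R with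
  | nil => cases h
  | cons x t ih =>
    have : or' (eqW x w) (memW t w) = true := h
    rw [or'_eq, Bool.or_eq_true] at this
    exact this.elim (fun h => eqW_eq h ▸ List.mem_cons_self) fun h => List.mem_cons_of_mem _ (ih h)
theorem inv_xor {xs : List G} {R : List (List Nat)} {k : Nat} (hl : xs.length = 2 * k) (hR : Rels xs R)
    (h : allN (2 * k) (fun a => memW R [a, Nat.xor a 1]) = true) (a : Nat) :
    xs.getD a 1 * xs.getD (Nat.xor a 1) 1 = 1 := by
  rcases lt_or_ge a (2 * k) with ha | ha
  · have := hR _ (memW_mem ((allN_iff _ _).1 h a ha))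
    rwa [ev_cons, ev_single] at this
  · have : 2 * k ≤ a ^^^ 1 := by
      have h1 : (a ^^^ 1) / 2 = a / 2 := by rw [Nat.xor_div_two]; simp
      omega
    rw [List.getD_eq_default _ _ (hl ▸ ha), List.getD_eq_default _ _ (hl ▸ this), one_mul]
theorem rels_red {xs : List G} (h : ∀ a, xs.getD a 1 * xs.getD (Nat.xor a 1) 1 = 1) {R W : List (List Nat)}
    (hR : Rels xs R) (hW : allL W (fun w => memW ([] :: R) (red w)) = true) : Rels xs W := fun w hw => by
  rw [← ev_red h]
  rcases List.mem_cons.1 (memW_mem ((allL_iff _ _).1 hW w hw)) with e | e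
  exacts [e ▸ ev_nil xs, hR _ e]
theorem rels_red' {xs : List G} (h : ∀ a, xs.getD a 1 * xs.getD (Nat.xor a 1) 1 = 1) {R W : List (List Nat)}
    (hR : Rels xs R) (hW : allL W (memW (mapL red R)) = true) : Rels xs W := fun w hw => by
  have := memW_mem ((allL_iff _ _).1 hW w hw)
  rw [mapL_eq] at this
  obtain ⟨v, hv, rfl⟩ := List.mem_map.1 this
  rw [ev_red h, hR v hv]
/-- the letters are determined one after the other -/
def defChk (R D : List (List Nat)) (st : List (Nat × Nat)) : List Nat → Bool :=
  List.rec (motive := fun _ => List Nat → Bool) (fun E => allN D.length (memN E))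
    (fun p _ ih E => and' (or' (eqW (nth [] D p.1) [p.1])
      (and' (and' (eqW (nth [] R p.2) (p.1 :: tl (nth [] R p.2))) (allL (tl (nth [] R p.2)) (memN E)))
        (eqW (red (cat (nth [] D p.1) (expand D (tl (nth [] R p.2))))) []))) (ih (p.1 :: E))) st
theorem defs_eq {xs : List G} (h : ∀ a, xs.getD a 1 * xs.getD (Nat.xor a 1) 1 = 1) {R D : List (List Nat)}
    (hR : Rels xs R) (hl : D.length = xs.length) (st : List (Nat × Nat)) {E : List Nat}
    (hE : ∀ j ∈ E, ev xs (nth [] D j) = xs.getD j 1) (hc : defChk R D st E = true) : D.map (ev xs) = xs := by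
  induction st generalizing E with
  | nil =>
    refine List.ext_getElem (by simp [hl]) fun i h1 h2 => ?_
    have := hE i (memN_mem ((allN_iff _ _).1 hc i (hl ▸ h2)))
    rwa [nth_eq, List.getD_eq_getElem _ _ h2, List.getD_eq_getElem _ _ (hl ▸ h2), ← List.getElem_map (ev xs)] at this
  | cons p st ih =>
    have h1 : and' (or' (eqW (nth [] D p.1) [p.1])
      (and' (and' (eqW (nth [] R p.2) (p.1 :: tl (nth [] R p.2))) (allL (tl (nth [] R p.2)) (memN E)))
        (eqW (red (cat (nth [] D p.1) (expand D (tl (nth [] R p.2))))) []))) (defChk R D st (p.1 :: E)) = true := hc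
    simp only [and'_eq, or'_eq, Bool.and_eq_true, Bool.or_eq_true, allL_iff] at h1
    refine ih (List.forall_mem_cons.2 ⟨?_, hE⟩) h1.2
    rcases h1.1 with e | ⟨⟨e1, e2⟩, e3⟩
    · rw [eqW_eq e, ev_single]
    have a : ev xs (nth [] R p.2) = 1 := (nth_mem_or [] R p.2).elim (hR _) fun e => e.symm ▸ ev_nil xs
    have b := ev_red h (cat (nth [] D p.1) (expand D (tl (nth [] R p.2))))
    rw [eqW_eq e3, ev_nil, cat_eq, ev_append] at b
    rw [eqW_eq e1, ev_cons] at a
    have c : ev xs (expand D (tl (nth [] R p.2))) = ev xs (tl (nth [] R p.2)) := by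
      generalize tl (nth [] R p.2) = w at e2
      induction w with
      | nil => rfl
      | cons g t ih =>
        rw [show expand D (g :: t) = cat (nth [] D g) (expand D t) from rfl, cat_eq, ev_append, ev_cons,
          ih fun x hx => e2 x (List.mem_cons_of_mem _ hx), hE g (memN_mem (e2 g List.mem_cons_self))]
    rw [c] at b
    exact mul_right_cancel (b.symm.trans a.symm)

end
end H28.Dm
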