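import Cfsg.Agent.H28.Dm3
/-! Simplicity from a double coset enumeration. -/
namespace H28.Dm
open H27 H28.Dc MulAction Subgroup
noncomputable section
universe u

theorem simple_cover {G K ι : Type*} [Nonempty ι] [Group G] [Finite G] {H : Subgroup G} [IsSimpleGroup H] (π : K → G)
    (hπ : ∀ k, π k ∈ H) (hK : ∀ k k', ∃ h ∈ H, π k' = h * π k) (L : List ι) (x : ι → G ⧸ H) (c : ι → Nat)
    (cov : ∀ g : G, g • ((1 : G) : G ⧸ H) = ((1 : G) : G ⧸ H) ∨ ∃ r ∈ L, ∃ k, g • ((1 : G) : G ⧸ H) = π k • x r)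
    (bd : ∀ S : List ι, (∀ r ∈ S, r ∈ L) →
      {y | y = ((1 : G) : G ⧸ H) ∨ ∃ r ∈ S, ∃ k, y = π k • x r}.ncard ≤ (S.map c).sum + 1)
    (hn : H.index = (L.map c).sum + 1)
    (hd : ∀ T ∈ (L.map c).sublists, T.sum + 1 ∣ H.index → T.sum = 0 ∨ T.sum + 1 = H.index)
    (ps : Finset Nat) (hp : ∀ p ∈ ps, p.Prime ∧ p ∣ H.index) (hl : L.length < ps.card)
    (ht : ∀ M : Subgroup G, M.Normal → H ≤ M → M = ⊤) : IsSimpleGroup G := by
  classical
  have : Nontrivial G := H.subtype_injective.nontrivial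
  refine ⟨fun M hM => ?_⟩
  rcases (hM.subgroupOf H).eq_bot_or_eq_top with h | h
  swap
  · exact Or.inr (ht M hM (subgroupOf_eq_top.1 h))
  set ω : G ⧸ H := ((1 : G) : G ⧸ H) with hω
  have fx : ∀ g, g • ω = ω ↔ g ∈ H := fun g => by rw [← mem_stabilizer_iff, stabilizer_quotient]
  have h1 : ∀ m ∈ M, m • ω = ω → m = 1 := fun m hm e =>
    congrArg Subtype.val (h.le (show (⟨m, (fx m).1 e⟩ : H) ∈ M.subgroupOf H from hm) : (⟨m, _⟩ : H) = 1)
  have inj : ∀ m ∈ M, ∀ m' ∈ M, m • ω = m' • ω → m = m' := fun m hm m' hm' e =>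
    (inv_mul_eq_one.1 (h1 _ (mul_mem (inv_mem hm') hm) (by rw [mul_smul, e, inv_smul_smul]))).symm
  let A : Set (G ⧸ H) := Set.range fun m : M => (m : G) • ω
  have cA : A.ncard = Nat.card M := by
    rw [show A = _ from Set.image_univ.symm,
      Set.ncard_image_of_injective _ fun a b e => Subtype.ext (inj _ a.2 _ b.2 e), Set.ncard_univ]
  have hA : ∀ h ∈ H, ∀ y ∈ A, h • y ∈ A := by
    rintro h hh _ ⟨m, rfl⟩
    exact ⟨⟨h * m * h⁻¹, hM.conj_mem _ m.2 h⟩, by
      simp only [mul_smul, (fx _).2 (inv_mem hh)]⟩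
  have all : ∀ y : G ⧸ H, y = ω ∨ ∃ r ∈ L, ∃ k, y = π k • x r := fun y => by
    obtain ⟨g, rfl⟩ := QuotientGroup.mk_surjective y
    simpa [hω] using cov g
  have dv : Nat.card M ∣ H.index := by
    have e2 : (M ⊔ H).index * Nat.card (M ⊔ H : Subgroup G) = H.index * Nat.card H := by
      rw [index_mul_card, index_mul_card]
    have e3 : Nat.card (M ⊔ H : Subgroup G) = Nat.card M * Nat.card H := by
      rw [← relIndex_bot_left, ← relIndex_mul_relIndex ⊥ M _ bot_le le_sup_left, relIndex_bot_left,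
        relIndex_sup_left, relIndex, h, index_bot]
    rw [e3, ← mul_assoc] at e2
    exact Dvd.intro_left _ (Nat.eq_of_mul_eq_mul_right Nat.card_pos e2)
  have b1 := bd (L.filter fun r => x r ∈ A) fun r hr => List.mem_of_mem_filter hr
  have b2 := bd (L.filter fun r => x r ∉ A) fun r hr => List.mem_of_mem_filter hr
  have s1 : A.ncard ≤ ((L.filter fun r => x r ∈ A).map c).sum + 1 := le_trans (Set.ncard_le_ncard fun y hy => by
    refine (all y).imp_right ?_
    rintro ⟨r, hr, k, rfl⟩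
    refine ⟨r, List.mem_filter.2 ⟨hr, decide_eq_true ?_⟩, k, rfl⟩
    simpa using hA _ (inv_mem (hπ k)) _ hy) b1
  have s2 : (insert ω Aᶜ).ncard ≤ ((L.filter fun r => x r ∉ A).map c).sum + 1 :=
    le_trans (Set.ncard_le_ncard fun y hy => by
      rcases hy with rfl | hy
      · exact Or.inl rfl
      refine (all y).imp_right ?_
      rintro ⟨r, hr, k, rfl⟩
      exact ⟨r, List.mem_filter.2 ⟨hr, decide_eq_true fun e => hy (hA _ (hπ k) _ e)⟩, k, rfl⟩) b2
  rw [Set.ncard_insert_of_notMem (show ω ∉ Aᶜ from fun e => e ⟨1, one_smul _ _⟩)] at s2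
  have s3 := Set.ncard_add_ncard_compl A
  have s4 : ((L.filter fun r => x r ∈ A).map c).sum + ((L.filter fun r => x r ∉ A).map c).sum = (L.map c).sum := by
    rw [← List.sum_append, ← List.map_append]
    refine (List.Perm.map c ?_).sum_eq
    simpa using List.filter_append_perm (fun r => decide (x r ∈ A)) L
  rw [← index_eq_card, hn] at s3
  have s5 : ((L.filter fun r => x r ∈ A).map c).sum + 1 = Nat.card M := by omega
  rcases hd _ (List.mem_sublists.2 (List.filter_sublist.map c)) (s5 ▸ dv) with e | e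
  · exact Or.inl (M.eq_bot_of_card_eq (by omega))
  exfalso
  rw [s5] at e
  have ex : ∀ p ∈ ps, ∃ r ∈ L.toFinset, ∃ m ∈ M, ∃ k, orderOf m = p ∧ m • ω = π k • x r := fun p hp' => by
    have := Fact.mk (hp p hp').1
    obtain ⟨m, hm⟩ := exists_prime_orderOf_dvd_card' (G := M) p (e ▸ (hp p hp').2)
    rcases cov m with e' | ⟨r, hr, k, e'⟩
    · rw [show m = 1 from Subtype.ext (h1 _ m.2 e'), orderOf_one] at hm
      exact absurd hm (hp p hp').1.one_lt.ne
    · exact ⟨r, List.mem_toFinset.2 hr, m, m.2, k, (orderOf_coe m).trans hm, e'⟩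
  choose! f f1 f2 using ex
  obtain ⟨p, hp1, q, hq1, ne, e'⟩ := Finset.exists_ne_map_eq_of_card_lt_of_maps_to
    ((List.toFinset_card_le L).trans_lt hl) f1
  obtain ⟨m, hm, k, o1, a1⟩ := f2 p hp1
  obtain ⟨m', hm', k', o2, a2⟩ := f2 q hq1
  obtain ⟨g, hg, e2⟩ := hK k k'
  have : m' = g * m * g⁻¹ := inj _ hm' _ (hM.conj_mem _ hm g) (by
    rw [a2, e2, mul_smul, mul_smul, mul_smul, (fx _).2 (inv_mem hg), a1, e'])
  exact ne (o1.symm.trans (((MulAut.conj g).orderOf_eq m).symm.trans (by rw [← o2, this]; rfl)))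

variable {P : Par} {Q : Sp} {M Λ : Type} [Group M] {ys : List M} [MulAction (cl ys) Λ] {e : Nat → Λ} {V : Nat → Prop}
  {el : Nat → cl ys} {R' : List (List Nat)} {L : List Rc} {recs : List Vr} {s n : Nat}
theorem Data.simple (D : Data.{u} P Q ys e V el R' L recs s n) {G : Type u} [Group G] [Finite G] {xs : List G}
    (hl : xs.length = Q.I.length) (hR : Rels xs (needR Q R')) (h0 : cl xs = ⊤)
    [IsSimpleGroup (cl ((gensW Q.nk).map (ev xs)))] (hn : (cl ((gensW Q.nk).map (ev xs))).index = n)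
    (hd : ∀ T ∈ (recs.map fun r => Q.m * s / r.c).sublists, T.sum + 1 ∣ n → T.sum = 0 ∨ T.sum + 1 = n)
    (ps : Finset Nat) (hp : ∀ p ∈ ps, p.Prime ∧ p ∣ n) (hc : recs.length < ps.card)
    (ht : ∀ M : Subgroup G, M.Normal → cl ((gensW Q.nk).map (ev xs)) ≤ M → M = ⊤) : IsSimpleGroup G := by
  obtain ⟨π, hπ, hG, h⟩ := D.main hl hR (H := cl ((gensW Q.nk).map (ev xs))) fun w hw => mem_cl (List.mem_map_of_mem hw)
  have : Finite (cl ys) := Nat.finite_of_card_ne_zero (D.card ▸ D.pos.ne')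
  have hr : ∀ k, π k ∈ cl ((gensW Q.nk).map (ev xs)) := fun k => by
    rw [← hπ, ← range_eq_cl π (cl_subL _)]; exact ⟨k, rfl⟩
  have hf := D.fin
  have : Nonempty Vr := ⟨⟨0, [], [], 0, 0⟩⟩
  rw [and'_eq, Bool.and_eq_true, beq_iff] at hf
  refine simple_cover π hr (fun k k' => ⟨π (k' * k⁻¹), hr _, by simp⟩) recs _ (fun r => Q.m * s / r.c)
    (fun g => h g (h0 ▸ mem_top g)) (fun S hS => ?_) (hn.trans hf.2.symm) (hn ▸ hd) ps (hn ▸ hp) hc ht
  exact D.card ▸ (ncard_cover D.kd hG fun r hr => D.vok r (hS r hr)).2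

end
end H28.Dm
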