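import Cfsg.Agent.H28.Dm3
import Cfsg.Agent.H27.LGf
import Cfsg.Agent.H27.LBit
/-! Counting elements of small matrix groups. -/
namespace H28.Dm
open H27 H28.Dc
noncomputable section
variable {G : Type*} [Group G] {M : H29.Model G}

def cds (mul : Nat → Nat → Nat) (one : Nat) (L : List Nat) (ws : List (List Nat)) : List Nat :=
  mapL (H29.prodL mul one (H29.lgetD one L)) ws
theorem R_cds {L : List Nat} {ys : List G} (h : ∀ i, M.R (H29.lgetD M.one L i) (ys.getD i 1)) (ws : List (List Nat))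
    (i : Nat) : M.R (H29.lgetD M.one (cds M.mul M.one L ws) i) ((ws.map (ev ys)).getD i 1) := by
  rw [cds, mapL_eq, H29.lgetD_eq]
  rcases lt_or_ge i ws.length with hi | hi
  · rw [List.getD_eq_getElem _ _ (by simpa using hi), List.getD_eq_getElem _ _ (by simpa using hi), List.getElem_map,
      List.getElem_map]
    exact R_ev h _
  · rw [List.getD_eq_default _ _ (by simpa using hi), List.getD_eq_default _ _ (by simpa using hi)]
    exact M.R_one
theorem getD_mem {S : Subgroup G} {l : List G} (h : ∀ g ∈ l, g ∈ S) (i : Nat) : l.getD i 1 ∈ S := by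
  rw [← ev_single]; exact cl_le h (ev_mem_cl _ _)
def incr (f : Nat → Nat) (n : Nat) : Bool := allN n fun j => force (f j) fun a => force (f (Nat.succ j)) (blt a)
theorem incr_inj (hu : ∀ a b g, M.R a g → M.R b g → a = b) {f : Nat → Nat} {φ : Nat → G} (h : ∀ j, M.R (f j) (φ j))
    {n : Nat} (hi : incr f n = true) : Set.InjOn φ (Finset.range (n + 1)) := by
  simp only [incr, allN_iff, force_eq, blt_iff] at hi
  have : StrictMonoOn f (Set.Iic n) := strictMonoOn_Iic_of_lt_succ hi
  intro a ha b hb e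
  simp only [Finset.coe_range, Set.mem_Iio] at ha hb
  exact this.injOn (Nat.le_of_lt_succ ha) (Nat.le_of_lt_succ hb) (hu _ _ _ (h a) (e ▸ h b))
def lo (T j : Nat) : Nat := H29.pget T 10 1023 (Nat.mul 2 j)
def hi (T j : Nat) : Nat := H29.pget T 10 1023 (Nat.succ (Nat.mul 2 j))
def at' (one : Nat) (U : List Nat) (i : Nat) (k : Nat → Nat) : Nat := force i fun i => force (H29.lgetD one U i) k
def enumF (mul : Nat → Nat → Nat) (one : Nat) (U V : List Nat) (T j : Nat) : Nat :=
  at' one U (lo T j) fun a => at' one V (hi T j) (mul a)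
def enumChk (mul : Nat → Nat → Nat) (one : Nat) (L : List Nat) (Sw Uw Vw : List (List Nat)) (T n k : Nat)
    (P : Nat → Bool) : Bool :=
  forceL (cds mul one L Sw) fun Gs => forceL (cds mul one Gs Uw) fun U => forceL (cds mul one Gs Vw) fun V =>
    and' (incr (enumF mul one U V T) n)
      (Nat.ble (sumN (Nat.succ n) fun j => force (enumF mul one U V T j) fun c => ite' (P c) 1 0) k)
theorem enum_le (hu : ∀ a b g, M.R a g → M.R b g → a = b) {L : List Nat} {ys : List G}
    (h : ∀ i, M.R (H29.lgetD M.one L i) (ys.getD i 1)) {Sw : List (List Nat)} (Uw Vw : List (List Nat)) (T : Nat)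
    {n k : Nat} {P : Nat → Bool} {Q : G → Prop} (hP : ∀ c g, M.R c g → Q g → P c = true)
    (hc : enumChk M.mul M.one L Sw Uw Vw T n k P = true) (hn : Nat.card (cl (Sw.map (ev ys))) = n + 1) :
    {s | s ∈ cl (Sw.map (ev ys)) ∧ Q s}.ncard ≤ k := by
  classical
  simp only [enumChk, forceL_eq, and'_eq, Bool.and_eq_true, Nat.ble_eq, sumN_eq, force_eq, ite'_eq] at hc
  set S := cl (Sw.map (ev ys))
  set f := enumF M.mul M.one (cds M.mul M.one (cds M.mul M.one L Sw) Uw) (cds M.mul M.one (cds M.mul M.one L Sw) Vw) T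
  let φ : Nat → G := fun j => (Uw.map (ev (Sw.map (ev ys)))).getD (lo T j) 1 * (Vw.map (ev (Sw.map (ev ys)))).getD (hi T j) 1
  have h1 : ∀ j, M.R (f j) (φ j) := fun j => by
    simp only [f, enumF, at', force_eq]
    exact M.R_mul (R_cds (R_cds h _) _ _) (R_cds (R_cds h _) _ _)
  have h2 : ∀ (W : List (List Nat)) i, (W.map (ev (Sw.map (ev ys)))).getD i 1 ∈ S := fun W => getD_mem fun g hg => by
    obtain ⟨w, -, rfl⟩ := List.mem_map.1 hg
    exact ev_mem_cl _ _
  have h3 := incr_inj hu h1 hc.1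
  have : Finite S := Nat.finite_of_card_ne_zero (by omega)
  have h4 : φ '' (Finset.range (n + 1)) = S := Set.eq_of_subset_of_ncard_le
    (by rintro _ ⟨j, -, rfl⟩; exact mul_mem (h2 _ _) (h2 _ _))
    (by rw [h3.ncard_image, Set.ncard_coe_finset, Finset.card_range, ← hn]; rfl) (Set.toFinite _)
  rw [Finset.sum_boole] at hc
  refine le_trans (Set.ncard_le_ncard (t := φ '' ((Finset.range (n + 1)).filter fun j => P (f j) = true)) ?_)
    ((Set.ncard_image_le (Set.toFinite _)).trans (by rw [Set.ncard_coe_finset]; exact hc.2))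
  rintro s ⟨a, b⟩
  obtain ⟨j, hj, rfl⟩ : s ∈ φ '' (Finset.range (n + 1)) := h4 ▸ a
  exact ⟨j, Finset.mem_coe.2 (Finset.mem_filter.2 ⟨hj, hP _ _ (h1 j) b⟩), rfl⟩

def ivw (w : List Nat) : List Nat := List.rec (motive := fun _ => List Nat) [] (fun a _ ih => cat ih [Nat.xor a 1]) w
theorem ev_ivw {xs : List G} (h : ∀ a, xs.getD a 1 * xs.getD (Nat.xor a 1) 1 = 1) (w : List Nat) :
    ev xs (ivw w) = (ev xs w)⁻¹ := by
  induction w with
  | nil => simp [ivw, ev_nil]
  | cons a t ih =>
    rw [show ivw (a :: t) = cat (ivw t) [Nat.xor a 1] from rfl, cat_eq, ev_append, ih, ev_cons, ev_cons, ev_nil,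
      mul_one, mul_inv_rev, eq_inv_of_mul_eq_one_right (h a)]
def cjw (t h : List Nat) : List Nat := cat h (cat t (ivw h))
def conjF (mul : Nat → Nat → Nat) (one : Nat) (U U' W : List Nat) (T j : Nat) : Nat :=
  at' one U (lo T j) fun a => at' one W (hi T j) fun b => at' one U' (lo T j) fun c => force (mul a b) fun d => mul d c
def conjChk (mul : Nat → Nat → Nat) (one : Nat) (L t : List Nat) (Uw Hw : List (List Nat)) (T n : Nat) : Bool :=
  forceL (cds mul one L Uw) fun U => forceL (cds mul one L (mapL ivw Uw)) fun U' =>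
    forceL (cds mul one L (mapL (cjw t) Hw)) fun W =>
      and' (incr (conjF mul one U U' W T) n) (allN (Nat.succ n) fun j => blt (hi T j) Hw.length)
theorem conj_ge [Finite G] (hu : ∀ a b g, M.R a g → M.R b g → a = b) {L : List Nat} {ys : List G}
    (h : ∀ i, M.R (H29.lgetD M.one L i) (ys.getD i 1)) (hy : ∀ a, ys.getD a 1 * ys.getD (Nat.xor a 1) 1 = 1)
    {t : List Nat} (Uw Hw : List (List Nat)) (T : Nat) {n : Nat} {S : Subgroup G}
    (hU : cl (Uw.map (ev ys)) ≤ S) (hW : cl ((mapL (cjw t) Hw).map (ev ys)) ≤ S)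
    (hc : conjChk M.mul M.one L t Uw Hw T n = true) : n + 1 ≤ {s | s ∈ S ∧ IsConj (ev ys t) s}.ncard := by
  simp only [conjChk, forceL_eq, and'_eq, Bool.and_eq_true, allN_iff, blt_iff] at hc
  let φ : Nat → G := fun j => (Uw.map (ev ys)).getD (lo T j) 1 * ((mapL (cjw t) Hw).map (ev ys)).getD (hi T j) 1 *
    ((mapL ivw Uw).map (ev ys)).getD (lo T j) 1
  have h3 := incr_inj hu (φ := φ) (fun j => by
    simp only [conjF, at', force_eq]
    exact M.R_mul (M.R_mul (R_cds h _ _) (R_cds h _ _)) (R_cds h _ _)) hc.1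
  have h4 : ∀ i, ((mapL ivw Uw).map (ev ys)).getD i 1 = ((Uw.map (ev ys)).getD i 1)⁻¹ := fun i => by
    rw [mapL_eq, List.map_map, show ev ys ∘ ivw = Inv.inv ∘ ev ys from funext (ev_ivw hy), ← List.map_map,
      ← List.getD_map _ _ Inv.inv, inv_one]
  refine le_trans (by rw [h3.ncard_image, Set.ncard_coe_finset, Finset.card_range])
    (Set.ncard_le_ncard (s := φ '' (Finset.range (n + 1))) ?_)
  rintro _ ⟨j, hj, rfl⟩
  have a := getD_mem (fun g hg => hU (mem_cl hg)) (lo T j)
  simp only [φ, h4]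
  refine ⟨mul_mem (mul_mem a (getD_mem (fun g hg => hW (mem_cl hg)) _)) (inv_mem a), .trans ?_ (isConj_iff.2 ⟨_, rfl⟩)⟩
  have b := hc.2 j (by simpa using hj)
  rw [mapL_eq, List.getD_eq_getElem _ _ (by simpa using b), List.getElem_map, List.getElem_map, cjw, cat_eq, cat_eq,
    ev_append, ev_append, ev_ivw hy, ← mul_assoc]
  exact isConj_iff.2 ⟨_, rfl⟩

def mvK (K n : Nat) (Ns : List Net) (w : List Nat) (k : Nat) : Nat :=
  Nat.rec (motive := fun _ => Nat) 0 (fun k ih => force (Nat.land (idp k K) (ones n)) fun I =>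
    force (Nat.xor (appW Ns w I) I) fun a => force ih (Nat.lor a)) k
theorem fix_le {Ω : Type*} [MulAction G Ω] {K n : Nat} {e : Nat → Ω} {xs : List G} {Ns : List Net}
    (a : ActsL n e xs Ns) (inj : Set.InjOn e {j | j < n}) (ht : cl xs = ⊤) (hv : Enum.validL n Ns = true) (h0 : 0 < n)
    {w : List Nat} (X : List Nat) (hc : Nat.beq (Nat.lor (mvK K n Ns w K) (orL X)) (ones n) = true) :
    {y | y ∈ MulAction.orbit G (e 0) ∧ ev xs w • y = y}.ncard ≤ X.length := by
  classical
  refine le_trans (Set.ncard_le_ncard (t := e '' X.toFinset) ?_) ((Set.ncard_image_le (Set.toFinite _)).trans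
    (by rw [Set.ncard_coe_finset]; exact X.toFinset_card_le))
  rintro _ ⟨⟨g, rfl⟩, hg⟩
  obtain ⟨j, hj, u⟩ := a.closed (ht ▸ Subgroup.mem_top g) h0
  dsimp only at hg ⊢
  rw [u, ev_smul a w hj] at hg
  have h : fnW Ns w j = j := inj (fnW_lt (ok_of_validL hv) w hj) hj hg
  have h1 : ∀ k, (mvK K n Ns w k).testBit j = false := fun k => by
    induction k with
    | zero => exact Nat.zero_testBit j
    | succ k ih =>
      rw [show mvK K n Ns w (k + 1) = force (Nat.land (idp k K) (ones n)) fun I =>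
        force (Nat.xor (appW Ns w I) I) fun a => force (mvK K n Ns w k) (Nat.lor a) from rfl]
      simp only [force_eq]
      change ((appW Ns w _ ^^^ _) ||| _).testBit j = false
      rw [Nat.testBit_or, ih, Nat.testBit_xor, testBit_appW (ok_of_validL hv), h]
      simp
  have h2 := congrArg (fun x => Nat.testBit x j) ((beq_iff _ _).1 hc)
  change (mvK K n Ns w K ||| orL X).testBit j = _ at h2
  rw [Nat.testBit_or, h1, Bool.false_or, (testBit_ones n j).2 hj] at h2
  exact ⟨j, by simpa using (testBit_orL X j).1 h2, u.symm⟩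

/-- the trace of a coded matrix -/
def trN (p w n c : Nat) : Nat := Nat.mod (sumN n fun i => H29.pget c w (2 ^ w - 1) (Nat.mul (Nat.succ n) i)) p
theorem trN_code {p n w : ℕ} [NeZero p] (hw : p ≤ 2 ^ w) (B : Matrix (Fin n) (Fin n) (ZMod p)) :
    trN p w n (H29.code w B) = B.trace.val := by
  change sumN _ _ % p = _
  rw [sumN_eq, ← ZMod.val_natCast, Finset.sum_range, Nat.cast_sum, Matrix.trace]
  refine congrArg _ (Finset.sum_congr rfl fun i _ => ?_)
  have h1 : (n + 1) * i < n * n := by nlinarith [i.2]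
  have h2 := H29.pk_dig (w := w) (m := n * n) (f := fun t => H29.ent B (t % n) (t / n))
    (fun t _ => (H29.ent_lt B _ _).trans_le hw) h1
  have h3 : (n + 1) * i = i + n * i := by ring
  have h0 : 0 < n := i.pos
  rw [← H29.matN_flat] at h2
  refine (congrArg Nat.cast h2).trans ?_
  rw [h3, Nat.add_mul_mod_self_left, Nat.add_mul_div_left _ _ h0, Nat.mod_eq_of_lt i.2, Nat.div_eq_of_lt i.2, zero_add,
    H29.ent_fin, ZMod.natCast_zmod_val]
  rfl

end
end H28.Dm
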