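import Cfsg.Agent.H28.Cos3
import Cfsg.Agent.H27.Golay
import Cfsg.Agent.H1.Gasch

/-! Extensions by elementary abelian 2-groups: rewriting with symbolic tails. -/
namespace H28
open H27
noncomputable section

/-- the sum of the values `z i` over the bits `i` of `a` -/
def Ph (z : Nat → ZMod 2) (a : Nat) : ZMod 2 := if a = 0 then 0 else a * z 0 + Ph (fun j => z (j + 1)) (a / 2)
termination_by a
decreasing_by omega
theorem ph_zero (z : Nat → ZMod 2) : Ph z 0 = 0 := by rw [Ph]; simp
theorem ph_eq (z : Nat → ZMod 2) (a : Nat) : Ph z a = a * z 0 + Ph (fun j => z (j + 1)) (a / 2) := by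
  rw [Ph]; split_ifs with h
  · simp [h, ph_zero]
  · rfl
theorem ph_xor (z : Nat → ZMod 2) (a b : Nat) : Ph z (a ^^^ b) = Ph z a + Ph z b := by
  induction a using Nat.strong_induction_on generalizing b z with
  | _ a ih =>
    rcases a.eq_zero_or_pos with rfl | h
    · simp [ph_zero]
    rw [ph_eq z, ph_eq z a, ph_eq z b, Nat.xor_div_two, ih _ (by omega), ← ZMod.natCast_mod, Nat.xor_mod_two_eq, ZMod.natCast_mod]
    push_cast; ring
theorem ph_add (z z' : Nat → ZMod 2) (a : Nat) : Ph (z + z') a = Ph z a + Ph z' a := by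
  induction a using Nat.strong_induction_on generalizing z z' with
  | _ a ih =>
    rcases a.eq_zero_or_pos with rfl | h
    · simp [ph_zero]
    rw [ph_eq, ph_eq z a, ph_eq z' a]
    exact (congrArg _ (ih _ (by omega) (fun j => z (j + 1)) fun j => z' (j + 1))).trans (by rw [Pi.add_apply]; ring)
theorem ph_shift (z : Nat → ZMod 2) (c s : Nat) : Ph z (c <<< s) = Ph (fun j => z (j + s)) c := by
  induction s generalizing z with
  | zero => rfl
  | succ s ih => rw [Nat.shiftLeft_succ, ph_eq, Nat.mul_div_cancel_left _ two_pos, ih, Nat.cast_mul, show ((2 : Nat) : ZMod 2) = 0 from rfl]; simp [add_assoc]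
theorem ph_congr {d c : Nat} {z z' : Nat → ZMod 2} (hc : c < 2 ^ d) (h : ∀ j < d, z j = z' j) : Ph z c = Ph z' c := by
  induction d generalizing c z z' with
  | zero => rw [show c = 0 by omega, ph_zero, ph_zero]
  | succ d ih => rw [ph_eq z, ph_eq z', h 0 (by omega), ih (by omega) fun j hj => h (j + 1) (by omega)]
theorem ph_pow (z : Nat → ZMod 2) (j : Nat) : Ph z (1 <<< j) = z j := by rw [ph_shift, ph_eq]; simp [ph_zero]
theorem ph_fun (a : Nat) : Ph 0 a = 0 := by simpa using ph_add 0 0 a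
theorem ph_xsum {F : Nat → ZMod 2} (hx : ∀ a b, F (a ^^^ b) = F a + F b) (L : List Nat) (m : Nat) :
    Ph (fun j => F (nth 0 L j)) m = F (xsum L m) := by
  have h0 : F 0 = 0 := by simpa using hx 0 0
  induction L generalizing m with
  | nil => exact (congrArg (Ph · m) (funext fun _ => h0)).trans ((ph_fun m).trans h0.symm)
  | cons b L ih =>
    rw [ph_eq, xsum_cons, hx, Nat.shiftRight_one, ← ih, ← ZMod.natCast_mod]
    rcases Nat.mod_two_eq_zero_or_one m with h | h <;> simp [h, h0] <;> rfl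

variable {E G : Type*} [Group E] [Group G]
/-- the value of a word -/
def evf (x : Nat → E) (w : List Nat) : E := (w.map x).prod
theorem evf_cons (x : Nat → E) (a : Nat) (w : List Nat) : evf x (a :: w) = x a * evf x w := by simp [evf]
/-- the value of a stack -/
def pvs (x : Nat → E) (st : List Nat) : E := evf x st.reverse
theorem pvs_cons (x : Nat → E) (a : Nat) (w : List Nat) : pvs x (a :: w) = pvs x w * x a := by simp [pvs, evf]
/-- the rules for the letters below `k` -/
def rl (k : Nat) (T : List (List (List Nat))) (a b : Nat) : List Nat :=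
  ite' (and' (Nat.blt a k) (Nat.blt b k)) (nth [] (nth [] T a) b) []
/-- a list of applications of rules -/
abbrev Trc := List (List Nat × Nat × Nat)
def rva (st : List Nat) : List Nat → List Nat :=
  List.rec (motive := fun _ => List Nat → List Nat) (fun w => w) (fun a _ ih w => ih (a :: w)) st
theorem evf_rva (x : Nat → E) (st w : List Nat) : evf x (rva st w) = pvs x st * evf x w := by
  induction st generalizing w with
  | nil => exact (one_mul _).symm
  | cons a t ih => exact (ih (a :: w)).trans (by rw [pvs_cons, evf_cons, mul_assoc])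
/-- collection with a record of the rules used -/
def red (R : Nat → Nat → List Nat) (k : List Nat → Trc → Bool) (F : Nat) : List Nat → List Nat → Trc → Bool :=
  Nat.rec (motive := fun _ => List Nat → List Nat → Trc → Bool) (fun st w tr => k (rva st w) tr) (fun _ ih st w tr =>
    List.casesOn (motive := fun _ => Bool) w (k (rva st []) tr) fun b w' => List.casesOn (motive := fun _ => Bool) st (ih [b] w' tr)
      fun a st' => List.casesOn (motive := fun _ => Bool) (R a b) (ih (b :: a :: st') w' tr)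
        fun _ r => ih st' (cat r w') ((st', a, b) :: tr)) F
/-- the tail of a rule -/
def tal (x : Nat → E) (R : Nat → Nat → List Nat) (a b : Nat) : E :=
  List.casesOn (motive := fun _ => E) (R a b) 1 fun _ r => x a * x b * (evf x r)⁻¹
/-- the product of the tails -/
def tv (x : Nat → E) (R : Nat → Nat → List Nat) (tr : Trc) : E :=
  List.rec (motive := fun _ => E) 1 (fun e _ ih => ih * (pvs x e.1 * tal x R e.2.1 e.2.2 * (pvs x e.1)⁻¹)) tr
theorem red_ev (x : Nat → E) {R : Nat → Nat → List Nat} {k : List Nat → Trc → Bool} {F : Nat} {st w : List Nat} {tr : Trc}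
    (h : red R k F st w tr = true) : ∃ n t, k n t = true ∧ tv x R tr * pvs x st * evf x w = tv x R t * evf x n := by
  induction F generalizing st w tr with
  | zero => exact ⟨_, _, h, by rw [evf_rva, mul_assoc]⟩
  | succ F ih =>
    obtain _ | ⟨b, w⟩ := w
    · exact ⟨_, _, h, by rw [evf_rva, mul_assoc]⟩
    obtain _ | ⟨a, st⟩ := st
    · obtain ⟨n, t, p, q⟩ := ih (st := [b]) h
      exact ⟨n, t, p, by rw [← q, pvs_cons, evf_cons]; simp only [mul_assoc]⟩
    change List.casesOn (motive := fun _ => Bool) (R a b) _ _ = true at h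
    rcases e : R a b with _ | ⟨c, r⟩ <;> rw [e] at h <;> obtain ⟨n, t, p, q⟩ := ih h <;> refine ⟨n, t, p, ?_⟩
    · rw [← q, pvs_cons x b, evf_cons]; simp only [mul_assoc]
    · rw [← q, cat_eq]
      change _ = tv x R tr * (pvs x st * tal x R a b * _) * _ * _
      simp [tal, e, pvs_cons, evf, mul_assoc]

/-- coordinates `κ` on a normal subgroup `N`, with the dual action of the letters -/
structure XM (N : Subgroup E) (x : Nat → E) (κ : E → Nat → ZMod 2) (act : Nat → Nat → Nat) (d : Nat) : Prop where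
  nrm : N.Normal
  mul : ∀ n ∈ N, ∀ n' ∈ N, κ (n * n') = κ n + κ n'
  lt : ∀ i, ∀ m < 2 ^ d, act i m < 2 ^ d
  cj : ∀ i, ∀ n ∈ N, ∀ m < 2 ^ d, Ph (κ (x i * n * (x i)⁻¹)) m = Ph (κ n) (act i m)
  inj : ∀ n ∈ N, ∀ n' ∈ N, (∀ j < d, κ n j = κ n' j) → n = n'
  bas : ∀ i < d, ∃ n ∈ N, ∀ j < d, κ n j = if j = i then 1 else 0
def mkS (act : Nat → Nat → Nat) (c : Nat) (st : List Nat) : Nat :=
  List.rec (motive := fun _ => Nat) c (fun a _ ih => force ih (act a)) st
def acc (act : Nat → Nat → Nat) (d c : Nat) (tr : Trc) : Nat := List.rec (motive := fun _ => Nat) 0 (fun e _ ih =>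
  force ih fun r => Nat.xor r (Nat.shiftLeft (mkS act c e.1) (Nat.mul d (Nat.pair e.2.1 e.2.2)))) tr
/-- the unknown coordinates of the tails -/
def zt (x : Nat → E) (κ : E → Nat → ZMod 2) (R : Nat → Nat → List Nat) (d q : Nat) : ZMod 2 :=
  κ (tal x R (q / d).unpair.1 (q / d).unpair.2) (q % d)
def rdv (B : List Nat) (v : Nat) : Nat := List.rec (motive := fun _ => Nat) v
  (fun p _ ih => force ih fun u => ite' (tb u (Nat.log2 p)) (Nat.xor u p) u) B
def insV (v : Nat → Nat) (k : List Nat → Bool) (d : Nat) : List Nat → Bool := Nat.rec (motive := fun _ => List Nat → Bool) k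
  (fun j ih B => force (rdv B (v j)) fun u => ite' (Nat.beq u 0) (ih B) (ih (u :: B))) d
def insT (act : Nat → Nat → Nat) (d : Nat) (R : Nat → Nat → List Nat) (k : List Nat → Bool) (ts : List (Nat × Nat × Nat)) :
    List Nat → Bool := List.rec (motive := fun _ => List Nat → Bool) k (fun t _ ih B =>
  red R (fun n1 t1 => red R (fun n2 t2 => and' (decide (n1 = n2)) (insV (fun j => Nat.xor (acc act d (Nat.shiftLeft 1 j) t1)
    (acc act d (Nat.shiftLeft 1 j) t2)) ih d B)) 200 [t.2.1, t.1] [t.2.2] []) 200 [t.1] [t.2.1, t.2.2] []) ts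
def lam (act : Nat → Nat → Nat) (L : List (List Nat)) (w : List Nat) : Nat → Nat := List.rec (motive := fun _ => Nat → Nat)
  (fun _ => 0) (fun a _ ih c => Nat.xor (xsum (nth [] L a) c) (force (act a c) ih)) w
def finC (act : Nat → Nat → Nat) (d m : Nat) (T : List (List (List Nat))) (L : List (List Nat)) (B : List Nat) : Bool :=
  allN m fun a => allN m fun b => List.casesOn (motive := fun _ => Bool) (rl m T a b) true fun _ r => allN d fun j =>
    Nat.beq (rdv B (Nat.xor (Nat.shiftLeft (Nat.shiftLeft 1 j) (Nat.mul d (Nat.pair a b)))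
      (Nat.xor (lam act L [a, b] (Nat.shiftLeft 1 j)) (lam act L r (Nat.shiftLeft 1 j))))) 0
theorem ph_rdv {z : Nat → ZMod 2} {B : List Nat} (h : ∀ p ∈ B, Ph z p = 0) (v : Nat) : Ph z (rdv B v) = Ph z v := by
  induction B with
  | nil => rfl
  | cons p B ih =>
    rw [List.forall_mem_cons] at h
    change Ph z (force (rdv B v) fun u => ite' (tb u (Nat.log2 p)) (Nat.xor u p) u) = _
    rw [force_eq]
    cases tb (rdv B v) (Nat.log2 p)
    · exact ih h.2
    · exact (ph_xor ..).trans (by rw [h.1, add_zero, ih h.2])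
theorem insV_ok {z : Nat → ZMod 2} {v : Nat → Nat} {k : List Nat → Bool} {d : Nat} {B : List Nat} (hv : ∀ j < d, Ph z (v j) = 0)
    (h : ∀ p ∈ B, Ph z p = 0) (c : insV v k d B = true) : ∃ B, (∀ p ∈ B, Ph z p = 0) ∧ k B = true := by
  induction d generalizing B with
  | zero => exact ⟨B, h, c⟩
  | succ d ih =>
    change force (rdv B (v d)) (fun u => ite' (Nat.beq u 0) (insV v k d B) (insV v k d (u :: B))) = _ at c
    rw [force_eq] at c
    revert c
    cases Nat.beq (rdv B (v d)) 0
    · exact ih (fun j hj => hv j (by omega)) (List.forall_mem_cons.2 ⟨(ph_rdv h _).trans (hv d (by omega)), h⟩)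
    · exact ih (fun j hj => hv j (by omega)) h
theorem one_shl {j d : Nat} (h : j < d) : 1 <<< j < 2 ^ d := by rw [Nat.one_shiftLeft]; exact Nat.pow_lt_pow_right one_lt_two h
theorem ph_zt (x : Nat → E) (κ : E → Nat → ZMod 2) (R : Nat → Nat → List Nat) {d c : Nat} (hc : c < 2 ^ d) (a b : Nat) :
    Ph (zt x κ R d) (c <<< (d * Nat.pair a b)) = Ph (κ (tal x R a b)) c := by
  rw [ph_shift]
  exact ph_congr hc fun j hj => by
    rw [zt, Nat.add_mul_div_left _ _ (by omega), Nat.add_mul_mod_self_left, Nat.div_eq_of_lt hj, Nat.mod_eq_of_lt hj, zero_add,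
      Nat.unpair_pair]
def dec (m a : Nat) : List Nat := (List.range m).filter fun i => tb a i
def cod (w : List Nat) : Nat := List.rec (motive := fun _ => Nat) 0 (fun a _ ih => Nat.lor ih (Nat.shiftLeft 1 a)) w
def nfC (m : Nat) (T : List (List (List Nat))) : Bool := allN (2 ^ m) fun a => allN m fun i =>
  red (rl m T) (fun n _ => and' (Nat.blt (cod n) (2 ^ m)) (decide (dec m (cod n) = n))) 200 [] (i :: dec m a) []
theorem card_le_of_nf [Finite E] {y : Nat → E} {m : Nat} {T : List (List (List Nat))} (h : ∀ a b, tal y (rl m T) a b = 1)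
    (c : nfC m T = true) : Nat.card (Subgroup.closure (y '' Set.Iio m)) ≤ 2 ^ m := by
  have t : ∀ tr, tv y (rl m T) tr = 1 := fun tr => by
    induction tr with
    | nil => rfl
    | cons e _ ih => exact (congrArg₂ (· * ·) ih (by rw [h]; simp)).trans (one_mul 1)
  have k : ∀ g ∈ Submonoid.closure (y '' Set.Iio m), ∃ a < 2 ^ m, evf y (dec m a) = g := fun g hg => by
    induction hg using Submonoid.closure_induction_left with
    | one => exact ⟨0, by positivity, by simp [dec, tb_eq, evf]⟩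
    | mul_left _ hi _ _ ih =>
      obtain ⟨i, hi, rfl⟩ := hi
      obtain ⟨a, ha, rfl⟩ := ih
      obtain ⟨n, tr, p, q⟩ := red_ev y ((allN_iff _ _).1 ((allN_iff _ _).1 c a ha) i hi)
      simp only [and'_eq, Bool.and_eq_true, decide_eq_true_eq, Nat.blt_eq] at p
      exact ⟨_, p.1, by rw [p.2, ← evf_cons]; simpa [t, pvs, evf] using q.symm⟩
  refine ((Set.ncard_le_ncard (t := (fun a => evf y (dec m a)) '' Set.Iio (2 ^ m)) fun g hg => ?_).trans
    (Set.ncard_image_le (Set.finite_Iio _))).trans (Set.ncard_Iio_nat _).le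
  exact k g (by rwa [← Subgroup.closure_toSubmonoid_of_finite])
namespace XM
variable {N : Subgroup E} {x : Nat → E} {κ : E → Nat → ZMod 2} {act : Nat → Nat → Nat} {d : Nat} (h : XM N x κ act d)
include h
theorem one : κ 1 = 0 := by simpa using h.mul 1 (one_mem _) 1 (one_mem _)
theorem sur (v : Nat → ZMod 2) : ∃ n ∈ N, ∀ j < d, κ n j = v j := by
  have : ∀ t ≤ d, ∃ n ∈ N, ∀ j < d, κ n j = if j < t then v j else 0 := fun t ht => by
    induction t with
    | zero => exact ⟨1, one_mem _, by simp [h.one]⟩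
    | succ t ih =>
      obtain ⟨n, a, b⟩ := ih (by omega)
      obtain ⟨n', a', b'⟩ := h.bas t ht
      rcases (by decide : ∀ a : ZMod 2, a = 0 ∨ a = 1) (v t) with e | e
      · exact ⟨n, a, fun j hj => by rw [b j hj]; split_ifs <;> first | rfl | omega | rw [show j = t by omega, e]⟩
      · exact ⟨_, mul_mem a a', fun j hj => by
          rw [h.mul n a n' a', Pi.add_apply, b j hj, b' j hj]
          split_ifs <;> first | omega | simp only [add_zero] | rw [show j = t by omega, e, zero_add]⟩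
  obtain ⟨n, a, b⟩ := this d le_rfl
  exact ⟨n, a, fun j hj => by rw [b j hj, if_pos hj]⟩
theorem mk_ok {c : Nat} (hc : c < 2 ^ d) (st : List Nat) :
    mkS act c st < 2 ^ d ∧ ∀ n ∈ N, Ph (κ (pvs x st * n * (pvs x st)⁻¹)) c = Ph (κ n) (mkS act c st) := by
  induction st with
  | nil => exact ⟨hc, fun n _ => by simp [pvs, evf, mkS]⟩
  | cons a st ih =>
    rw [show mkS act c (a :: st) = act a (mkS act c st) from force_eq _ _]
    exact ⟨h.lt _ _ ih.1, fun n hn => by
      rw [← h.cj a n hn _ ih.1, ← ih.2 _ (h.nrm.1 n hn _), pvs_cons]; simp only [mul_assoc, mul_inv_rev]⟩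
variable {R : Nat → Nat → List Nat} (hτ : ∀ a b, tal x R a b ∈ N)
include hτ
theorem acc_ok {c : Nat} (hc : c < 2 ^ d) (tr : Trc) : tv x R tr ∈ N ∧ Ph (κ (tv x R tr)) c = Ph (zt x κ R d) (acc act d c tr) := by
  induction tr with
  | nil => exact ⟨one_mem _, by simp [tv, h.one, acc, ph_zero, ph_fun]⟩
  | cons e tr ih =>
    refine ⟨mul_mem ih.1 (h.nrm.1 _ (hτ _ _) _), (congrArg (Ph · c) (h.mul _ ih.1 _ (h.nrm.1 _ (hτ _ _) _))).trans ?_⟩
    rw [ph_add, ih.2, (h.mk_ok hc _).2 _ (hτ _ _), ← ph_zt x κ R (h.mk_ok hc _).1, ← ph_xor]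
    exact congrArg _ (force_eq (acc act d c tr) fun r => r ^^^ mkS act c e.1 <<< (d * Nat.pair e.2.1 e.2.2)).symm
theorem insT_ok {k : List Nat → Bool} {ts : List (Nat × Nat × Nat)} {B : List Nat} (hB : ∀ p ∈ B, Ph (zt x κ R d) p = 0)
    (c : insT act d R k ts B = true) : ∃ B, (∀ p ∈ B, Ph (zt x κ R d) p = 0) ∧ k B = true := by
  induction ts generalizing B with
  | nil => exact ⟨B, hB, c⟩
  | cons t ts ih =>
    dsimp only [insT] at c
    obtain ⟨n1, t1, p, q⟩ := red_ev x c
    obtain ⟨n2, t2, p', q'⟩ := red_ev x p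
    rw [and'_eq, Bool.and_eq_true, decide_eq_true_eq] at p'
    have e : tv x R t1 = tv x R t2 := mul_right_cancel (q.symm.trans (Eq.trans (by simp [pvs, evf, mul_assoc]) (p'.1 ▸ q')))
    obtain ⟨B', a, b⟩ := insV_ok (fun j hj => (ph_xor ..).trans (by
      erw [← (h.acc_ok hτ (one_shl hj) _).2, ← (h.acc_ok hτ (one_shl hj) _).2, e, CharTwo.add_self_eq_zero])) hB p'.2
    exact ih a b
omit hτ in
theorem lam_ok {z : Nat → ZMod 2} {L : List (List Nat)} {l : Nat → E} (hl : ∀ i, l i ∈ N ∧ ∀ j < d, κ (l i) j = Ph z (nth 0 (nth [] L i) j))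
    (w : List Nat) : ∃ n ∈ N, evf (fun i => l i * x i) w = n * evf x w ∧ ∀ c < 2 ^ d, Ph (κ n) c = Ph z (lam act L w c) := by
  induction w with
  | nil => exact ⟨1, one_mem _, (one_mul _).symm, fun c _ => by simp [h.one, lam, ph_zero, ph_fun]⟩
  | cons a w ih =>
    obtain ⟨n, p, q, r⟩ := ih
    refine ⟨_, mul_mem (hl a).1 (h.nrm.1 n p (x a)), by rw [evf_cons, evf_cons, q]; simp only [mul_assoc, inv_mul_cancel_left],
      fun c hc => ?_⟩
    rw [h.mul _ (hl a).1 _ (h.nrm.1 n p _), ph_add, h.cj a n p c hc, r _ (h.lt _ _ hc), ph_congr hc (hl a).2, ph_xsum (ph_xor z), ← ph_xor]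
    exact congrArg (fun t => Ph z (_ ^^^ t)) (force_eq _ _).symm
omit hτ in
theorem split [Finite E] {k m o : Nat} (hm : m ≤ k) {T : List (List (List Nat))} {L : List (List Nat)} (hτ : ∀ a b, tal x (rl k T) a b ∈ N)
    {ts : List (Nat × Nat × Nat)} {B : List Nat} (hB : ∀ p ∈ B, Ph (zt x κ (rl k T) d) p = 0)
    (c1 : insT act d (rl k T) (finC act d m T L) ts B = true) (c2 : nfC m T = true) (f : E →* G) (hf : f.ker = N)
    (c3 : 2 ^ m ≤ Nat.card (Subgroup.closure ((fun i => f (x i)) '' Set.Iio m))) (c4 : Nat.card f.range = 2 ^ m * o) (ho : Odd o) :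
    ∃ H : Subgroup E, H ⊓ N = ⊥ ∧ H ⊔ N = ⊤ := by
  obtain ⟨B, hB, c⟩ := h.insT_ok hτ hB c1
  choose l hl using fun i => h.sur fun j => Ph (zt x κ (rl k T) d) (nth 0 (nth [] L i) j)
  have t : ∀ a b, tal (fun i => l i * x i) (rl m T) a b = 1 := fun a b => by
    rcases e : rl m T a b with _ | ⟨u, r⟩
    · simp [tal, e]
    have ab : a < m ∧ b < m := by
      by_contra n
      rw [rl, ite'_eq, if_neg (by simpa [Nat.blt_eq] using n)] at e
      cases e
    have e' : rl k T a b = u :: r := by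
      rw [← e, rl, rl, ite'_eq, ite'_eq, if_pos (by simp [Nat.blt_eq]; omega), if_pos (by simpa [Nat.blt_eq] using ab)]
    have c' := (allN_iff _ _).1 ((allN_iff _ _).1 c a ab.1) b ab.2
    rw [e] at c'
    obtain ⟨n1, p1, q1, r1⟩ := h.lam_ok hl [a, b]
    obtain ⟨n2, p2, q2, r2⟩ := h.lam_ok hl r
    have := h.inj _ (mul_mem p1 (hτ a b)) _ p2 fun j hj => by
      have := (ph_rdv hB _).symm.trans ((congrArg _ ((beq_iff _ _).1 ((allN_iff _ _).1 c' j hj))).trans (ph_zero _))
      erw [ph_xor, ph_xor, ph_zt x κ _ (one_shl hj), ← r1 _ (one_shl hj), ← r2 _ (one_shl hj), ph_pow, ph_pow, ph_pow] at this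
      rw [h.mul _ p1 _ (hτ a b), Pi.add_apply]
      linear_combination this - CharTwo.add_self_eq_zero (κ n2 j)
    simp only [tal, e, e', evf_cons] at this q1 ⊢
    rw [q2, ← this, mul_inv_eq_one]
    simpa [evf, mul_assoc] using q1
  have c5 := card_le_of_nf t c2
  set H := Subgroup.closure ((fun i => l i * x i) '' Set.Iio m)
  have e : H.map f = Subgroup.closure ((fun i => f (x i)) '' Set.Iio m) := by
    rw [MonoidHom.map_closure, Set.image_image]
    have : ∀ i, f (l i) = 1 := fun i => hf.ge (hl i).1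
    simp only [map_mul, this, one_mul]
  rw [← e] at c3
  have i1 := (f.ker.subgroupOf H).index_mul_card
  have i2 := ((H.map f).subgroupOf f.range).index_mul_card
  have p : 0 < Nat.card (f.ker.subgroupOf H) := Nat.card_pos
  rw [← Subgroup.relIndex, Subgroup.relIndex_ker] at i1
  have i3 : Nat.card (H.map f) = 2 ^ m := by nlinarith
  rw [Nat.card_congr (Subgroup.subgroupOfEquivOfLe (Subgroup.map_le_range f H)).toEquiv, i3, c4, ← Subgroup.relIndex,
    ← Subgroup.index_comap, Subgroup.comap_map_eq, hf, mul_comm, mul_right_inj' (by positivity), sup_comm] at i2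
  have := h.nrm
  have : IsMulCommutative N := ⟨⟨fun a b => Subtype.ext (h.inj _ (mul_mem a.2 b.2) _ (mul_mem b.2 a.2) fun j _ =>
    congrFun ((h.mul _ a.2 _ b.2).trans ((add_comm _ _).trans (h.mul _ b.2 _ a.2).symm)) j)⟩⟩
  obtain ⟨n, q⟩ := (show IsPGroup 2 N from fun a => ⟨1, Subtype.ext ((pow_two a.1).trans (h.inj _ (mul_mem a.2 a.2) _ (one_mem _)
    fun j _ => by erw [h.mul _ a.2 _ a.2, h.one]; exact CharTwo.add_self_eq_zero _))⟩).exists_card_eq
  obtain ⟨K, a⟩ := H1.gaschutz_exists (A := N) (H := H) (by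
    rw [← hf, inf_comm, ← Subgroup.subgroupOf_map_subtype, (Subgroup.card_eq_one (H := f.ker.subgroupOf H)).1 (by rw [i3] at i1; nlinarith [Nat.two_pow_pos m]), Subgroup.map_bot]) rfl
    (by rw [q, i2]; exact (Nat.coprime_two_left.2 ho).pow_left n)
  exact ⟨K, a.disjoint.symm.eq_bot, sup_comm K N ▸ a.sup_eq_top⟩
end XM
end
end H28
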