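import Cfsg.Agent.H28.Ex2

/-! Extensions of the Mathieu group on 23 points by its two 11-dimensional modules. -/
namespace H28
open H27 Cfsg
noncomputable section

abbrev W24 : Type := GolayPt → ZMod 2
def pN (i : Nat) : Equiv.Perm GolayPt := (e23N.map GE.perm).getD i 1
theorem e23_acts : ActsL 24 GE.e (e23N.map GE.perm) e23N := actsL_of_m24chk (by decide +kernel)
theorem pN_acts (i : Nat) : Acts 24 GE.e (pN i) (nth .nil e23N i) := by rw [nth_eq]; exact e23_acts.getD i
theorem pN_mem (i : Nat) : pN i ∈ Spor.M23 :=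
  wordG_mem (H := Spor.M23) (fun g hg => ⟨map_perm_mem_M24 (by decide +kernel) g hg,
    e23_acts.stab_pt (b := 23) (by norm_num) (by decide +kernel) g hg⟩) [i] _ List.mem_cons_self
theorem nth_mem {α : Type} (z : α) (l : List α) (i : Nat) : nth z l i ∈ z :: l := by
  rw [nth_eq, List.getD_eq_getElem?_getD]
  rcases e : l[i]? with _ | a
  · exact List.mem_cons_self
  · exact List.mem_cons_of_mem _ (List.mem_of_getElem? e)
theorem wd_app {g : Equiv.Perm GolayPt} {N : Net} (a : Acts 24 GE.e g N) (c : Nat) : wd (N.app c) = wd c ∘ g := by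
  funext p
  have : gix (g p) = N.fn (gix p) := by rw [GE.acts_apply a]; exact GE.ix_e _ (Net.fn_lt a.ok (GE.ix_lt p))
  simp only [wd, Function.comp, Net.testBit_app a.ok, this]
theorem dot_app {g : Equiv.Perm GolayPt} {N : Net} (a : Acts 24 GE.e g N) (c : Nat) (v : W24) :
    wd c ⬝ᵥ (v ∘ ⇑g⁻¹) = wd (N.app c) ⬝ᵥ v := by rw [wd_app a]; exact dotProduct_comp_equiv_symm _ _ g
theorem dot_wd (a b : Nat) : wd a ⬝ᵥ wd b = pop24 (a &&& b) := by
  rw [← card_gfs, Enum.fs, Finset.card_filter, Nat.cast_sum]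
  exact Finset.sum_congr rfl fun p _ => by
    simp only [wd, Nat.testBit_and]
    change _ = ((if (a.testBit (gix p) && b.testBit (gix p)) = true then 1 else 0 : Nat) : ZMod 2)
    cases a.testBit (gix p) <;> cases b.testBit (gix p) <;> rfl
theorem dot_code {v w : W24} (hv : v ∈ golayCode) (hw : w ∈ golayCode) : v ⬝ᵥ w = 0 := by
  obtain ⟨a, p, rfl⟩ := exists_inC_of_mem hv
  obtain ⟨b, q, rfl⟩ := exists_inC_of_mem hw
  rw [dot_wd, ← card_gfs, GE.fs_and]
  exact (ZMod.natCast_eq_zero_iff_even).2 (even_card_inter (fs_mem_GC_of p) (fs_mem_GC_of q))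
/-- the code together with its translate by the unit vector at the extra point -/
def KK (w : W24) : Prop := w ∈ golayCode ∨ w + Pi.single none 1 ∈ golayCode
theorem wd_inf : wd 0x800000 = Pi.single none 1 := by decide +kernel
theorem kk_wd {c : Nat} (h : inK c = true) : KK (wd c) := by
  rw [inK, or'_eq, Bool.or_eq_true] at h
  exact h.imp wd_mem_of_inC fun h => by rw [← wd_inf, ← wd_xor]; exact wd_mem_of_inC h
theorem dot_kk {v w : W24} (hv : v ∈ golayCode) (h0 : v none = 0) (hw : KK w) : v ⬝ᵥ w = 0 :=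
  hw.elim (dot_code hv) fun h => by simpa [h0] using dot_code hv h
theorem ph_dot (L : List Nat) (v : W24) (m : Nat) : Ph (fun j => wd (nth 0 L j) ⬝ᵥ v) m = wd (xsum L m) ⬝ᵥ v :=
  ph_xsum (F := fun a => wd a ⬝ᵥ v) (fun a b => by rw [wd_xor, add_dotProduct]) L m
theorem card_M23 : Nat.card Spor.M23 = 2 ^ 7 * 79695 := (Nat.card_congr m23Equiv.toEquiv).symm.trans card_H23

variable {E : Type*} [Group E]
theorem map_evf {G : Type*} [Group G] (f : E →* G) (x : Nat → E) (w : List Nat) : f (evf x w) = evf (fun i => f (x i)) w := by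
  rw [evf, map_list_prod, List.map_map]; rfl
theorem map_tau {G : Type*} [Group G] (f : E →* G) (x : Nat → E) (R : Nat → Nat → List Nat) (a b : Nat) :
    f (tal x R a b) = tal (fun i => f (x i)) R a b := by
  rcases e : R a b with _ | ⟨c, r⟩ <;> simp [tal, e, map_evf]
theorem tau_pN (a b : Nat) : tal pN (rl 11 e23T) a b = 1 := by
  rcases e : rl 11 e23T a b with _ | ⟨c, r⟩
  · simp [tal, e]
  have ab : a < 11 ∧ b < 11 := by
    by_contra n
    rw [rl, ite'_eq, if_neg (by simpa [Nat.blt_eq] using n)] at e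
    cases e
  have c' := (allN_iff _ _).1 ((allN_iff _ _).1 e23_r a ab.1) b ab.2
  rw [e] at c'
  simp only [tal, e, mul_inv_eq_one]
  exact (congrArg (pN a * ·) (mul_one _).symm).trans (GE.prod_eq (e23_acts.word _) (e23_acts.word _) c')
theorem tau_ker {f : E →* Equiv.Perm GolayPt} {x : Nat → E} (hx : ∀ i, f (x i) = pN i) (a b : Nat) :
    f (tal x (rl 11 e23T) a b) = 1 := by rw [map_tau, funext hx, tau_pN]
theorem m23_split [Finite E] {f : E →* Equiv.Perm GolayPt} (hr : f.range = Spor.M23) {x : Nat → E} (hx : ∀ i, f (x i) = pN i)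
    {κ : E → Nat → ZMod 2} {act : Nat → Nat → Nat} (h : XM f.ker x κ act 11) {L : List (List Nat)} {ts : List (Nat × Nat × Nat)}
    {B : List Nat} (hB : ∀ p ∈ B, Ph (zt x κ (rl 11 e23T) 11) p = 0)
    (c : insT act 11 (rl 11 e23T) (finC act 11 7 e23T L) ts B = true) : ∃ H : Subgroup E, H ⊓ f.ker = ⊥ ∧ H ⊔ f.ker = ⊤ := by
  refine h.split (by norm_num) (tau_ker hx) hB c e23_nf f rfl ?_ (hr ▸ card_M23) (by decide)
  refine (e23_acts.word [0, 1, 2, 3, 4, 5, 6]).le_card_slp (K := 5) GE.injOn (by norm_num) e23S [3, 4, 5, 6, 7, 8, 9, 2, 1, 0]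
    [(1, 1, 7), (4, 2, 2), (2, 1, 1)] (fun g hg => ?_) (by decide +kernel) (by decide +kernel)
  obtain ⟨i, hi, rfl⟩ := List.mem_map.1 hg
  exact Subgroup.subset_closure ⟨i, by simp at hi ⊢; omega, hx i⟩
theorem ex_lift {f : E →* Equiv.Perm GolayPt} (hr : f.range = Spor.M23) : ∃ x : Nat → E, ∀ i, f (x i) = pN i :=
  ⟨fun i => (hr.ge (pN_mem i)).choose, fun i => (hr.ge (pN_mem i)).choose_spec⟩
/-- the permutation action of an extension -/
def qf {N : Subgroup E} [N.Normal] (φ : E ⧸ N ≃* Spor.M23) : E →* Equiv.Perm GolayPt :=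
  (Spor.M23.subtype.comp φ.toMonoidHom).comp (QuotientGroup.mk' N)
theorem qf_ker {N : Subgroup E} [N.Normal] (φ : E ⧸ N ≃* Spor.M23) : (qf φ).ker = N := by
  ext g; simp [qf]
theorem qf_range {N : Subgroup E} [N.Normal] (φ : E ⧸ N ≃* Spor.M23) : (qf φ).range = Spor.M23 := by
  rw [qf, MonoidHom.range_comp, QuotientGroup.range_mk', ← MonoidHom.range_eq_map, MonoidHom.range_comp,
    MonoidHom.range_eq_top_of_surjective _ φ.surjective, ← MonoidHom.range_eq_map, Subgroup.range_subtype]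

theorem code_split [Finite E] {f : E →* Equiv.Perm GolayPt} (hr : f.range = Spor.M23) (ψ : E → W24)
    (hm : ∀ n ∈ f.ker, ∀ n' ∈ f.ker, ψ (n * n') = ψ n + ψ n') (hi : ∀ n ∈ f.ker, ψ n = 0 → n = 1)
    (h1 : ∀ w, (∃ n ∈ f.ker, ψ n = w) ↔ w ∈ golayCode ∧ w none = 0)
    (hc : ∀ g, ∀ n ∈ f.ker, ψ (g * n * g⁻¹) = ψ n ∘ ⇑(f g)⁻¹) : ∃ H : Subgroup E, H ⊓ f.ker = ⊥ ∧ H ⊔ f.ker = ⊤ := by
  obtain ⟨x, hx⟩ := ex_lift hr
  refine m23_split hr hx (κ := fun n j => wd (nth 0 u11 j) ⬝ᵥ ψ n) ⟨inferInstance, fun n a n' b => funext fun j => ?_,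
    fun i m _ => ?_, fun i n a m b => ?_, fun n a n' b c => ?_, fun i a => ?_⟩ (by simp) e23_c1
  · rw [hm n a n' b, dotProduct_add]; rfl
  · rw [ac1, force_eq]; exact Nat.and_le_right.trans_lt (by norm_num)
  · have := kk_wd ((allN_iff _ _).1 ((allL_iff _ _).1 e23_a1 _ (nth_mem _ _ i)) m b)
    have k := (h1 _).1 ⟨n, a, rfl⟩
    rw [ph_dot, ph_dot, hc _ n a, hx, dot_app (pN_acts i), ← CharTwo.add_eq_zero, ← add_dotProduct, ← wd_xor, dotProduct_comm]
    exact dot_kk k.1 k.2 this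
  · have e : ψ (n * n'⁻¹) = ψ n + ψ n' := by
      have := hm _ (mul_mem a (inv_mem b)) _ b
      rw [inv_mul_cancel_right] at this
      rw [this, add_assoc, CharTwo.add_self_eq_zero, add_zero]
    have k := (h1 _).1 ⟨_, mul_mem a (inv_mem b), rfl⟩
    obtain ⟨t, p, q⟩ := exists_inC_of_mem k.1
    have := allC_spec (p := fun t => or' (Nat.beq t 0) (or' (tb t 23) (anyN 11 fun j => Nat.beq (pop24 (nth 0 u11 j &&& t)) 1)))
      (by decide +kernel) p
    simp only [or'_eq, Bool.or_eq_true, beq_iff, anyN_iff, tb_eq] at this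
    rcases this with rfl | r | ⟨j, r, s⟩
    · exact mul_inv_eq_one.1 (hi _ (mul_mem a (inv_mem b)) (q.symm.trans wd_zero))
    · simpa [← q, wd, gix, r] using k.2
    · have := dot_wd (nth 0 u11 j) t
      rw [s, q, e, dotProduct_add, c j r, CharTwo.add_self_eq_zero] at this
      cases this
  · have := (allN_iff _ _).1 (show (allN 11 fun i => anyN 4096 fun a => and' (Nat.beq (enc a >>> 12) (1 <<< i)) (allN 11 fun j =>
      Nat.beq (pop24 (nth 0 u11 j &&& enc a)) (ite' (Nat.beq j i) 1 0))) = true by decide +kernel) i a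
    simp only [and'_eq, Bool.and_eq_true, beq_iff, anyN_iff, allN_iff, ite'_eq] at this
    obtain ⟨t, p, q, r⟩ := this
    obtain ⟨n, b, c⟩ := (h1 (wd (enc t))).2 ⟨wd_mem_of_inC (inC_enc p), by
      have := congrArg (·.testBit 11) q
      simp only [Nat.testBit_shiftRight, Nat.one_shiftLeft, Nat.testBit_two_pow] at this
      simp [wd, gix, this, a.ne]⟩
    exact ⟨n, b, fun j hj => by simp [c, dot_wd, r j hj]⟩
end
end H28
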