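import Cfsg.Agent.H28.Ex3

/-! Extensions of the Mathieu group on 23 points by the cocode module: uniqueness. -/
namespace H28
open H27 Cfsg
noncomputable section

variable {E E' : Type*} [Group E] [Group E']
/-- an extension by the cocode module -/
structure CT (f : E →* Equiv.Perm GolayPt) (θ : W24 → E) : Prop where
  rng : f.range = Spor.M23
  mul : ∀ w w', θ (w + w') = θ w * θ w'
  ker : ∀ g, f g = 1 ↔ ∃ w, θ w = g
  one : ∀ w, θ w = 1 ↔ KK w
  cj : ∀ g w, θ (w ∘ ⇑(f g)⁻¹) = g * θ w * g⁻¹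
theorem b11_mem (j : Nat) : wd (nth 0 b11 j) ∈ golayCode ∧ wd (nth 0 b11 j) none = 0 := by
  have := (allL_iff _ _).1 (show (allL (0 :: b11) fun t => and' (inC t) (Nat.beq (t >>> 23) 0)) = true by decide +kernel) _ (nth_mem _ _ j)
  rw [and'_eq, Bool.and_eq_true, beq_iff] at this
  exact ⟨wd_mem_of_inC this.1, if_neg (by simpa [gix] using congrArg (·.testBit 0) this.2)⟩
theorem kk_add {v w : W24} (hv : KK v) (hw : KK w) : KK (v + w) := by
  rcases hv with a | a <;> rcases hw with b | b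
  · exact .inl (add_mem a b)
  · exact .inr (add_assoc v w _ ▸ add_mem a b)
  · exact .inr (add_right_comm v w _ ▸ add_mem a b)
  · exact .inl (by simpa [add_add_add_comm, CharTwo.add_self_eq_zero] using add_mem a b)
theorem kk_of_dot {w : W24} (h : ∀ j < 11, wd (nth 0 b11 j) ⬝ᵥ w = 0) : KK w := by
  have k : ∀ w : W24, ∃ m < 2 ^ 11, KK (w + wd m) ∧ ∀ j < 11, wd (nth 0 b11 j) ⬝ᵥ w = wd m (GE.e j) := fun w => by
    induction w using Pi.single_induction with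
    | zero => exact ⟨0, by norm_num, .inl (by simp [wd_zero]), by simp [wd_zero]⟩
    | add v w a b =>
      obtain ⟨m, p, q, r⟩ := a
      obtain ⟨m', p', q', r'⟩ := b
      exact ⟨_, Nat.xor_lt_two_pow p p', by rw [wd_xor, add_add_add_comm]; exact kk_add q q', fun j hj => by
        rw [dotProduct_add, r j hj, r' j hj, wd_xor]; rfl⟩
    | single p a =>
      rcases (by decide : ∀ a : ZMod 2, a = 0 ∨ a = 1) a with rfl | rfl
      · exact ⟨0, by norm_num, .inl (by simp [wd_zero]), by simp [wd_zero]⟩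
      have := (allN_iff _ _).1 (show (allN 24 fun i => anyN 2048 fun m => and' (inK (2 ^ i ^^^ m)) (allN 11 fun j =>
        decide (tb (nth 0 b11 j) i = tb m j))) = true by decide +kernel) _ (GE.ix_lt p)
      simp only [and'_eq, Bool.and_eq_true, anyN_iff, allN_iff, decide_eq_true_eq, tb_eq] at this
      obtain ⟨m, a, b, c⟩ := this
      refine ⟨m, a, ?_, fun j hj => ?_⟩
      · have := kk_wd b
        rwa [wd_xor, show wd (2 ^ GE.ix p) = Pi.single p 1 from funext fun q => by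
          simp [wd, Nat.testBit_two_pow, Pi.single_apply, show gix = GE.ix from rfl, GE.ix_inj.eq_iff, eq_comm]] at this
      · rw [dotProduct_single, mul_one, wd, wd, show gix (GE.e j) = j from GE.ix_e _ (by omega), ← c j hj]; rfl
  obtain ⟨m, p, q, r⟩ := k w
  rwa [show m = 0 from eq_of_testBit_lt p (by norm_num) fun j hj => by
    have := (r j hj).symm.trans (h j hj)
    rw [wd, show gix (GE.e j) = j from GE.ix_e _ (by omega)] at this
    simpa using this, wd_zero, add_zero] at q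
/-- coordinates -/
def ka (θ : W24 → E) (n : E) (j : Nat) : ZMod 2 := wd (nth 0 b11 j) ⬝ᵥ Function.invFun θ n
namespace CT
variable {f : E →* Equiv.Perm GolayPt} {θ : W24 → E} (h : CT f θ)
include h
theorem zero : θ 0 = 1 := (h.one 0).2 (.inl (zero_mem _))
theorem sq (w : W24) : θ w * θ w = 1 := by rw [← h.mul, CharTwo.add_self_eq_zero, h.zero]
theorem ka_eq (w : W24) (j : Nat) : ka θ (θ w) j = wd (nth 0 b11 j) ⬝ᵥ w := by
  rw [ka, ← CharTwo.add_eq_zero, ← dotProduct_add]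
  exact dot_kk (b11_mem j).1 (b11_mem j).2 ((h.one _).1 (by rw [h.mul, Function.invFun_eq (f := θ) ⟨w, rfl⟩, h.sq]))
theorem xm {x : Nat → E} (hx : ∀ i, f (x i) = pN i) : XM f.ker x (ka θ) (fun i => ac2 (nth .nil e23N i)) 11 := by
  refine ⟨inferInstance, fun n a n' b => funext fun j => ?_, fun i m _ => ?_, fun i n a m b => ?_, fun n a n' b c => ?_, fun i a => ?_⟩
  · obtain ⟨w, rfl⟩ := (h.ker _).1 a
    obtain ⟨w', rfl⟩ := (h.ker _).1 b
    rw [← h.mul, Pi.add_apply, h.ka_eq, h.ka_eq, h.ka_eq, dotProduct_add]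
  · rw [ac2, force_eq]; exact Nat.and_le_right.trans_lt (by norm_num)
  · obtain ⟨w, rfl⟩ := (h.ker _).1 a
    rw [← h.cj, funext (h.ka_eq _), funext (h.ka_eq _), ph_dot, ph_dot, hx, dot_app (pN_acts i),
      (beq_iff _ _).1 ((allN_iff _ _).1 ((allL_iff _ _).1 e23_a2 _ (nth_mem _ _ i)) m b)]
  · obtain ⟨w, rfl⟩ := (h.ker _).1 a
    obtain ⟨w', rfl⟩ := (h.ker _).1 b
    have := (h.one _).2 (kk_of_dot (w := w + w') fun j hj => by
      rw [dotProduct_add, ← h.ka_eq, ← h.ka_eq, c j hj, CharTwo.add_self_eq_zero])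
    rw [h.mul, ← h.sq w'] at this
    exact mul_right_cancel this
  · refine ⟨θ (wd (2 ^ i)), (h.ker _).2 ⟨_, rfl⟩, fun j hj => ?_⟩
    have := (allN_iff _ _).1 ((allN_iff _ _).1 (show (allN 11 fun i => allN 11 fun j =>
      Nat.beq (pop24 (nth 0 b11 j &&& 2 ^ i)) (ite' (Nat.beq j i) 1 0)) = true by decide +kernel) i a) j hj
    simp only [beq_iff, ite'_eq] at this
    simp [h.ka_eq, dot_wd, this]
theorem split [Finite E] {x : Nat → E} (hx : ∀ i, f (x i) = pN i) (c : Ph (zt x (ka θ) (rl 11 e23T) 11) e23e = 0) :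
    ∃ H : Subgroup E, H ⊓ f.ker = ⊥ ∧ H ⊔ f.ker = ⊤ := m23_split h.rng hx (h.xm hx) (by simpa using c) e23_c2
end CT
theorem iso_of_compl {P : Type*} [Group P] {D : Subgroup P} [D.Normal] {M H : Subgroup (P ⧸ D)} (h1 : H ⊓ M = ⊥) (h2 : H ⊔ M = ⊤)
    (p : P →* E) (hs : Function.Surjective p) (a : ∀ y ∈ D, p y = 1 → y = 1) (b : M = p.ker.map (QuotientGroup.mk' D)) :
    Nonempty (H.comap (QuotientGroup.mk' D) ≃* E) := by
  refine ⟨MulEquiv.ofBijective (p.comp (Subgroup.subtype _)) ⟨(injective_iff_map_eq_one _).2 fun y c => Subtype.ext (a _ ?_ c), fun g => ?_⟩⟩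
  · exact (QuotientGroup.eq_one_iff _).1 (h1.le ⟨y.2, b.ge ⟨y, c, rfl⟩⟩)
  obtain ⟨y, rfl⟩ := hs g
  have : M.Normal := b ▸ Subgroup.Normal.map inferInstance _ (QuotientGroup.mk'_surjective D)
  obtain ⟨u, c, v, d, e⟩ := Subgroup.mem_sup_of_normal_right.1 (h2.ge (Subgroup.mem_top (QuotientGroup.mk' D y)))
  obtain ⟨k, c', rfl⟩ := b.le d
  exact ⟨⟨y * k⁻¹, by rwa [Subgroup.mem_comap, map_mul, ← e, map_inv, mul_inv_cancel_right]⟩, by simp [MonoidHom.mem_ker.1 c']⟩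
theorem CT.iso [Finite E] [Finite E'] {f : E →* Equiv.Perm GolayPt} {θ : W24 → E} (h : CT f θ) {f' : E' →* Equiv.Perm GolayPt}
    {θ' : W24 → E'} (h' : CT f' θ') (n : ∀ H : Subgroup E, H ⊓ f.ker = ⊥ → H ⊔ f.ker ≠ ⊤)
    (n' : ∀ H : Subgroup E', H ⊓ f'.ker = ⊥ → H ⊔ f'.ker ≠ ⊤) : Nonempty (E ≃* E') := by
  let P := (f.comp (MonoidHom.fst E E')).eqLocus (f'.comp (MonoidHom.snd E E'))
  let p : P →* E := (MonoidHom.fst E E').comp P.subtype
  let p' : P →* E' := (MonoidHom.snd E E').comp P.subtype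
  have pp : ∀ y, f' (p' y) = f (p y) := fun y => y.2.symm
  have ext : ∀ y y', p y = p y' → p' y = p' y' → y = y' := fun y y' a b => Subtype.ext (Prod.ext a b)
  have k : ∀ w, f (θ w) = 1 := fun w => (h.ker _).2 ⟨w, rfl⟩
  have k' : ∀ w, f' (θ' w) = 1 := fun w => (h'.ker _).2 ⟨w, rfl⟩
  let t : W24 → W24 → P := fun w w' => ⟨(θ w, θ' w'), (k w).trans (k' w').symm⟩
  have tm : ∀ a b c d, t (a + b) (c + d) = t a c * t b d := fun a b c d => ext _ _ (h.mul _ _) (h'.mul _ _)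
  have tk : ∀ y, f (p y) = 1 → ∃ w w', t w w' = y := fun y a => by
    obtain ⟨w, b⟩ := (h.ker _).1 a
    obtain ⟨w', c⟩ := (h'.ker _).1 ((pp y).trans a)
    exact ⟨w, w', ext _ _ b c⟩
  have tc : ∀ y w w', t (w ∘ ⇑(f (p y))⁻¹) (w' ∘ ⇑(f (p y))⁻¹) = y * t w w' * y⁻¹ := fun y w w' =>
    ext _ _ (h.cj _ _) (pp y ▸ h'.cj _ _)
  let D : Subgroup P := ⟨⟨⟨{y | ∃ w, t w w = y}, by rintro _ _ ⟨a, rfl⟩ ⟨b, rfl⟩; exact ⟨_, tm ..⟩⟩, 0, ext _ _ h.zero h'.zero⟩, by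
    rintro _ ⟨a, rfl⟩; exact ⟨a, eq_inv_of_mul_eq_one_left (ext _ _ (h.sq a) (h'.sq a))⟩⟩
  have : D.Normal := ⟨by rintro _ ⟨a, rfl⟩ y; exact ⟨_, tc ..⟩⟩
  let F := QuotientGroup.lift D (f.comp p) (by rintro _ ⟨a, rfl⟩; exact k a)
  have td : ∀ w w', QuotientGroup.mk' D (t w w') = QuotientGroup.mk' D (t (w + w') 0) := fun w w' => by
    have := tm (w + w') w' 0 w'
    rw [add_assoc, CharTwo.add_self_eq_zero, add_zero, zero_add] at this
    rw [this, map_mul, show QuotientGroup.mk' D (t w' w') = 1 from (QuotientGroup.eq_one_iff _).2 ⟨w', rfl⟩, mul_one]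
  have ps : Function.Surjective p := fun g => let ⟨g', a⟩ := h'.rng.ge (h.rng.le ⟨g, rfl⟩); ⟨⟨(g, g'), a.symm⟩, rfl⟩
  have ps' : Function.Surjective p' := fun g => let ⟨g', a⟩ := h.rng.ge (h'.rng.le ⟨g, rfl⟩); ⟨⟨(g', g), a⟩, rfl⟩
  have c : CT F fun w => QuotientGroup.mk' D (t w 0) := by
    refine ⟨le_antisymm ?_ fun g a => ?_, fun w w' => ?_, fun g => ?_, fun w => ?_, fun g w => ?_⟩
    · rintro _ ⟨⟨y⟩, rfl⟩
      exact h.rng.le ⟨p y, rfl⟩
    · obtain ⟨g, rfl⟩ := h.rng.ge a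
      obtain ⟨y, rfl⟩ := ps g
      exact ⟨y, rfl⟩
    · rw [← map_mul, ← tm, add_zero]
    · obtain ⟨y⟩ := g
      exact ⟨fun a => let ⟨w, w', b⟩ := tk y a; ⟨_, (td w w').symm.trans (congrArg _ b)⟩, fun ⟨w, a⟩ => a ▸ k w⟩
    · rw [← h.one]
      refine (QuotientGroup.eq_one_iff _).trans ⟨?_, fun a => ⟨0, ext _ _ (h.zero.trans a.symm) rfl⟩⟩
      rintro ⟨v, a⟩
      exact (congrArg p a).symm.trans ((h.one _).2 ((h'.one _).1 ((congrArg p' a).trans h'.zero)))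
    · obtain ⟨y⟩ := g
      exact congrArg (QuotientGroup.mk' D) (tc y w 0)
  obtain ⟨x, hx⟩ := ex_lift (f := f.comp p) (by rw [MonoidHom.range_comp, MonoidHom.range_eq_top_of_surjective _ ps,
    ← MonoidHom.range_eq_map, h.rng])
  have z : ∀ a : ZMod 2, a ≠ 0 → a = 1 := by decide
  have z1 := z _ fun a => let ⟨H, b, c⟩ := h.split (x := fun i => p (x i)) hx a; n H b c
  have z2 := z _ fun a => let ⟨H, b, c⟩ := h'.split (x := fun i => p' (x i)) (fun i => (pp _).trans (hx i)) a; n' H b c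
  obtain ⟨H, a, b⟩ := c.split (x := fun i => QuotientGroup.mk' D (x i)) hx (by
    refine Eq.trans (congrArg (Ph · _) (funext fun q => ?_)) ((ph_add ..).trans ((congrArg₂ (· + ·) z1 z2).trans rfl))
    obtain ⟨w, w', e⟩ := tk _ (tau_ker hx (q / 11).unpair.1 (q / 11).unpair.2)
    rw [Pi.add_apply, zt, zt, zt, ← map_tau, ← map_tau, ← map_tau, ← e, td, c.ka_eq, dotProduct_add, ← h.ka_eq, ← h'.ka_eq]; rfl)
  obtain ⟨i⟩ := iso_of_compl a b p ps (by rintro _ ⟨w, rfl⟩ a; exact ext _ _ a ((h'.one _).2 ((h.one _).1 a))) (by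
    ext ⟨y⟩
    refine ⟨fun a => ?_, fun ⟨u, a, b⟩ => b ▸ (congrArg f a).trans f.map_one⟩
    obtain ⟨w, w', rfl⟩ := tk y a
    exact ⟨t 0 (w + w'), h.zero, by rw [td, zero_add, ← td]; rfl⟩)
  obtain ⟨j⟩ := iso_of_compl a b p' ps' (by rintro _ ⟨w, rfl⟩ a; exact ext _ _ ((h.one _).2 ((h'.one _).1 a)) a) (by
    ext ⟨y⟩
    refine ⟨fun a => ?_, fun ⟨u, a, b⟩ => b ▸ (pp u).symm.trans ((congrArg f' a).trans f'.map_one)⟩
    obtain ⟨w, w', rfl⟩ := tk y a
    exact ⟨t (w + w') 0, h'.zero, (td w w').symm⟩)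
  exact ⟨i.symm.trans j⟩
theorem CT.of {N : Subgroup E} [N.Normal] (φ : E ⧸ N ≃* Spor.M23) (θ : W24 →+ Additive N) (hs : Function.Surjective θ)
    (hk : ∀ w, θ w = 0 ↔ KK w) (hθ : ∀ g w, ((θ (w ∘ ⇑(qf φ g)⁻¹)).toMul : E) = g * (θ w).toMul * g⁻¹) :
    CT (qf φ) fun w => (θ w).toMul := by
  refine ⟨qf_range φ, fun w w' => by rw [map_add]; rfl, fun g => ?_, fun w => by rw [← hk]; simp, hθ⟩
  rw [← MonoidHom.mem_ker, qf_ker]
  exact ⟨fun a => let ⟨w, b⟩ := hs (Additive.ofMul ⟨g, a⟩); ⟨w, by rw [b]; rfl⟩, fun ⟨w, a⟩ => a ▸ (θ w).toMul.2⟩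
end
end H28
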