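import Cfsg.Agent.H28.Ex5

/-! A non-split extension of the Mathieu group on 23 points by the cocode module, from the Parker loop. -/
namespace H28
open H27 Cfsg
open scoped Pointwise
noncomputable section
attribute [local irreducible] dotProduct pkE wd

/-- the code words vanishing at the extra point -/
def C11 : Submodule (ZMod 2) W24 := golayCode ⊓ LinearMap.ker (LinearMap.proj none)
theorem c11_ex {a : W24} (h : a ∈ C11) : ∃ m < 2048, wd (xsum b11 m) = a := by
  obtain ⟨t, p, rfl⟩ := exists_inC_of_mem h.1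
  have := allC_spec (p := fun t => or' (tb t 23) (Nat.beq (xsum b11 (t &&& 2047)) t)) (by decide +kernel) p
  simp only [or'_eq, Bool.or_eq_true, beq_iff, tb_eq] at this
  rcases this with r | r
  · have : wd t none = 0 := h.2
    simp [wd, gix, r] at this
  · exact ⟨_, Nat.and_le_right.trans_lt (by norm_num), congrArg wd r⟩
theorem supp_comp (g : Equiv.Perm GolayPt) (w : W24) : support₂ (w ∘ ⇑g⁻¹) = g • support₂ w := by
  ext p; simp [support₂, ← Finset.inv_smul_mem_iff]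
theorem c11_comp (g : Spor.M23) (a : W24) (h : a ∈ C11) : a ∘ ⇑(g : Equiv.Perm GolayPt)⁻¹ ∈ C11 := by
  obtain ⟨w, p, q⟩ := smul_mem_GC g.2.1 ⟨a, h.1, rfl⟩
  rw [← supp_comp] at q
  exact ⟨support₂_inj q ▸ p, (congrArg a (g⁻¹.2.2 : _ = _)).trans h.2⟩
theorem wd_and (x y : Nat) : wd (x &&& y) = wd x * wd y := by
  funext p
  simp only [wd, Nat.testBit_and, Pi.mul_apply]
  cases x.testBit (gix p) <;> cases y.testBit (gix p) <;> rfl
/-- the cocycle of the loop -/
def pth (a c : W24) : ZMod 2 := wd (pkE (GE.cd (support₂ a))) ⬝ᵥ c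
theorem pth_wd {x : Nat} (hx : x < 2 ^ 24) (c : W24) : pth (wd x) c = wd (pkE x) ⬝ᵥ c := by
  rw [pth, support_wd, GE.fs_inj (GE.cd_lt _) hx (GE.fs_cd _)]
theorem pth_self {a : W24} (h : a ∈ C11) : pth a a = ((support₂ a).card / 4 : Nat) := by
  obtain ⟨m, p, rfl⟩ := c11_ex h
  have := (allN_iff _ _).1 pk_chk m p
  simp only [force_eq, and'_eq, Bool.and_eq_true, beq_iff, Nat.blt_eq] at this
  rw [pth_wd this.1.1, dot_wd, support_wd, card_gfs]
  exact (ZMod.natCast_eq_natCast_iff' _ _ 2).2 this.1.2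
theorem pth_add {a b c : W24} (ha : a ∈ C11) (hb : b ∈ C11) (hc : c ∈ C11) : pth (a + b) c = pth a c + pth b c + (a * b) ⬝ᵥ c := by
  obtain ⟨m, -, rfl⟩ := c11_ex hb
  refine (xsum_ind (fun b => wd b ∈ C11 ∧ ∀ a ∈ C11, pth (a + wd b) c = pth a c + pth (wd b) c + (a * wd b) ⬝ᵥ c) ?_ ?_ b11 ?_ m).2 a ha
  · refine ⟨wd_zero ▸ zero_mem _, fun a _ => ?_⟩
    rw [pth_wd (x := 0) (by norm_num), show pkE 0 = 0 by decide +kernel]
    simp [wd_zero]
  · rintro x y ⟨p, q⟩ ⟨r, s⟩
    rw [wd_xor]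
    refine ⟨add_mem p r, fun a h => ?_⟩
    rw [← add_assoc, s _ (add_mem h p), q a h, s _ p, add_mul, mul_add, add_dotProduct, add_dotProduct]
    ring
  · intro b hb
    obtain ⟨j, hj, e⟩ := List.getElem_of_mem hb
    refine ⟨(show nth 0 b11 j = b by rw [nth_eq, ← e, List.getD_eq_getElem]) ▸ b11_mem j, fun a h => ?_⟩
    obtain ⟨m, p, rfl⟩ := c11_ex h
    have := (allN_iff _ _).1 pk_chk m p
    simp only [force_eq, and'_eq, Bool.and_eq_true, allL_iff, Nat.blt_eq] at this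
    have k := dot_kk hc.1 hc.2 (kk_wd (this.2 b hb).2)
    rw [← wd_xor, pth_wd this.1.1, pth_wd (this.2 b hb).1, pth_wd (Nat.xor_lt_two_pow this.1.1 (this.2 b hb).1), ← wd_and]
    simp only [Nat.xor_eq, Nat.land_eq] at k
    rw [dotProduct_comm, wd_xor, wd_xor, wd_xor, add_dotProduct, add_dotProduct, add_dotProduct] at k
    exact CharTwo.add_eq_zero.1 (by rw [← k]; ac_rfl)
/-- the action on the code -/
def ga (g : Spor.M23) : C11 →ₗ[ZMod 2] C11 := (LinearMap.funLeft (ZMod 2) (ZMod 2) ⇑(g : Equiv.Perm GolayPt)⁻¹).restrict (c11_comp g)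
theorem ga_inv (g : Spor.M23) (a : C11) : ga g (ga g⁻¹ a) = a := Subtype.ext (funext fun p => congrArg a.1 (by simp))
def bet (g : Spor.M23) (a b : C11) : ZMod 2 := pth (ga g a) (ga g b) + pth a b
theorem exists_quad {V : Type*} [AddCommGroup V] [Module (ZMod 2) V] [Module.Finite (ZMod 2) V] (B : V →ₗ[ZMod 2] V →ₗ[ZMod 2] ZMod 2)
    (h : ∀ a, B a a = 0) : ∃ s : V → ZMod 2, ∀ a b, s (a + b) = s a + s b + B a b := by
  let b := Module.finBasis (ZMod 2) V
  let C := b.constr (ZMod 2) fun i => b.constr (ZMod 2) fun j => if i < j then B (b i) (b j) else 0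
  have : C + C.flip = B := LinearMap.ext_basis b b fun i j => by
    have := h (b i + b j)
    simp only [map_add, LinearMap.add_apply, h, zero_add, add_zero, CharTwo.add_eq_zero] at this
    simp only [C, LinearMap.add_apply, LinearMap.flip_apply, Module.Basis.constr_basis]
    rcases lt_trichotomy i j with c | rfl | c
    · simp [c, c.not_gt]
    · simp [h]
    · simp [c, c.not_gt, this]
  exact ⟨fun a => C a a, fun a b => by simp only [← this, map_add, LinearMap.add_apply, LinearMap.flip_apply]; ring⟩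
theorem exists_lft (g : Spor.M23) : ∃ s : C11 → ZMod 2, ∀ a b, s (a + b) = s a + s b + bet g a b := by
  have z := (by decide : ∀ a : ZMod 2, a = 0 ∨ a = 1)
  have a1 : ∀ a b c, bet g (a + b) c = bet g a c + bet g b c := fun a b c => by
    simp only [bet, map_add, Submodule.coe_add]
    rw [pth_add a.2 b.2 c.2, pth_add (ga g a).2 (ga g b).2 (ga g c).2,
      show (ga g a * ga g b : W24) ⬝ᵥ ga g c = _ from comp_equiv_dotProduct_comp_equiv (a.1 * b.1) c.1 _]
    linear_combination CharTwo.add_self_eq_zero ((a.1 * b.1) ⬝ᵥ c.1)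
  have a2 : ∀ a b c, bet g a (b + c) = bet g a b + bet g a c := fun a b c => by
    simp only [bet, map_add, Submodule.coe_add, pth, dotProduct_add]; ring
  exact exists_quad (LinearMap.mk₂ _ (bet g) a1 (fun t a b => by rcases z t with rfl | rfl <;> simp [show bet g 0 b = 0 by simpa using a1 0 0 b]) a2
    fun t a b => by rcases z t with rfl | rfl <;> simp [show bet g a 0 = 0 by simpa using a2 a 0 0]) fun a => by
      rw [LinearMap.mk₂_apply, bet, pth_self a.2, pth_self (ga g a).2, show support₂ (ga g a).1 = _ from supp_comp _ _,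
        Finset.card_smul_finset, CharTwo.add_self_eq_zero]
/-- permutations with sign functions -/
def PkG : Type := Spor.M23 × (C11 → ZMod 2)
instance : Finite PkG := inferInstanceAs (Finite (_ × _))
instance : Mul PkG := ⟨fun x y => (x.1 * y.1, fun a => x.2 (ga y.1 a) + y.2 a)⟩
instance : One PkG := ⟨(1, 0)⟩
instance : Inv PkG := ⟨fun x => (x.1⁻¹, fun a => x.2 (ga x.1⁻¹ a))⟩
instance : Group PkG := Group.ofLeftAxioms (fun _ _ _ => Prod.ext (mul_assoc ..) (funext fun _ => add_assoc ..))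
  (fun _ => Prod.ext (one_mul _) (funext fun _ => zero_add _)) fun x => Prod.ext (inv_mul_cancel _) (funext fun a =>
    (congrArg (fun t => x.2 t + x.2 a) (ga_inv x.1⁻¹ a)).trans (CharTwo.add_self_eq_zero _))
/-- the standard automorphisms of the loop -/
def PE : Subgroup PkG where
  carrier := {x | ∀ a b, x.2 (a + b) = x.2 a + x.2 b + bet x.1 a b}
  one_mem' a b := ((zero_add _).trans (CharTwo.add_self_eq_zero (pth a b))).symm
  mul_mem' {x y} p q a b := by
    change x.2 (ga y.1 (a + b)) + y.2 (a + b) = x.2 (ga y.1 a) + y.2 a + (x.2 (ga y.1 b) + y.2 b) +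
      (pth (ga x.1 (ga y.1 a)) (ga x.1 (ga y.1 b)) + pth a b)
    rw [map_add, p, q, bet, bet]
    linear_combination CharTwo.add_self_eq_zero (pth (ga y.1 a) (ga y.1 b))
  inv_mem' {x} p a b := by
    change x.2 (ga x.1⁻¹ (a + b)) = x.2 (ga x.1⁻¹ a) + x.2 (ga x.1⁻¹ b) + bet x.1⁻¹ a b
    rw [map_add, p, bet, bet, ga_inv, ga_inv, add_comm (pth a b)]
def pf : PE →* Spor.M23 := ⟨⟨fun x => x.1.1, rfl⟩, fun _ _ => rfl⟩
theorem pf_sur : Function.Surjective pf := fun g => let ⟨s, h⟩ := exists_lft g; ⟨⟨(g, s), h⟩, rfl⟩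
def pθ : W24 →+ Additive pf.ker := AddMonoidHom.mk' (fun w => Additive.ofMul ⟨⟨(1, fun a => a.1 ⬝ᵥ w), fun a b =>
  (add_dotProduct ..).trans (by rw [show bet 1 a b = 0 from CharTwo.add_self_eq_zero _, add_zero])⟩, rfl⟩)
  fun _ _ => Subtype.ext (Subtype.ext (Prod.ext (one_mul _).symm (funext fun _ => dotProduct_add ..)))
theorem pθ_sur : Function.Surjective pθ := by
  rintro ⟨⟨⟨g, s⟩, h⟩, c⟩
  obtain rfl : g = 1 := c
  obtain ⟨F, e⟩ := ((AddMonoidHom.mk' s fun a b => (h a b).trans (by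
    rw [show bet 1 a b = 0 from CharTwo.add_self_eq_zero _, add_zero])).toZModLinearMap 2).exists_extend
  obtain ⟨w, rfl⟩ := (dotProductEquiv (ZMod 2) GolayPt).surjective F
  exact ⟨w, Subtype.ext (Subtype.ext (Prod.ext rfl (funext fun a => (dotProduct_comm ..).trans (LinearMap.congr_fun e a))))⟩
theorem pθ_ker (w : W24) : pθ w = 0 ↔ KK w :=
  ⟨fun h => kk_of_dot fun j _ => congrFun (congrArg (fun t => t.toMul.1.1.2) h) ⟨_, b11_mem j⟩,
    fun h => Subtype.ext (Subtype.ext (Prod.ext rfl (funext fun a => dot_kk a.2.1 a.2.2 h)))⟩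
theorem pθ_cj (g : PE) (w : W24) : ((pθ (w ∘ ⇑(pf g : Equiv.Perm GolayPt)⁻¹)).toMul : PE) = g * (pθ w).toMul * g⁻¹ :=
  eq_mul_inv_of_mul_eq (Subtype.ext (Prod.ext ((one_mul _).trans (mul_one _).symm) (funext fun a =>
    (add_comm _ _).trans (congrArg _ (comp_equiv_dotProduct_comp_equiv a.1 w _)))))
theorem pf_ns (H : Subgroup PE) (h1 : H ⊓ pf.ker = ⊥) (h2 : H ⊔ pf.ker = ⊤) : False := by
  have ac := actsL_of_m24chk (Ns := pkN) (by decide +kernel)
  have k : ∀ i, ∃ x ∈ H, Acts 24 GE.e (pf x).1 (nth .nil pkN i) ∧ (pf x).1 = (pkN.map GE.perm).getD i 1 := fun i => by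
    obtain ⟨y, e⟩ := pf_sur ⟨_, wordG_mem (H := Spor.M23) (fun g hg => ⟨map_perm_mem_M24 (by decide +kernel) g hg,
      ac.stab_pt (b := 23) (by norm_num) (by decide +kernel) g hg⟩) [i] _ List.mem_cons_self⟩
    obtain ⟨u, c, v, d, rfl⟩ := Subgroup.mem_sup_of_normal_right.1 (h2.ge (Subgroup.mem_top y))
    rw [map_mul, MonoidHom.mem_ker.1 d, mul_one] at e
    exact ⟨u, c, by rw [e, nth_eq]; exact ac.getD i, congrArg Subtype.val e⟩
  obtain ⟨g, a, b, c⟩ := k 0
  obtain ⟨h, a', b', c'⟩ := k 1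
  have e : h * h * h = g * h * g := mul_inv_eq_one.1 (h1.le (Subgroup.mem_inf.2 ⟨mul_mem (mul_mem (mul_mem a' a') a') (inv_mem (mul_mem (mul_mem a a') a)), by
    have := GE.prod_eq (K := 5) (ac.word [1, 1, 1]) (ac.word [0, 1, 0]) (by decide +kernel)
    simp only [wordG, List.map, List.prod_cons, List.prod_nil, mul_one, ← c, ← c', ← mul_assoc] at this
    rw [MonoidHom.mem_ker, map_mul, map_inv, mul_inv_eq_one]
    exact Subtype.ext this⟩))
  have m : ∀ x, inC x = true → tb x 23 = false → wd x ∈ C11 := fun x p q => ⟨wd_mem_of_inC p, show wd x none = 0 by rw [tb_eq] at q; simp [gix, wd, q]⟩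
  let c0 : C11 := ⟨_, m 0x106869 (by decide +kernel) (by decide +kernel)⟩
  let c1 : C11 := ⟨_, m 0x20c44d (by decide +kernel) (by decide +kernel)⟩
  let c2 : C11 := ⟨_, m 0x209631 (by decide +kernel) (by decide +kernel)⟩
  let c3 : C11 := ⟨_, m 0x103a15 (by decide +kernel) (by decide +kernel)⟩
  have t : ∀ {x : PE} {N x0 x1 p q}, Acts 24 GE.e (pf x).1 N → N.app x1 = x0 → ga x.1.1 ⟨wd x0, p⟩ = ⟨wd x1, q⟩ := by
    rintro x N _ x1 p q a rfl
    exact Subtype.ext (funext fun r => (congrFun (wd_app a x1) _).trans (congrArg (wd x1) ((pf x).1.apply_symm_apply r)))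
  have t0 : ga h.1.1 c0 = c1 := t b' (by decide +kernel)
  have t1 : ga h.1.1 c1 = c2 := t b' (by decide +kernel)
  have t2 : ga h.1.1 c2 = c3 := t b' (by decide +kernel)
  have t3 : ga h.1.1 c3 = c0 := t b' (by decide +kernel)
  have t4 : ga g.1.1 c0 = c3 := t b (by decide +kernel)
  have e1 : h.1.2 (ga h.1.1 (ga h.1.1 c0)) + h.1.2 (ga h.1.1 c0) + h.1.2 c0 =
    g.1.2 (ga h.1.1 (ga g.1.1 c0)) + h.1.2 (ga g.1.1 c0) + g.1.2 c0 := congrFun (congrArg (fun t => t.1.2) e) c0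
  have e2 := h.2 c0 c1
  have e3 := h.2 c2 c3
  rw [show c0 + c1 = c2 + c3 from Subtype.ext ((wd_xor ..).symm.trans (wd_xor 0x209631 0x103a15)), e3, bet, bet, t0, t1, t2, t3] at e2
  rw [t0, t1, t4, t3] at e1
  have : pth c3 c0 + pth c2 c3 + (pth c1 c2 + pth c0 c1) = 1 := by
    simp only [c0, c1, c2, c3]
    rw [pth_wd, pth_wd, pth_wd, pth_wd, dot_wd, dot_wd, dot_wd, dot_wd] <;> decide +kernel
  clear e3
  generalize pth c3 c0 + pth c2 c3 = u, pth c1 c2 + pth c0 c1 = v, h.1.2 c0 = a0, h.1.2 c1 = a1, h.1.2 c2 = a2, h.1.2 c3 = a3,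
    g.1.2 c0 = a4 at *
  revert u v a0 a1 a2 a3 a4
  decide
end
end H28
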