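import Cfsg.Agent.H28.Fi23a
import Cfsg.Agent.H28.Fi22
import Cfsg.Prelude.Def_Spor_Fi23
/-! The Fischer group Fi23: faithful action on 31671 points, order, simplicity. -/
set_option maxRecDepth 100000
set_option Elab.async false
namespace H28
open H27
noncomputable section
universe u
def fi23Code (p : Cfsg.Spor.Fi23.Gen × Bool) : Nat := match p with
  | (.a, _) => 0
  | (.b, _) => 1
  | (.c, _) => 2
  | (.d, _) => 3
  | (.e, _) => 4
  | (.f, _) => 5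
  | (.g, _) => 6
  | (.j, _) => 7
  | (.h, _) => 8
  | (.i, _) => 9
def fi23L : List (Cfsg.Spor.Fi23.Gen × Bool) := [(.a, true), (.b, true), (.c, true), (.d, true), (.e, true), (.f, true), (.g, true), (.j, true), (.h, true), (.i, true)]
theorem fi23B : Brg Cfsg.Spor.Fi23.edges Cfsg.Spor.Fi23.extra fi23Code [.a, .b, .c, .d, .e, .f, .g, .j, .h, .i] [.a, .b, .c, .d, .e, .f, .g, .j, .h, .i] fi23L fi23_R :=
  ⟨fun x => by cases x <;> simp, by decide +kernel, by decide +kernel⟩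
/-- the generators -/
def fi23X : List Cfsg.Spor.Fi23 := gensP Cfsg.Spor.Fi23.edges Cfsg.Spor.Fi23.extra fi23L
theorem fi23_ex : ∃ φ : Cfsg.Spor.Fi23 →* Equiv.Perm (Fin 31671), fi23X.map φ = perms 31671 fi23_Nb ∧ Function.Injective φ :=
  fi23B.model rfl fi23_univ
/-- the faithful permutation representation -/
def fi23Hom : Cfsg.Spor.Fi23 →* Equiv.Perm (Fin 31671) := fi23_ex.choose
theorem fi23M : Mdl 31671 (pts fi23Hom) fi23X fi23_Nb := mdl_of_inj fi23_ex.choose_spec.1 fi23_valb fi23B.cl_top fi23_ex.choose_spec.2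
theorem fi23_card : Nat.card Cfsg.Spor.Fi23 = 4089470473293004800 := by
  rw [card_eq_of_inj fi23B.cl_top fi23_ex.choose_spec.2, show List.map _ (gensP _ _ _) = _ from fi23_ex.choose_spec.1]
  exact fi23_pres.card_eq rfl fi23_rels fi23_le
instance fi23Finite : Finite Cfsg.Spor.Fi23 := Nat.finite_of_card_ne_zero (by rw [fi23_card]; norm_num)
theorem fi23_tr : ∀ j < 31671, ∃ g : Cfsg.Spor.Fi23, g • pts fi23Hom 0 = pts fi23Hom j := trans_of_chk fi23M.acts (k := 13) (by decide +kernel)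
def fi23H : List (List Nat) := [[0], [1], [2], [3], [4], [5], [6], [8], [9]]
def fi23U : List (List Nat) := [[7], [7, 6, 5, 4, 3, 8, 2, 3, 4, 5, 6, 7]]
theorem fi23_max : IsCoatom (MulAction.stabilizer Cfsg.Spor.Fi23 (pts fi23Hom 0)) := coatom_of_chk fi23M.inj fi23M.acts fi23M.top (by norm_num) fi23_tr
  (actsL_catN fi23M.acts fi23H) (actsL_catN fi23M.acts fi23U) (k := 12) (by decide +kernel)
def fi23C_Rx : List (List Nat) := [[5, 8, 3, 0, 1, 4, 2, 6, 7, 1, 5, 8, 3, 0, 1, 4, 2, 6, 7, 1, 5, 8, 3, 0, 1, 4, 2, 6, 7, 1, 5, 8, 3, 0, 1, 4, 2, 6, 7, 1, 5, 8, 3, 0, 1, 4, 2, 6, 7, 1, 5, 8, 3, 0, 1, 4, 2, 6, 7, 1, 5, 8, 3, 0, 1, 4, 2, 6, 7, 1, 5, 8, 3, 0, 1, 4, 2, 6, 7, 1, 5, 8, 3, 0, 1, 4, 2, 6, 7, 1, 5, 8, 3, 0, 1, 4, 2, 6, 7, 1, 5, 8, 3, 0, 1, 4, 2, 6, 7, 1, 5, 8, 3, 0, 1, 4, 2, 6, 7, 1, 5, 8, 3, 0, 1, 4, 2, 6, 7, 1, 5, 8, 3, 0, 1, 4, 2, 6, 7, 1, 5, 8, 3, 0, 1, 4, 2, 6, 7, 1]]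
def fi23C_i1T : Tr := (.node 34 (.node 17 (.node 8 (.node 4 (.node 2 (.node 1 (.leaf 9 0x81c3142044246 0 0 0 0 0 0 0) (.leaf 150 0x881c31420442460881c31420442460881c31420442460881c31420442460881c31420442460881c31420442460881c31420442460881c31420442460881c31420442460881c31420442460881c31420442460881c31420442460881c31420442460881c31420442460881c3142044246 0 0 0 0 0 0 0)) (.node 3 (.leaf 2 65 0 0 0 0 0 0 0) (.leaf 2 130 0 0 0 0 0 0 0))) (.node 6 (.node 5 (.leaf 2 195 0 0 0 0 0 0 0) (.leaf 2 260 0 0 0 0 0 0 0)) (.node 7 (.leaf 2 325 0 0 0 0 0 0 0) (.leaf 2 390 0 0 0 0 0 0 0)))) (.node 12 (.node 10 (.node 9 (.leaf 2 455 0 0 0 0 0 0 0) (.leaf 2 520 0 0 0 0 0 0 0)) (.node 11 (.leaf 2 585 0 0 0 0 0 0 0) (.leaf 2 650 0 0 0 0 0 0 0))) (.node 14 (.node 13 (.leaf 6 0x81081081 0 0 0 0 0 0 0) (.leaf 4 790721 0 0 0 0 0 0 0)) (.node 15 (.leaf 4 0x101101 0 0 0 0 0 0 0) (.node 16 (.leaf 4 0x141141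 0 0 0 0 0 0 0) (.leaf 4 0x181181 0 0 0 0 0 0 0)))))) (.node 25 (.node 21 (.node 19 (.node 18 (.leaf 4 0x1c11c1 0 0 0 0 0 0 0) (.leaf 4 0x201201 0 0 0 0 0 0 0)) (.node 20 (.leaf 4 0x241241 0 0 0 0 0 0 0) (.leaf 4 0x281281 0 0 0 0 0 0 0))) (.node 23 (.node 22 (.leaf 6 0xc20c20c2 0 0 0 0 0 0 0) (.leaf 4 0x102102 0 0 0 0 0 0 0)) (.node 24 (.leaf 4 0x142142 0 0 0 0 0 0 0) (.leaf 4 0x182182 0 0 0 0 0 0 0)))) (.node 29 (.node 27 (.node 26 (.leaf 4 0x1c21c2 0 0 0 0 0 0 0) (.leaf 4 0x202202 0 0 0 0 0 0 0)) (.node 28 (.leaf 4 0x242242 0 0 0 0 0 0 0) (.leaf 4 0x282282 0 0 0 0 0 0 0))) (.node 31 (.node 30 (.leaf 6 0x103103103 0 0 0 0 0 0 0) (.leaf 4 0x143143 0 0 0 0 0 0 0)) (.node 32 (.leaf 4 0x183183 0 0 0 0 0 0 0) (.node 33 (.leaf 4 0x1c31c3 0 0 0 0 0 0 0) (.leaf 4 0x203203 0 0 0 0 0 0 0))))))) (.node 51 (.node 42 (.node 38 (.node 36 (.node 35 (.leaf 4 0x243243 0 0 0 0 0 0 0) (.leaf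 4 0x283283 0 0 0 0 0 0 0)) (.node 37 (.leaf 6 0x144144144 0 0 0 0 0 0 0) (.leaf 4 0x184184 0 0 0 0 0 0 0))) (.node 40 (.node 39 (.leaf 4 0x1c41c4 0 0 0 0 0 0 0) (.leaf 4 0x204204 0 0 0 0 0 0 0)) (.node 41 (.leaf 6 0x244244244 0 0 0 0 0 0 0) (.leaf 4 0x284284 0 0 0 0 0 0 0)))) (.node 46 (.node 44 (.node 43 (.leaf 6 0x185185185 0 0 0 0 0 0 0) (.leaf 4 0x1c51c5 0 0 0 0 0 0 0)) (.node 45 (.leaf 4 0x205205 0 0 0 0 0 0 0) (.leaf 4 0x245245 0 0 0 0 0 0 0))) (.node 48 (.node 47 (.leaf 4 0x285285 0 0 0 0 0 0 0) (.leaf 6 0x1c61c61c6 0 0 0 0 0 0 0)) (.node 49 (.leaf 4 0x206206 0 0 0 0 0 0 0) (.node 50 (.leaf 4 0x246246 0 0 0 0 0 0 0) (.leaf 4 0x286286 0 0 0 0 0 0 0)))))) (.node 60 (.node 55 (.node 53 (.node 52 (.leaf 6 0x207207207 0 0 0 0 0 0 0) (.leaf 4 0x247247 0 0 0 0 0 0 0)) (.node 54 (.leaf 4 0x287287 0 0 0 0 0 0 0) (.leaf 4 0x248248 0 0 0 0 0 0 0))) (.node 57 (.node 56 (.leaf 4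 0x288288 0 0 0 0 0 0 0) (.leaf 6 0x289289289 0 0 0 0 0 0 0)) (.node 58 (.leaf 90 0x28910614408310a2441851020c428910614408310a2441851020c428910614408310a2441851020c428910614408310a2441851020c428910614408310a2441851020c4 0 0 0 0 0 0 0) (.node 59 (.leaf 63 0x91851030812461440c20491851030812461440c20491851030812461440c20491851030812461440c2049185103081 0 0 0 0 0 0 0) (.leaf 1 2 0 0 0x881c31420442460881c31420442460881c31420442460881c31420442460881c31420442460881c31420442460881c31420442460881c31420442460881c31420442460881c31420442460881c31420442460881c31420442460881c31420442460881c31420442460881c3142044246 22 0xc0000000c0000000c0000000c0000000c0000000c0000000c000000000e0000000d0000000c0000000b0000000a00000009000000080000000700000006000000050000000400000003000000020000000100000000 1 1024))))) (.node 64 (.node 62 (.node 61 (.leaf 1 1 0 0 0x81081081 4 0x8000000ec030000ec020000ec01 1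 12288) (.leaf 1 3 0 0 0xc20c20c2 4 0x10000000ec020000ec010000ec00 1 21504)) (.node 63 (.leaf 1 4 0 0 0x103103103 4 0x14000000f4020000f4010000f400 1 29696) (.leaf 1 5 0 0 0x144144144 4 0x18000000f8020000f8010000f800 1 36864))) (.node 66 (.node 65 (.leaf 1 9 0 0 0x244244244 4 0x28000000f8020000f8010000f800 1 40960) (.leaf 1 6 0 0 0x185185185 4 0x1c000000fc020000fc010000fc00 1 43008)) (.node 67 (.leaf 1 7 0 0 0x1c61c61c6 4 0x2000000104020001040100010400 1 48128) (.node 68 (.leaf 1 8 0 0 0x207207207 4 0x2400000108020001080100010800 1 52224) (.leaf 1 10 0 0 0x289289289 4 0x2c00000100020001000100010000 1 57344))))))))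
theorem fi23C_i1 : Impl.{u} 10 (catL [[5, 8, 3, 0, 1, 4, 2, 6, 7]] (catL fi23C_Rx fi23_R)) (gensW 10) := Impl.refl.trans (impl_of_rw1 (R := (catL [[5, 8, 3, 0, 1, 4, 2, 6, 7]] (catL fi23C_Rx fi23_R))) fi23C_i1T 59 10 [60, 59, 61, 62, 63, 65, 66, 67, 64, 68] (by decide +kernel))
theorem fi23_fx1_0 : FixB 31671 fi23_Nb fi23C_Rx 11 := FixB.step (K := 15) (s := 0) (c := 11) fi23_valb (FixB.zero _ _ _) (by decide +kernel)
theorem fi23_fx1_11 : FixB 31671 fi23_Nb fi23C_Rx 15 := FixB.step (K := 15) (s := 11) (c := 4) fi23_valb fi23_fx1_0 (by decide +kernel)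
theorem fi23_fx1 : FixR 31671 fi23_Nb fi23C_Rx := fi23_fx1_11.fixR fi23_valb (by norm_num)
theorem fi23_fx2_0 : FixB 31671 fi23_Nb (mapL (pwW 17) [[5, 8, 3, 0, 1, 4, 2, 6, 7]]) 10 := FixB.step (K := 15) (s := 0) (c := 10) fi23_valb (FixB.zero _ _ _) (by decide +kernel)
theorem fi23_fx2_10 : FixB 31671 fi23_Nb (mapL (pwW 17) [[5, 8, 3, 0, 1, 4, 2, 6, 7]]) 15 := FixB.step (K := 15) (s := 10) (c := 5) fi23_valb fi23_fx2_0 (by decide +kernel)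
theorem fi23_fx2 : FixR 31671 fi23_Nb (mapL (pwW 17) [[5, 8, 3, 0, 1, 4, 2, 6, 7]]) := fi23_fx2_10.fixR fi23_valb (by norm_num)
theorem fi23_simple : IsSimpleGroup Cfsg.Spor.Fi23 := fi23M.simple2 fi23_tr fi23_max (m := 129123503308800) (p := 17) fi23_card (by norm_num) (by norm_num) (by norm_num) rfl
  (catL_eq _ _ ▸ (fi23M.rels fi23_fx1).append fi23B.rels) (fi23M.rels fi23_fx2) fi23C_i1
theorem fi23_stab : MulAction.stabilizer Cfsg.Spor.Fi23 (pts fi23Hom 0) = cl (fi23H.map (ev fi23X)) :=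
  stab_eq_of_le fi23M.inj fi23M.acts fi23M.top (by norm_num) fi23_tr (m := 129123503308800) fi23_card (by decide +kernel)
    (fi23_idx.le_card rfl fi23B.rels fi23B.cl_top (by norm_num) fi23_card)
theorem fi23_cardH : Nat.card (cl (fi23H.map (ev fi23X))) = 129123503308800 :=
  fi23_stab ▸ card_stab_of_trans fi23M.inj fi23M.acts fi23M.top (by norm_num) fi23_tr fi23_card
theorem fi23s_i1 : Impl.{u} 10 fi23_R (expL [[0], [1], [2], [3], [4], [5], [6], [8], [9]] f2_R) := Impl.refl.trans (impl_of_sub (R := fi23_R) [0, 1, 2, 3, 4, 5, 6, 8, 9, 10, 11, 12, 13, 14, 15, 17, 18, 19, 20, 21, 22, 23, 25, 26, 27, 28, 29, 30, 32, 33, 34, 35, 36, 38, 39, 40, 41, 43, 44, 45, 47, 48, 50, 51, 54, 55, 56] (by decide +kernel))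
theorem fi23_relsH : Rels (fi23H.map (ev fi23X)) f2_R := rels_expL.1 (fi23s_i1 _ _ rfl fi23B.rels)
theorem f2_univ : Univ.{u} f2_R (fi23H.map (ev fi23X)) := Univ.of_pres f2_pres rfl fi23_relsH fi23_cardH.ge
theorem fi23t_i1 : Impl.{u} 9 fi22_R f2_R := Impl.refl.trans (impl_of_sub (R := fi22_R) [0, 1, 2, 3, 4, 5, 6, 7, 8, 9, 10, 11, 12, 13, 14, 15, 16, 17, 18, 19, 20, 21, 22, 23, 24, 25, 26, 27, 28, 29, 30, 31, 32, 33, 34, 35, 36, 37, 38, 39, 40, 41, 42, 43, 44, 45, 46] (by decide +kernel))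
def fi23u_i1T : Tr := (.node 43 (.node 21 (.node 10 (.node 5 (.node 2 (.node 1 (.leaf 4 528513 0 0 0 0 0 0 0) (.leaf 4 794818 0 0 0 0 0 0 0)) (.node 3 (.leaf 4 0x103103 0 0 0 0 0 0 0) (.node 4 (.leaf 4 0x144144 0 0 0 0 0 0 0) (.leaf 4 0x204204 0 0 0 0 0 0 0)))) (.node 7 (.node 6 (.leaf 4 0x185185 0 0 0 0 0 0 0) (.leaf 4 0x1c61c6 0 0 0 0 0 0 0)) (.node 8 (.leaf 4 0x248248 0 0 0 0 0 0 0) (.node 9 (.leaf 2 65 0 0 0 0 0 0 0) (.leaf 2 130 0 0 0 0 0 0 0))))) (.node 15 (.node 12 (.node 11 (.leaf 2 195 0 0 0 0 0 0 0) (.leaf 2 260 0 0 0 0 0 0 0)) (.node 13 (.leaf 2 325 0 0 0 0 0 0 0) (.node 14 (.leaf 2 390 0 0 0 0 0 0 0) (.leaf 2 455 0 0 0 0 0 0 0)))) (.node 18 (.node 16 (.leaf 2 520 0 0 0 0 0 0 0) (.node 17 (.leaf 2 585 0 0 0 0 0 0 0) (.leaf 6 0x81081081 0 0 0 0 0 0 0))) (.node 19 (.leaf 4 790721 0 0 0 0 0 0 0) (.node 20 (.leaf 4 0x101101 0 0 0 0 0 0 0) (.leaf 4 0x141141 0 0 0 0 0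 0 0)))))) (.node 32 (.node 26 (.node 23 (.node 22 (.leaf 4 0x181181 0 0 0 0 0 0 0) (.leaf 4 0x1c11c1 0 0 0 0 0 0 0)) (.node 24 (.leaf 4 0x201201 0 0 0 0 0 0 0) (.node 25 (.leaf 4 0x241241 0 0 0 0 0 0 0) (.leaf 6 0xc20c20c2 0 0 0 0 0 0 0)))) (.node 29 (.node 27 (.leaf 4 0x102102 0 0 0 0 0 0 0) (.node 28 (.leaf 4 0x142142 0 0 0 0 0 0 0) (.leaf 4 0x182182 0 0 0 0 0 0 0))) (.node 30 (.leaf 4 0x1c21c2 0 0 0 0 0 0 0) (.node 31 (.leaf 4 0x202202 0 0 0 0 0 0 0) (.leaf 4 0x242242 0 0 0 0 0 0 0))))) (.node 37 (.node 34 (.node 33 (.leaf 6 0x103103103 0 0 0 0 0 0 0) (.leaf 4 0x143143 0 0 0 0 0 0 0)) (.node 35 (.leaf 4 0x183183 0 0 0 0 0 0 0) (.node 36 (.leaf 4 0x1c31c3 0 0 0 0 0 0 0) (.leaf 4 0x203203 0 0 0 0 0 0 0)))) (.node 40 (.node 38 (.leaf 4 0x243243 0 0 0 0 0 0 0) (.node 39 (.leaf 6 0x144144144 0 0 0 0 0 0 0) (.leaf 4 0x184184 0 0 0 0 0 0 0))) (.node 41 (.leaf 4 0x1c41c4 0 0 0 0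 0 0 0) (.node 42 (.leaf 6 0x204204204 0 0 0 0 0 0 0) (.leaf 4 0x244244 0 0 0 0 0 0 0))))))) (.node 65 (.node 54 (.node 48 (.node 45 (.node 44 (.leaf 6 0x185185185 0 0 0 0 0 0 0) (.leaf 4 0x1c51c5 0 0 0 0 0 0 0)) (.node 46 (.leaf 4 0x205205 0 0 0 0 0 0 0) (.node 47 (.leaf 4 0x245245 0 0 0 0 0 0 0) (.leaf 6 0x1c61c61c6 0 0 0 0 0 0 0)))) (.node 51 (.node 49 (.leaf 4 0x206206 0 0 0 0 0 0 0) (.node 50 (.leaf 4 0x246246 0 0 0 0 0 0 0) (.leaf 4 0x207207 0 0 0 0 0 0 0))) (.node 52 (.leaf 4 0x247247 0 0 0 0 0 0 0) (.node 53 (.leaf 6 0x248248248 0 0 0 0 0 0 0) (.leaf 90 0x2481061440831092041851020c42481061440831092041851020c42481061440831092041851020c42481061440831092041851020c42481061440831092041851020c4 0 0 0 0 0 0 0))))) (.node 59 (.node 56 (.node 55 (.leaf 63 0x81851030812061440c20481851030812061440c20481851030812061440c20481851030812061440c2048185103081 0 0 0 0 0 0 0) (.leaf 2 129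 0 0 0x81081081 1 0 1 17408)) (.node 57 (.leaf 1 2 1 1 8257 1 8192 1 56321) (.node 58 (.leaf 2 194 0 0 0xc20c20c2 1 1024 1 25600) (.leaf 1 3 1 2 12418 1 9216 1 58369)))) (.node 62 (.node 60 (.leaf 1 3 1 1 3 0 0 2 0xe0000000e800) (.node 61 (.leaf 2 259 0 0 0x103103103 1 2048 1 32768) (.leaf 1 4 1 3 16579 1 10240 1 61441))) (.node 63 (.leaf 1 4 1 1 4 0 0 2 0xec000000f400) (.node 64 (.leaf 2 324 0 0 0x144144144 1 3072 1 38912) (.leaf 1 5 1 4 20740 1 11264 1 64513)))))) (.node 76 (.node 70 (.node 67 (.node 66 (.leaf 1 5 1 1 5 0 0 2 0xf80000010000) (.leaf 2 516 0 0 0x204204204 1 4096 1 41984)) (.node 68 (.leaf 1 8 1 4 33028 1 11264 1 67585) (.node 69 (.leaf 1 8 1 1 8 0 0 2 0xf80000010c00) (.leaf 2 389 0 0 0x185185185 1 5120 1 44032)))) (.node 73 (.node 71 (.leaf 1 6 1 5 24901 1 12288 1 70657) (.node 72 (.leaf 1 6 1 1 6 0 0 2 0x1040000011800) (.leaf 2 454 0 0 0x1c61c61c6 1 6144 1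 48128))) (.node 74 (.leaf 1 7 1 6 29062 1 13312 1 73729) (.node 75 (.leaf 1 7 1 1 7 0 0 2 0x11c0000012400) (.leaf 2 584 0 0 0x248248248 1 7168 1 53248))))) (.node 81 (.node 78 (.node 77 (.leaf 1 9 1 8 37384 1 15360 1 76801) (.leaf 1 9 1 1 9 0 0 2 0x1100000013000)) (.node 79 (.leaf 1 1 0 0 0x81851030812061440c20481851030812061440c20481851030812061440c20481851030812061440c2048185103081 85 0x20000000200000002000000020000000200000002000000020000000200000002000000020000000200000002000000020000000200000002000000020000000200000002000000020000000200000002000000020000000200000002000000020000000200000002000000020000000200000002000000020000001103e00011c3d0001043c0000f83b0000ec3a0000e0390001103700011c36000104350000f8340000ec330000e0320001103000011c2f0001042e0000f82d0000ec2c0000e02b0001102900011c28000104270000f8260000ec250000e0240001102200011c21000104200000f81f0000ec1e0000e01d0001101b00011c1a000104190000f8180000ec170000e0160001101400011c13000104120000f8110000ec100000e00f0001100d00011c0c0001040b0000f80a0000ec090000e0080001100600011c05000104040000f8030000ec020000e001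 1 55296) (.node 80 (.leaf 1 2 0 0 2 0 0 2 0x138000000e000) (.leaf 1 3 0 0 3 0 0 2 0x138000000ec00)))) (.node 84 (.node 82 (.leaf 1 4 0 0 4 0 0 2 0x138000000f800) (.node 83 (.leaf 1 5 0 0 5 0 0 2 0x1380000010400) (.leaf 1 8 0 0 8 0 0 2 0x1380000011000))) (.node 85 (.leaf 1 6 0 0 6 0 0 2 0x1380000011c00) (.node 86 (.leaf 1 7 0 0 7 0 0 2 0x1380000012800) (.leaf 1 9 0 0 9 0 0 2 0x1380000013400))))))))
theorem fi23u_i1 : Impl.{u} 9 (catL (mapL (fun s => cat s s) [[0, 1], [1, 2], [2, 3], [3, 4], [3, 7], [4, 5], [5, 6], [7, 8]]) f2_R) (gensW 9) := Impl.refl.trans (impl_of_rw1 (R := (catL (mapL (fun s => cat s s) [[0, 1], [1, 2], [2, 3], [3, 4], [3, 7], [4, 5], [5, 6], [7, 8]]) f2_R)) fi23u_i1T 55 32 [78, 79, 80, 81, 82, 84, 85, 83, 86] (by decide +kernel))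
/-- the point stabiliser is a non-split double cover of `Fi22` -/
theorem fi23_cover : Cfsg.IsNonsplitDoubleCover (cl (fi23H.map (ev fi23X))) Cfsg.Spor.Fi22 := by
  obtain ⟨φ, hφ⟩ := f2_univ.hom (xs := fi22X) rfl (fi23t_i1 _ _ rfl fi22B.rels)
  have := fi22_simple
  refine nonsplit_of_hom φ (surj_of_ev φ fi22B.cl_top fun i => ⟨_, hφ [i]⟩) (by rw [fi23_cardH, fi22_card])
    (center_eq_bot_of_simple (a := ev fi22X [0]) (b := ev fi22X [1]) ?_)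
    (no_index_two (length_subL _) (rels_subL fi23_relsH) (cl_subL _) fi23u_i1)
  rw [← ev_append, ← ev_append]
  exact ev_ne fi22M.inj fi22M.acts _ _ 0 (by decide +kernel)
end
end H28
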