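import Cfsg.Agent.H28.HeB
import Cfsg.Prelude.Def_Spor_He
/-! The Held group: faithful action on 2058 points, order, simplicity. -/
set_option maxRecDepth 100000
set_option Elab.async false
namespace H28
open H27
noncomputable section
universe u
def heCode (p : Cfsg.Spor.He.Gen × Bool) : Nat := match p with
  | (.a, _) => 0
  | (.b, _) => 1
  | (.c, _) => 2
  | (.d, _) => 3
  | (.e, _) => 4
  | (.f, _) => 5
  | (.g, _) => 6
def heL : List (Cfsg.Spor.He.Gen × Bool) := [(.a, true), (.b, true), (.c, true), (.d, true), (.e, true), (.f, true), (.g, true)]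
theorem heB : Brg Cfsg.Spor.He.edges Cfsg.Spor.He.extra heCode [.a, .b, .c, .d, .e, .f, .g] [.a, .b, .c, .d, .e, .f, .g] heL he_R :=
  ⟨fun x => by cases x <;> simp, by decide +kernel, by decide +kernel⟩
/-- the generators -/
def heX : List Cfsg.Spor.He := gensP Cfsg.Spor.He.edges Cfsg.Spor.He.extra heL
theorem he_ex : ∃ φ : Cfsg.Spor.He →* Equiv.Perm (Fin 2058), heX.map φ = perms 2058 he_Mb ∧ Function.Injective φ :=
  heB.model rfl he_univ
/-- the faithful permutation representation -/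
def heHom : Cfsg.Spor.He →* Equiv.Perm (Fin 2058) := he_ex.choose
theorem heM : Mdl 2058 (pts heHom) heX he_Mb := mdl_of_inj he_ex.choose_spec.1 he_valb heB.cl_top he_ex.choose_spec.2
theorem he_card : Nat.card Cfsg.Spor.He = 4030387200 := by
  rw [card_eq_of_inj heB.cl_top he_ex.choose_spec.2, show List.map _ (gensP _ _ _) = _ from he_ex.choose_spec.1]
  exact he_pres.card_eq rfl he_rels he_le
instance heFinite : Finite Cfsg.Spor.He := Nat.finite_of_card_ne_zero (by rw [he_card]; norm_num)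
theorem he_tr : ∀ j < 2058, ∃ g : Cfsg.Spor.He, g • pts heHom 0 = pts heHom j := trans_of_chk heM.acts (k := 6) (by decide +kernel)
def heH : List (List Nat) := [[0], [2], [3], [4], [5], [0, 1, 0, 1], [1, 2, 3, 4, 1, 2, 3, 4, 1, 2, 3, 4, 1, 2, 3, 4, 1, 2, 3, 4, 1, 2, 3, 4, 1, 2, 3, 4]]
def heU : List (List Nat) := [[1], [6], [6, 3, 2, 3, 2, 1], [6, 3, 1, 2, 3, 6]]
theorem he_max : IsCoatom (MulAction.stabilizer Cfsg.Spor.He (pts heHom 0)) := coatom_of_chk heM.inj heM.acts heM.top (by norm_num) he_tr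
  (actsL_catN heM.acts heH) (actsL_catN heM.acts heU) (k := 7) (by decide +kernel)
def heC_Rx : List (List Nat) := [[3, 6, 5, 3, 6, 2, 3, 6, 5, 3, 6, 2, 3, 6, 5, 3, 6, 2, 3, 6, 5, 3, 6, 2, 3, 6, 5, 3, 6, 2, 3, 6, 5, 3, 6, 2, 3, 6, 5, 3, 6, 2], [6, 4, 3, 5, 3, 6, 4, 3, 5, 3, 6, 4, 3, 5, 3]]
def heC_i1T : Tr := (.node 21 (.node 10 (.node 5 (.node 2 (.node 1 (.leaf 5 0x71061c4 0 0 0 0 0 0 0) (.leaf 4 0x184147 0 0 0 0 0 0 0)) (.node 3 (.leaf 42 0xc71061c40c71061c40c71061c40c71061c40c71061c40c71061c40c71061c4 0 0 0 0 0 0 0) (.node 4 (.leaf 15 0x41841471061051c4184147 0 0 0 0 0 0 0) (.leaf 2 65 0 0 0 0 0 0 0)))) (.node 7 (.node 6 (.leaf 2 130 0 0 0 0 0 0 0) (.leaf 2 195 0 0 0 0 0 0 0)) (.node 8 (.leaf 2 260 0 0 0 0 0 0 0) (.node 9 (.leaf 2 325 0 0 0 0 0 0 0) (.leaf 2 390 0 0 0 0 0 0 0))))) (.node 15 (.node 12 (.node 11 (.leaf 2 455 0 0 0 0 0 0 0) (.leaf 8 0x81081081081 0 0 0 0 0 0 0)) (.node 13 (.leaf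 4 790721 0 0 0 0 0 0 0) (.node 14 (.leaf 4 0x101101 0 0 0 0 0 0 0) (.leaf 4 0x141141 0 0 0 0 0 0 0)))) (.node 18 (.node 16 (.leaf 4 0x181181 0 0 0 0 0 0 0) (.node 17 (.leaf 4 0x1c11c1 0 0 0 0 0 0 0) (.leaf 6 0xc20c20c2 0 0 0 0 0 0 0))) (.node 19 (.leaf 4 0x102102 0 0 0 0 0 0 0) (.node 20 (.leaf 4 0x142142 0 0 0 0 0 0 0) (.leaf 4 0x182182 0 0 0 0 0 0 0)))))) (.node 32 (.node 26 (.node 23 (.node 22 (.leaf 4 0x1c21c2 0 0 0 0 0 0 0) (.leaf 20 0x103103103103103103103103103103 0 0 0 0 0 0 0)) (.node 24 (.leaf 4 0x143143 0 0 0 0 0 0 0) (.node 25 (.leaf 4 0x183183 0 0 0 0 0 0 0) (.leaf 4 0x1c31c3 0 0 0 0 0 0 0)))) (.node 29 (.node 27 (.leaf 6 0x144144144 0 0 0 0 0 0 0) (.node 28 (.leaf 6 0x184184184 0 0 0 0 0 0 0) (.leaf 6 0x1c41c41c4 0 0 0 0 0 0 0))) (.node 30 (.leaf 4 0x185185 0 0 0 0 0 0 0) (.node 31 (.leaf 4 0x1c51c5 0 0 0 0 0 0 0) (.leaf 8 0x1c61c61c61c6 0 0 0 0 0 0 0))))) (.node 37 (.node 34 (.node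 33 (.leaf 5 0x61c61c5 0 0 0 0 0 0 0) (.leaf 10 0x420c10830420c5 0 0 0 0 0 0 0)) (.node 35 (.leaf 11 0x3103103103103101 0 0 0 0 0 0 0) (.node 36 (.leaf 16 0x1c61031c61031c61031c6103 0 0 0 0 0 0 0) (.leaf 1 3 0 0 0xc71061c40c71061c40c71061c40c71061c40c71061c40c71061c40c71061c4 10 0x1800000018000000180000000006000000050000000400000003000000020000000100000000 1 2048)))) (.node 40 (.node 38 (.leaf 1 4 0 0 0x41841471061051c4184147 4 0x1c00000004020000040100000400 1 3072) (.node 39 (.leaf 1 2 0 0 0xc20c20c2 4 0x1400000090030000900200009001 1 17408) (.leaf 1 5 0 0 0x144144144 4 0x2000000094020000940100009400 1 26624))) (.node 41 (.leaf 1 6 0 0 0x184184184 4 0x2400000094020000940100009400 1 27648) (.node 42 (.leaf 1 7 0 0 0x1c41c41c4 4 0x2800000094020000940100009400 1 28672) (.leaf 1 1 0 0 0x420c10830420c5 8 0x100000009802000090020000980100009001000098000000900000009c00 1 33792)))))))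
theorem heC_i1 : Impl.{u} 7 (catL [[3, 6, 5, 3, 6], [6, 4, 3, 5]] (catL heC_Rx he_R)) (gensW 7) := Impl.refl.trans (impl_of_rw1 (R := (catL [[3, 6, 5, 3, 6], [6, 4, 3, 5]] (catL heC_Rx he_R))) heC_i1T 36 7 [42, 38, 36, 37, 39, 40, 41] (by decide +kernel))
theorem he_simple : IsSimpleGroup Cfsg.Spor.He := heM.simple2 he_tr he_max (m := 1958400) (p := 7) he_card (by norm_num) (by norm_num) (by norm_num) rfl
  (catL_eq _ _ ▸ (heM.rels (fixR_of_relA (K := 12) he_valb (by decide +kernel))).append heB.rels)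
  (heM.rels (fixR_of_relA (K := 12) he_valb (by decide +kernel))) heC_i1
theorem he_lb : 1958400 ≤ Nat.card (cl (heH.map (ev heX))) :=
  le_card_cl (K := 12) heM.inj (actsL_catN heM.acts _) [] [1, 3, 2, 5, 0, 4, 6] [(1, 5, 1), (263, 2, 1), (171, 2, 2), (253, 1, 1), (6, 2, 1), (2, 2, 1)] (by decide +kernel)
theorem he_stab : MulAction.stabilizer Cfsg.Spor.He (pts heHom 0) = cl (heH.map (ev heX)) :=
  stab_eq_of_le heM.inj heM.acts heM.top (by norm_num) he_tr (m := 1958400) he_card (by decide +kernel) he_lb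
end
end H28
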