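import Cfsg.Agent.H28.HnL
import Cfsg.Prelude.Def_Spor_HN
/-! The Harada-Norton group: order and simplicity. -/
set_option maxRecDepth 100000
set_option Elab.async false
namespace H28
open H27
noncomputable section
universe u
def hnCode (p : Cfsg.Spor.HN.Gen × Bool) : Nat := match p with
  | (.x, true) => 0
  | (.x, false) => 1
  | (.y, true) => 2
  | (.y, false) => 3
  | (.z, true) => 4
  | (.z, false) => 5
  | (.t, true) => 6
  | (.t, false) => 7
def hnL : List (Cfsg.Spor.HN.Gen × Bool) := [(.x, true), (.x, false), (.y, true), (.y, false), (.z, true), (.z, false), (.t, true), (.t, false)]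
theorem hnB : Brg Cfsg.Spor.HN.edges Cfsg.Spor.HN.extra hnCode [.x, .y, .z, .t] [] hnL hnR :=
  ⟨fun x => by cases x <;> simp, by decide +kernel, by decide +kernel⟩
/-- the generators -/
def hnX : List Cfsg.Spor.HN := gensP Cfsg.Spor.HN.edges Cfsg.Spor.HN.extra hnL
theorem hn_sub1 {G Ω : Type*} [Group G] [MulAction G Ω] {e : Nat → Ω} {xs : List G} (a : ActsL 1539000 e xs hnN) :
    ActsL 1408 (fun j => e (hnS.fn j)) ((gensW 5).map (ev xs)) hnk_Mb :=
  Dc.gather (actsL_words a [0, 1, 2, 3, 4]) hnS_ok (by norm_num) hn_gth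
theorem hn_le : 273030912000000 ≤ Nat.card (cl (perms 1539000 hnN)) := by
  have M : Mdl 1539000 (pts (cl (perms 1539000 hnN)).subtype) (subL (perms 1539000 hnN)) hnN :=
    mdl_of_inj (map_subL _) hn_val (cl_subL _) (Subgroup.subtype_injective _)
  exact Dc.le_card_of_trans (m := 177408000) M.inj M.acts M.top (by norm_num) (trans_of_chk (M.acts.word _) hn_tr0)
    hn_fx0 (le_card_cl (Dc.gather_inj M.inj hnS_ok (by norm_num)) (hn_sub1 M.acts) _ _ _ hn_ch)
theorem hn_ex : ∃ φ : Cfsg.Spor.HN →* Equiv.Perm (Fin 1539000), hnX.map φ = perms 1539000 hnN ∧ Function.Injective φ :=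
  hnB.model rfl (Univ.of_pres hn_pres rfl hn_rel hn_le)
/-- the faithful permutation representation -/
def hnHom : Cfsg.Spor.HN →* Equiv.Perm (Fin 1539000) := hn_ex.choose
theorem hnM : Mdl 1539000 (pts hnHom) hnX hnN := mdl_of_inj hn_ex.choose_spec.1 hn_val hnB.cl_top hn_ex.choose_spec.2
theorem hn_card : Nat.card Cfsg.Spor.HN = 273030912000000 := by
  rw [card_eq_of_inj hnB.cl_top hn_ex.choose_spec.2, show List.map _ (gensP _ _ _) = _ from hn_ex.choose_spec.1]
  exact hn_pres.card_eq rfl hn_rel hn_le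
instance hnFinite : Finite Cfsg.Spor.HN := Nat.finite_of_card_ne_zero (by rw [hn_card]; norm_num)
theorem hn_tr : ∀ j < 1539000, ∃ g : Cfsg.Spor.HN, g • pts hnHom 0 = pts hnHom j := trans_of_chk (hnM.acts.word _) hn_tr0
theorem hn_Hle : 177408000 ≤ Nat.card (cl ((gensW 5).map (ev hnX))) :=
  le_card_cl (Dc.gather_inj hnM.inj hnS_ok (by norm_num)) (hn_sub1 hnM.acts) _ _ _ hn_ch
theorem hn_Hcard : Nat.card (cl ((gensW 5).map (ev hnX))) = 177408000 :=
  le_antisymm (hn_sub _ _ rfl hnB.rels).2 hn_Hle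
theorem hn_stab : MulAction.stabilizer Cfsg.Spor.HN (pts hnHom 0) = cl ((gensW 5).map (ev hnX)) :=
  stab_eq_of_le hnM.inj hnM.acts hnM.top (by norm_num) hn_tr (m := 177408000) hn_card hn_fx0 hn_Hle
theorem hn_base (g : Cfsg.Spor.HN) (h : ∀ p ∈ hnBs, g • pts hnHom p = pts hnHom p) : g = 1 := by
  rw [← hnBs_eq, List.forall_mem_cons, mapL_eq, List.forall_mem_map] at h
  exact Dc.base_of_chain (Dc.gather_inj hnM.inj hnS_ok (by norm_num)) (hn_sub1 hnM.acts) hn_Hcard.le (by norm_num) _ _ _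
    hn_ch g (hn_stab ▸ h.1) h.2
theorem hn_rels {W : List (List Nat)} (h : ∀ p ∈ hnBs, Dc.ptChk hnN W p = true) : Rels hnX W :=
  Dc.rels_of_base hnM.acts hn_base (by decide) h
theorem hn_Z : hnX.getD 5 1 = ev hnX [4] := by
  have a := hnB.rels [4, 5] (by decide)
  have b := hnB.rels [4, 4] (by decide)
  rw [ev_cons, ev_single] at a
  rw [ev_cons] at b
  exact mul_left_cancel (a.trans b.symm)
theorem hn_H3 : cl ((gensW 5).map (ev hnX)) = cl ([[0], [2], [4]].map (ev hnX)) := by
  have h : ∀ i j, [i, j] ∈ hnR → ev hnX [j] = (ev hnX [i])⁻¹ := fun i j h => by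
    have a := hnB.rels _ h
    rw [ev_cons, ← ev_single] at a
    exact eq_inv_of_mul_eq_one_right a
  apply le_antisymm <;> refine cl_le fun g hg => ?_
  · obtain ⟨w, hw, rfl⟩ := List.mem_map.1 hg
    have hw' : w ∈ [[0], [1], [2], [3], [4]] := hw
    simp only [List.mem_cons, List.not_mem_nil, or_false] at hw'
    rcases hw' with rfl | rfl | rfl | rfl | rfl
    · exact mem_cl (by simp)
    · rw [h 0 1 (by decide)]; exact Subgroup.inv_mem _ (mem_cl (by simp))
    · exact mem_cl (by simp)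
    · rw [h 2 3 (by decide)]; exact Subgroup.inv_mem _ (mem_cl (by simp))
    · exact mem_cl (by simp)
  · obtain ⟨w, hw, rfl⟩ := List.mem_map.1 hg
    exact mem_cl (List.mem_map_of_mem ((by decide : ∀ w ∈ [[0], [2], [4]], w ∈ gensW 5) w hw))
theorem hn_max : IsCoatom (MulAction.stabilizer Cfsg.Spor.HN (pts hnHom 0)) := by
  refine Dc.coatom_of_dcos hnM.inj hnM.acts hnM.top (by norm_num) hn_stab hn_t0 (fun x hx => ?_)
    (fun g hg => hnd_data.dcos (xs := hnX) rfl (hn_i1 _ hnX rfl hnB.rels) hnVs (by decide +kernel) hg) hn_mx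
  obtain ⟨i, hi, rfl⟩ := List.getElem_of_mem hx
  rw [← List.getD_eq_getElem _ 1 hi]
  have h5 : ∀ i < 5, hnX.getD i 1 ∈ cl ((gensW 5).map (ev hnX)) := fun i hi =>
    ev_single hnX i ▸ mem_cl (List.mem_map_of_mem (List.mem_map_of_mem (List.mem_range.2 hi)))
  have h8 : i < 5 ∨ i = 5 ∨ i = 6 ∨ i = 7 := by
    have : i < 8 := hi
    omega
  rcases h8 with h | rfl | rfl | rfl
  · exact Or.inl (h5 i h)
  · rw [hn_Z, ev_single]; exact Or.inl (h5 4 (by norm_num))
  · exact Or.inr (Or.inl (ev_single _ _).symm)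
  · have a := hnB.rels [7, 6] (by decide)
    rw [ev_cons] at a
    exact Or.inr (Or.inr (eq_inv_of_mul_eq_one_left a))
theorem hn_simple : IsSimpleGroup Cfsg.Spor.HN := by
  have h := hn_rels hn_pt
  rw [catL_eq] at h
  exact hnM.simple2 hn_tr hn_max (m := 177408000) (p := 19) hn_card (by norm_num) (by norm_num) (by norm_num) rfl
    (catL_eq _ _ ▸ h.left.append hnB.rels) h.right hnsim_i1
end
end H28
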