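import Cfsg.Agent.H28.HnO1
import Cfsg.Agent.S2072
/-! The outer automorphism group of HN. -/
set_option maxRecDepth 100000
set_option Elab.async false
namespace H28
open H27 Subgroup
open scoped commutatorElement
noncomputable section
local notation "HN" => Cfsg.Spor.HN
local notation "E" => ev hnX

theorem card_aut_le {L K : Type*} [Group L] [Group K] [Finite K] {σ : L →* K} (hs : Function.Surjective σ)
    (hk : σ.ker = center L) (hL : Group.IsPerfect L) : Nat.card (MulAut L) ≤ Nat.card (MulAut K) := by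
  have : ∀ β : MulAut L, ∃ γ : MulAut K, ∀ l, γ (σ l) = σ (β l) := fun β => by
    have h : σ.ker.map (β : L →* L) = σ.ker := by
      rw [hk]; exact (characteristic_iff_map_eq.1 inferInstance) β
    let e := QuotientGroup.quotientKerEquivOfSurjective σ hs
    refine ⟨(e.symm.trans (QuotientGroup.congr _ _ β h)).trans e, fun l => ?_⟩
    rw [show σ l = e l from rfl]
    simp only [MulEquiv.trans_apply, MulEquiv.symm_apply_apply]
    rfl
  choose f hf using this
  refine Nat.card_le_card_of_injective f fun a b h => ?_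
  have := H8.eq_of_perfect_over hL (ξ := σ) (ψ := a.toMonoidHom) (ψ' := b.toMonoidHom) hk.le
    (MonoidHom.ext fun l => (hf a l).symm.trans (h ▸ hf b l))
  exact MulEquiv.ext fun l => DFunLike.congr_fun this l

theorem commute_ev_of {G : Type*} [Group G] {g : G} {xs : List G} (h : ∀ x ∈ xs, Commute g x) (w : List Nat) :
    Commute g (ev xs w) :=
  (mem_centralizer_singleton_iff.1 (ev_mem (H := centralizer {g})
    (fun x hx => mem_centralizer_singleton_iff.2 (h x hx).symm.eq) w)).symm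

theorem hn_eq {a b : List Nat} (h : ∀ p ∈ hnBs, fnW hnN a p = fnW hnN b p) : E a = E b := by
  refine (inv_mul_eq_one.1 (hn_base _ fun p hp => ?_)).symm
  have := (by decide : ∀ p ∈ hnBs, p < 1539000) p hp
  rw [mul_smul, ev_smul hnM.acts a this, h p hp, ← ev_smul hnM.acts b this, inv_smul_smul]
theorem hn_comm {a b : List Nat} (h : ∀ p ∈ hnBs, fnW hnN (a ++ b) p = fnW hnN (b ++ a) p) : Commute (E a) (E b) :=
  (ev_append _ _ _).symm.trans ((hn_eq h).trans (ev_append _ _ _))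
theorem hn_ne {a : List Nat} (h : ∃ p ∈ hnBs, fnW hnN a p ≠ p) : E a ≠ 1 := fun e => by
  obtain ⟨p, hp, h⟩ := h
  have := (by decide : ∀ p ∈ hnBs, p < 1539000) p hp
  have a := ev_smul hnM.acts a this
  rw [e, one_smul] at a
  exact h (hnM.inj (fnW_lt (ok_of_validL hn_val) _ this) this a.symm)
theorem hnK_coe {w : List Nat} (h : ∀ g ∈ w, g < 5) : (ev (subL hnH) w).1 = E w :=
  (coe_ev_subL _ _).trans (Dc.ev_expand_gens _ h)
theorem hnK_mem {w : List Nat} (h : ∀ g ∈ w, g < 5) : E w ∈ cl hnH := hnK_coe h ▸ (ev (subL hnH) w).2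

theorem hn_phi : ∃ φ : cl hnH →* Equiv.Perm (Fin 100), (∀ w, φ (ev (subL hnH) w) = ev (perms 100 hnP) w) ∧
    Nat.card φ.ker ≤ 2 ∧ (∀ k, φ k ∈ cl (perms 100 hnP)) ∧ ∀ k, φ k = 1 ↔ k.1 = 1 ∨ k.1 = E [0, 0] := by
  obtain ⟨φ, hφ⟩ := (Univ.of_pres hnk_pres rfl hnH_rel hn_Hle).hom (xs := perms 100 hnP) rfl hnP_rel
  have hφ' : ∀ w, φ (ev (subL hnH) w) = ev (perms 100 hnP) w := fun w => by
    rw [← hφ]; congr 1; exact Subtype.ext (coe_ev_subL _ _)
  have hr : cl (perms 100 hnP) ≤ φ.range := cl_le_of_gensW fun v _ => ⟨_, hφ' v⟩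
  have hk : Nat.card φ.ker ≤ 2 := by
    have h1 := Subgroup.card_eq_card_quotient_mul_card_subgroup φ.ker
    rw [Nat.card_congr (QuotientGroup.quotientKerEquivRange φ).toEquiv, hn_Hcard] at h1
    have h2 := hnP_le.trans (Subgroup.card_le_of_le hr)
    by_contra h
    have := Nat.mul_le_mul h2 (Nat.succ_le_of_lt (not_le.1 h))
    omega
  have hu : φ (ev (subL hnH) [0, 0]) = 1 :=
    (hφ' _).trans (rels_perms hnP_val (fixR_of_relA (K := 7) (R := [[0, 0]]) hnP_val (by decide +kernel)) _ (by simp))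
  have cu := hnK_coe (w := [0, 0]) (by decide)
  refine ⟨φ, hφ', hk, fun k => cl_le_of_gensW (N := (cl (perms 100 hnP)).comap φ)
    (fun v _ => by rw [mem_comap, hφ']; exact ev_mem_cl _ _) (cl_subL hnH ▸ mem_top k), fun k => ⟨fun h => ?_, ?_⟩⟩
  · by_contra hc
    rw [not_or] at hc
    have := Fintype.ofFinite φ.ker
    rw [Nat.card_eq_fintype_card, ← not_lt, Fintype.two_lt_card_iff] at hk
    refine hk ⟨⟨k, h⟩, 1, ⟨_, hu⟩, fun e => hc.1 (congrArg (fun a : φ.ker => a.1.1) e),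
      fun e => hc.2 ((congrArg (fun a : φ.ker => a.1.1) e).trans cu), fun e => ?_⟩
    exact hn_ne (a := [0, 0]) (by decide +kernel) (cu.symm.trans (congrArg (fun a : φ.ker => a.1.1) e).symm)
  · rintro (h | h)
    · rw [show k = 1 from Subtype.ext h, map_one]
    · rw [show k = _ from Subtype.ext (h.trans cu.symm), hu]

theorem hn_CU {g : HN} (hg : g ∈ cl hnH) (h1 : Commute g (E [2])) (h2 : Commute g (E [1, 2, 0])) :
    g = 1 ∨ g = E [0, 0] := by
  obtain ⟨φ, a, -, b, c⟩ := hn_phi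
  refine (c ⟨g, hg⟩).1 (mem_bot.1 (cl_le (gs := []) (by simp) (hnO_c2.le (mem_cenL.2 ⟨b _, fun t ht => ?_⟩))))
  rw [expL, mapL_eq, List.map_map] at ht
  obtain ⟨w, -, rfl⟩ := List.mem_map.1 ht
  rw [Function.comp_apply, ← ev_expand]
  refine (commute_ev_of (fun x hx => ?_) w).eq
  simp only [List.map_cons, List.map_nil, List.mem_cons, List.not_mem_nil, or_false] at hx
  rcases hx with rfl | rfl <;> rw [← a] <;> refine Commute.map (Subtype.ext ?_) φ <;>
    rw [coe_mul, coe_mul, hnK_coe (by decide)]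
  exacts [h1, h2]

theorem hn_C11 {g : HN} (h1 : Commute g (E [3, 4, 2, 4, 0, 3, 3])) (h2 : g ^ 2 = 1) : g = 1 ∨ g = E [0, 0] := by
  obtain ⟨j, hj, hg⟩ := fix_mem hnM hn_val (by norm_num) hnO_f1 (List.forall_mem_singleton.2 h1) (by norm_num)
    (by decide +kernel)
  rw [List.mem_singleton.1 hj, ← MulAction.mem_stabilizer_iff, hn_stab] at hg
  obtain ⟨φ, a, -, b, c⟩ := hn_phi
  refine (c ⟨g, hg⟩).1 ?_
  have := hnO_c1.le ⟨b ⟨g, hg⟩, mem_centralizer_singleton_iff.2 (by
    rw [← a]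
    refine Commute.map (Subtype.ext ?_) φ
    rw [coe_mul, coe_mul, hnK_coe (by decide)]
    exact h1)⟩
  rw [cl_singleton] at this
  obtain ⟨k, hk⟩ := mem_zpowers_iff.1 this
  have e1 : φ ⟨g, hg⟩ ^ 11 = 1 := by
    rw [← hk, ← zpow_natCast, ← zpow_mul, mul_comm, zpow_mul, zpow_natCast, ← ev_pwW, rels_perms hnP_val
      (fixR_of_relA (K := 7) (R := [pwW 11 [3, 4, 2, 4, 0, 3, 3]]) hnP_val (by decide +kernel)) _ (by simp), one_zpow]
  have e2 : φ ⟨g, hg⟩ ^ 2 = 1 := by rw [← map_pow, show (⟨g, hg⟩ : cl hnH) ^ 2 = 1 from Subtype.ext h2, map_one]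
  rwa [show 11 = 2 * 5 + 1 from rfl, pow_succ, pow_mul, e2, one_pow, one_mul] at e1

theorem hn_Cu {g : HN} : Commute g (E [0, 0]) ↔ g ∈ cl hnH := by
  have h : cl hnH ≤ centralizer {E [0, 0]} := cl_le fun x hx => by
    obtain ⟨w, hw, rfl⟩ := List.mem_map.1 hx
    exact mem_centralizer_singleton_iff.2 (hn_comm ((by decide +kernel : ∀ w ∈ gensW 5, ∀ p ∈ hnBs,
      fnW hnN (w ++ [0, 0]) p = fnW hnN ([0, 0] ++ w) p) w hw))
  rcases (hn_stab ▸ hn_max).le_iff.1 h with e | e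
  · have : Commute (E [6]) (E [0, 0]) := mem_centralizer_singleton_iff.1 (e ▸ mem_top _)
    refine absurd ?_ (hn_ne (a := [6] ++ [0, 0] ++ [7, 1, 1]) (by decide +kernel))
    rw [ev_append, ev_append, this, ← ev_append, ← ev_append]
    exact hn_eq (b := []) (by decide +kernel)
  · rw [← e]; exact mem_centralizer_singleton_iff.symm

theorem hn_CUt {g : HN} (h1 : Commute g (E [2])) (h2 : Commute g (E [1, 2, 0])) :
    ∃ i < 5, g = E (pwW i [6]) ∨ g = E (pwW i [6] ++ [0, 0]) := by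
  obtain ⟨j, hj, hg⟩ := fix_mem hnM hn_val (by norm_num) hnO_f2
    (List.forall_mem_cons.2 ⟨h1, List.forall_mem_singleton.2 h2⟩) (by norm_num) (by decide +kernel)
  obtain ⟨i, hi, rfl⟩ := (by decide +kernel : ∀ j ∈ [0, 1, 5, 6, 2], ∃ i < 5, fnW hnN (pwW i [6]) 0 = j) j hj
  rw [← ev_smul hnM.acts _ (by norm_num), ← inv_smul_eq_iff, ← mul_smul, ← MulAction.mem_stabilizer_iff, hn_stab] at hg
  have c1 : Commute (E (pwW i [6])) (E [2]) := by rw [ev_pwW]; exact (hn_comm (by decide +kernel)).pow_left i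
  have c2 : Commute (E (pwW i [6])) (E [1, 2, 0]) := by rw [ev_pwW]; exact (hn_comm (by decide +kernel)).pow_left i
  refine ⟨i, hi, (hn_CU hg (c1.inv_left.mul_left h1) (c2.inv_left.mul_left h2)).imp (fun h => ?_) fun h => ?_⟩
  · exact (inv_mul_eq_one.1 h).symm
  · rw [ev_append, ← h, mul_inv_cancel_left]

theorem hnLL_perfect : Group.IsPerfect hnLL :=
  let ⟨_, h, _⟩ := hnLL_stem; H8.perfect_of_stem ⟨hs_perfect⟩ h
theorem hnLL_eq : hnLL = ⁅cl hnH, cl hnH⁆ := by
  refine le_antisymm ?_ (commutator_le.2 fun a ha b hb => ⟨⁅(⟨a, ha⟩ : cl hnH), ⟨b, hb⟩⁆, ?_, rfl⟩)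
  · rw [← isPerfect_iff.1 hnLL_perfect]
    exact commutator_mono (map_subtype_le _) (map_subtype_le _)
  · simp only [SetLike.mem_coe, commutatorElement_def, mul_mem_iff_of_index_two hn_2HS.2.1, inv_mem_iff]
    tauto

theorem hn_autL (β : MulAut hnLL) : ∃ k ∈ cl hnH, ∀ l : hnLL, (β l : HN) = k * l * k⁻¹ := by
  have hle : cl hnH ≤ normalizer hnLL := fun g hg => mem_normalizer_iff.2 fun l =>
    ⟨hnLL_conj hg, fun h => by simpa [mul_assoc] using hnLL_conj (inv_mem hg) h⟩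
  let κ := hnLL.normalizerMonoidHom.comp (inclusion hle)
  have hκ : ∀ k l, (κ k l : HN) = k * l * k⁻¹ := fun _ _ => rfl
  obtain ⟨φ, -, a, -, c⟩ := hn_phi
  have h1 : κ.ker ≤ φ.ker := fun k hk => by
    have e : ∀ l ∈ hnLL, Commute (k : HN) l := fun l hl => by
      have := hκ k ⟨l, hl⟩
      rw [MonoidHom.mem_ker.1 hk] at this
      exact (eq_mul_inv_iff_mul_eq.1 this).symm
    refine (c k).2 (hn_CU k.2 (e _ (hnLL_mem (by decide))) (e _ ?_))
    rw [show [1, 2, 0] = [1] ++ [2] ++ [0] from rfl, ev_append, ev_append]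
    exact mul_mem (mul_mem (hnLL_mem (by decide)) (hnLL_mem (by decide))) (hnLL_mem (by decide))
  have h2 := (card_le_of_le h1).trans a
  have h3 := card_eq_card_quotient_mul_card_subgroup κ.ker
  rw [Nat.card_congr (QuotientGroup.quotientKerEquivRange κ).toEquiv, hn_Hcard] at h3
  have hfin : Finite Cfsg.Spor.HS := Nat.finite_of_card_ne_zero (hs_card.trans_ne (by norm_num))
  obtain ⟨σ, s1, s2, -⟩ := hnLL_stem
  have h4 := card_aut_le s1.1 s2 hnLL_perfect
  have h5 := card_eq_card_quotient_mul_card_subgroup (Cfsg.Inn Cfsg.Spor.HS)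
  have h6 : Nat.card (Cfsg.Inn Cfsg.Spor.HS) ≤ 44352000 :=
    hs_card ▸ Nat.card_le_card_of_surjective _ (MonoidHom.rangeRestrict_surjective _)
  rw [show Nat.card (_ ⧸ _) = 2 from Cfsg.Agent.S2072.result] at h5
  have h7 := Nat.mul_le_mul_left (Nat.card κ.range) h2
  have h8 : κ.range = ⊤ := eq_top_of_le_card _ (by omega)
  obtain ⟨k, rfl⟩ : β ∈ κ.range := h8 ▸ mem_top β
  exact ⟨k, k.2, hκ k⟩

theorem hn_ext {α β : MulAut HN} (h : ∀ i ∈ [0, 2, 4, 6], α (E [i]) = β (E [i])) : α = β := by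
  obtain ⟨x, y, z, t, hX⟩ := hnX_eq
  have := MonoidHom.eq_of_eqOn_dense (f := α.toMonoidHom) (g := β.toMonoidHom) hnB.cl_top fun g hg => by
    have hg' : g ∈ hnX := hg
    simp only [hX, ev_single, List.forall_mem_cons, List.getD_cons_zero, List.getD_cons_succ] at h
    simp only [hX, List.mem_cons, List.not_mem_nil, or_false] at hg'
    rcases hg' with rfl | rfl | rfl | rfl | rfl | rfl | rfl | rfl <;> simp [h]
  exact MulEquiv.ext fun l => DFunLike.congr_fun this l

theorem hn_tau : ∃ τ : MulAut HN, ∀ w, τ (E w) = E (expand hnTau w) := by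
  obtain ⟨τ, h⟩ := hnB.hom (ys := hnTau.map E) rfl (rels_expL.1 fun w hw =>
    ((by decide +kernel : ∀ w ∈ expL hnTau hnR, w ∈ hnR ∨ w ∈ hnTR) w hw).elim (hnB.rels w) (hnO_tr w))
  have h' : ∀ w, τ (E w) = E (expand hnTau w) := fun w => by
    rw [← ev_map, show List.map τ hnX = _ from h, ev_expand]
  have := hn_simple
  have hi : Function.Injective τ :=
    (MonoidHom.ker_eq_bot_iff τ).1 ((Normal.eq_bot_or_eq_top inferInstance).resolve_right fun e =>
      hn_ne (a := expand hnTau [0]) (by decide +kernel) ((h' _).symm.trans (MonoidHom.mem_ker.1 (e ▸ mem_top _))))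
  exact ⟨MulEquiv.ofBijective τ hi.bijective_of_finite, h'⟩

theorem hn_out : Nat.card (Cfsg.Out HN) = 2 := by
  obtain ⟨τ, hτ⟩ := hn_tau
  have cj : ∀ w, MulAut.conj (E [0, 0]) (E w) = E ([0, 0] ++ w ++ [1, 1]) := fun w => by
    rw [MulAut.conj_apply, ev_append, ev_append, inv_eq_of_mul_eq_one_right (b := E [1, 1])]
    exact (ev_append _ _ _).symm.trans (hn_eq (b := []) (by decide +kernel))
  refine H29.card_out_eq_two (α := τ) ?_ fun α => ?_
  · rintro ⟨g, hg⟩
    have e : ∀ w, expand hnTau w = w → Commute g (E w) := fun w hw => by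
      have := hτ w
      rw [hw, ← hg] at this
      exact mul_inv_eq_iff_eq_mul.1 this
    have h1 := hτ [4]
    rw [← hg, MulAut.conj_apply] at h1
    refine hn_ne (a := expand hnTau [4] ++ [5]) (by decide +kernel) ?_
    rw [ev_append, ← h1]
    rcases hn_CU (hn_Cu.1 (e _ rfl)) (e _ rfl) (e _ rfl) with rfl | rfl
    · rw [one_mul, inv_one, mul_one, ← ev_append]; exact hn_eq (b := []) (by decide +kernel)
    · rw [← MulAut.conj_apply, cj, ← ev_append]; exact hn_eq (b := []) (by decide +kernel)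
  have o : orderOf (E [3, 4, 2, 4, 0, 3, 3]) = 11 := by
    have := Fact.mk (show Nat.Prime 11 by norm_num)
    exact orderOf_eq_prime ((ev_pwW _ _ _).symm.trans (hn_eq (b := []) (by decide +kernel))) (hn_ne (by decide +kernel))
  obtain ⟨g, -, hg⟩ := H29.exists_conj_zpowers (by norm_num) o (z := α (E [3, 4, 2, 4, 0, 3, 3]))
    ((orderOf_injective α.toMonoidHom α.injective _).trans o) (by rw [hn_card]; norm_num)
  obtain ⟨m, hm⟩ := mem_zpowers_iff.1 hg
  have u2 : E [0, 0] ^ 2 = 1 := (ev_pwW _ _ _).symm.trans (hn_eq (b := []) (by decide +kernel))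
  have h1 : (MulAut.conj g * α) (E [0, 0]) = E [0, 0] := by
    refine (hn_C11 ?_ (by rw [← map_pow, u2, map_one])).resolve_left fun e =>
      hn_ne (by decide +kernel) ((MulEquiv.map_eq_one_iff _).1 e)
    rw [← hm]
    exact ((hn_comm (a := [0, 0]) (by decide +kernel)).map (MulAut.conj g * α)).zpow_right m
  generalize hα1 : MulAut.conj g * α = α1 at h1
  have h2 : (cl hnH).map (α1 : HN →* HN) ≤ cl hnH := by
    rintro _ ⟨k, hk, rfl⟩
    exact hn_Cu.1 (h1 ▸ (hn_Cu.2 hk).map α1)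
  have h3 : hnLL.map (α1 : HN →* HN) = hnLL := by
    refine eq_of_le_of_card_ge ?_ (card_map_of_injective α1.injective).ge
    rw [hnLL_eq, map_commutator]
    exact commutator_mono h2 h2
  obtain ⟨k, hk, h4⟩ := hn_autL ((α1.subgroupMap hnLL).trans (MulEquiv.subgroupCongr h3))
  have h5 : ∀ l ∈ hnLL, (MulAut.conj k⁻¹ * α1) l = l := fun l hl => by
    have : α1 l = k * l * k⁻¹ := h4 ⟨l, hl⟩
    simp [this, mul_assoc]
  generalize hα2 : MulAut.conj k⁻¹ * α1 = β at h5
  suffices h : β = 1 ∨ β = MulAut.conj (E [0, 0]) ∨ β = τ ∨ β = MulAut.conj (E [0, 0]) * τ by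
    have e : α = MulAut.conj (g⁻¹ * k) * β := by rw [← hα2, ← hα1]; simp [mul_assoc]
    rcases h with h | h | h | h <;> rw [e, h]
    · exact Or.inl ⟨_, (mul_one _).symm⟩
    · exact Or.inl ⟨_, map_mul _ _ _⟩
    · exact Or.inr ⟨_, (mul_inv_cancel_right _ _).symm⟩
    · exact Or.inr ⟨g⁻¹ * k * E [0, 0], by rw [← mul_assoc, mul_inv_cancel_right, map_mul]⟩
  have m0 := hnLL_mem (w := [0]) (by decide)
  have m2 := hnLL_mem (w := [2]) (by decide)
  have m3 : E [1, 2, 0] ∈ hnLL := by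
    rw [show [1, 2, 0] = [1] ++ [2] ++ [0] from rfl, ev_append, ev_append]
    exact mul_mem (mul_mem (hnLL_mem (by decide)) m2) m0
  have mu : E [0, 0] ∈ hnLL := (ev_append hnX [0] [0]).symm ▸ mul_mem m0 m0
  have hz : β (E [4]) = E [4] ∨ β (E [4]) = E [4, 0, 0] := by
    have e : ∀ l ∈ hnLL, Commute ((E [4])⁻¹ * β (E [4])) l := fun l hl => by
      have a := h5 _ (hnLL_conj (hnK_mem (w := [4]) (by decide)) hl)
      rw [map_mul, map_mul, map_inv, h5 l hl, mul_inv_eq_iff_eq_mul] at a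
      change _ * _ = _
      rw [mul_assoc, a]
      group
    refine (hn_CU (hn_Cu.1 (e _ mu)) (e _ m2) (e _ m3)).imp (fun h => (inv_mul_eq_one.1 h).symm) fun h => ?_
    rw [inv_mul_eq_iff_eq_mul.1 h, ← ev_append]; rfl
  obtain ⟨i, hi, ht⟩ := hn_CUt (g := β (E [6])) (h5 _ m2 ▸ (hn_comm (by decide +kernel)).map β)
    (h5 _ m3 ▸ (hn_comm (by decide +kernel)).map β)
  have t5 : β (E [6]) ^ 5 = 1 := by rw [← map_pow, ← ev_pwW, hn_eq (b := []) (by decide +kernel), ev_nil, map_one]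
  have zt : (β (E [4]) * β (E [6])) ^ 3 = 1 := by
    rw [← map_mul, ← map_pow, ← ev_append, ← ev_pwW, hn_eq (b := []) (by decide +kernel), ev_nil, map_one]
  replace ht := ht.resolve_right fun h => hn_ne ((by decide +kernel : ∀ i < 5, ∃ p ∈ hnBs,
    fnW hnN (pwW 5 (pwW i [6] ++ [0, 0])) p ≠ p) i hi) (by rw [ev_pwW, ← h, t5])
  have b0 := h5 _ m0
  have b2 := h5 _ m2
  rcases hz with hz | hz <;> rw [hz, ht, ← ev_append, ← ev_pwW] at zt
  · have : i = 1 ∨ i = 4 := by
      by_contra hc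
      exact hn_ne ((by decide +kernel : ∀ i < 5, ¬ (i = 1 ∨ i = 4) → ∃ p ∈ hnBs,
        fnW hnN (pwW 3 ([4] ++ pwW i [6])) p ≠ p) i hi hc) zt
    rcases this with rfl | rfl
    · refine Or.inl (hn_ext ?_)
      simp only [List.forall_mem_cons, b0, b2, hz, ht]
      exact ⟨rfl, rfl, rfl, rfl, by simp⟩
    · refine Or.inr (Or.inl (hn_ext ?_))
      simp only [List.forall_mem_cons, b0, b2, hz, ht, cj]
      exact ⟨hn_eq (by decide +kernel), hn_eq (by decide +kernel), hn_eq (by decide +kernel), hn_eq (by decide +kernel),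
        by simp⟩
  · have : i = 3 ∨ i = 2 := by
      by_contra hc
      exact hn_ne ((by decide +kernel : ∀ i < 5, ¬ (i = 3 ∨ i = 2) → ∃ p ∈ hnBs,
        fnW hnN (pwW 3 ([4, 0, 0] ++ pwW i [6])) p ≠ p) i hi hc) zt
    rcases this with rfl | rfl
    · refine Or.inr (Or.inr (Or.inl (hn_ext ?_)))
      simp only [List.forall_mem_cons, b0, b2, hz, ht, hτ]
      exact ⟨rfl, rfl, rfl, hn_eq (by decide +kernel), by simp⟩
    · refine Or.inr (Or.inr (Or.inr (hn_ext ?_)))
      simp only [List.forall_mem_cons, b0, b2, hz, ht, MulAut.mul_apply, hτ, cj]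
      exact ⟨hn_eq (by decide +kernel), hn_eq (by decide +kernel), hn_eq (by decide +kernel), hn_eq (by decide +kernel),
        by simp⟩
end
end H28
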