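import Cfsg.Agent.H28.HnM
/-! The relators of HN hold in the model. -/
set_option maxRecDepth 100000
set_option Elab.async false
namespace H28
open H27
noncomputable section
universe u
theorem hn_fix1_0 : FixB 1539000 hnN hnR1 1 := FixB.step (K := 21) (s := 0) (c := 1) hn_val (FixB.zero _ _ _) (by decide +kernel)
theorem hn_fix1_1 : FixB 1539000 hnN hnR1 2 := FixB.step (K := 21) (s := 1) (c := 1) hn_val hn_fix1_0 (by decide +kernel)
theorem hn_fix1_2 : FixB 1539000 hnN hnR1 3 := FixB.step (K := 21) (s := 2) (c := 1) hn_val hn_fix1_1 (by decide +kernel)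
theorem hn_fix1_3 : FixB 1539000 hnN hnR1 4 := FixB.step (K := 21) (s := 3) (c := 1) hn_val hn_fix1_2 (by decide +kernel)
theorem hn_fix1_4 : FixB 1539000 hnN hnR1 5 := FixB.step (K := 21) (s := 4) (c := 1) hn_val hn_fix1_3 (by decide +kernel)
theorem hn_fix1_5 : FixB 1539000 hnN hnR1 6 := FixB.step (K := 21) (s := 5) (c := 1) hn_val hn_fix1_4 (by decide +kernel)
theorem hn_fix1_6 : FixB 1539000 hnN hnR1 7 := FixB.step (K := 21) (s := 6) (c := 1) hn_val hn_fix1_5 (by decide +kernel)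
theorem hn_fix1_7 : FixB 1539000 hnN hnR1 8 := FixB.step (K := 21) (s := 7) (c := 1) hn_val hn_fix1_6 (by decide +kernel)
theorem hn_fix1_8 : FixB 1539000 hnN hnR1 9 := FixB.step (K := 21) (s := 8) (c := 1) hn_val hn_fix1_7 (by decide +kernel)
theorem hn_fix1_9 : FixB 1539000 hnN hnR1 10 := FixB.step (K := 21) (s := 9) (c := 1) hn_val hn_fix1_8 (by decide +kernel)
theorem hn_fix1_10 : FixB 1539000 hnN hnR1 11 := FixB.step (K := 21) (s := 10) (c := 1) hn_val hn_fix1_9 (by decide +kernel)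
theorem hn_fix1_11 : FixB 1539000 hnN hnR1 12 := FixB.step (K := 21) (s := 11) (c := 1) hn_val hn_fix1_10 (by decide +kernel)
theorem hn_fix1_12 : FixB 1539000 hnN hnR1 13 := FixB.step (K := 21) (s := 12) (c := 1) hn_val hn_fix1_11 (by decide +kernel)
theorem hn_fix1_13 : FixB 1539000 hnN hnR1 14 := FixB.step (K := 21) (s := 13) (c := 1) hn_val hn_fix1_12 (by decide +kernel)
theorem hn_fix1_14 : FixB 1539000 hnN hnR1 15 := FixB.step (K := 21) (s := 14) (c := 1) hn_val hn_fix1_13 (by decide +kernel)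
theorem hn_fix1_15 : FixB 1539000 hnN hnR1 16 := FixB.step (K := 21) (s := 15) (c := 1) hn_val hn_fix1_14 (by decide +kernel)
theorem hn_fix1_16 : FixB 1539000 hnN hnR1 17 := FixB.step (K := 21) (s := 16) (c := 1) hn_val hn_fix1_15 (by decide +kernel)
theorem hn_fix1_17 : FixB 1539000 hnN hnR1 18 := FixB.step (K := 21) (s := 17) (c := 1) hn_val hn_fix1_16 (by decide +kernel)
theorem hn_fix1_18 : FixB 1539000 hnN hnR1 19 := FixB.step (K := 21) (s := 18) (c := 1) hn_val hn_fix1_17 (by decide +kernel)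
theorem hn_fix1_19 : FixB 1539000 hnN hnR1 20 := FixB.step (K := 21) (s := 19) (c := 1) hn_val hn_fix1_18 (by decide +kernel)
theorem hn_fix1_20 : FixB 1539000 hnN hnR1 21 := FixB.step (K := 21) (s := 20) (c := 1) hn_val hn_fix1_19 (by decide +kernel)
theorem hn_fix1 : FixR 1539000 hnN hnR1 := hn_fix1_20.fixR hn_val (by norm_num)
end
end H28
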