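import Cfsg.Agent.H28.HnM
/-! The relators of HN hold in the model. -/
set_option maxRecDepth 100000
set_option Elab.async false
namespace H28
open H27
noncomputable section
universe u
theorem hn_fix2_0 : FixB 1539000 hnN hnR2 1 := FixB.step (K := 21) (s := 0) (c := 1) hn_val (FixB.zero _ _ _) (by decide +kernel)
theorem hn_fix2_1 : FixB 1539000 hnN hnR2 2 := FixB.step (K := 21) (s := 1) (c := 1) hn_val hn_fix2_0 (by decide +kernel)
theorem hn_fix2_2 : FixB 1539000 hnN hnR2 3 := FixB.step (K := 21) (s := 2) (c := 1) hn_val hn_fix2_1 (by decide +kernel)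
theorem hn_fix2_3 : FixB 1539000 hnN hnR2 4 := FixB.step (K := 21) (s := 3) (c := 1) hn_val hn_fix2_2 (by decide +kernel)
theorem hn_fix2_4 : FixB 1539000 hnN hnR2 5 := FixB.step (K := 21) (s := 4) (c := 1) hn_val hn_fix2_3 (by decide +kernel)
theorem hn_fix2_5 : FixB 1539000 hnN hnR2 6 := FixB.step (K := 21) (s := 5) (c := 1) hn_val hn_fix2_4 (by decide +kernel)
theorem hn_fix2_6 : FixB 1539000 hnN hnR2 7 := FixB.step (K := 21) (s := 6) (c := 1) hn_val hn_fix2_5 (by decide +kernel)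
theorem hn_fix2_7 : FixB 1539000 hnN hnR2 8 := FixB.step (K := 21) (s := 7) (c := 1) hn_val hn_fix2_6 (by decide +kernel)
theorem hn_fix2_8 : FixB 1539000 hnN hnR2 9 := FixB.step (K := 21) (s := 8) (c := 1) hn_val hn_fix2_7 (by decide +kernel)
theorem hn_fix2_9 : FixB 1539000 hnN hnR2 10 := FixB.step (K := 21) (s := 9) (c := 1) hn_val hn_fix2_8 (by decide +kernel)
theorem hn_fix2_10 : FixB 1539000 hnN hnR2 11 := FixB.step (K := 21) (s := 10) (c := 1) hn_val hn_fix2_9 (by decide +kernel)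
theorem hn_fix2_11 : FixB 1539000 hnN hnR2 12 := FixB.step (K := 21) (s := 11) (c := 1) hn_val hn_fix2_10 (by decide +kernel)
theorem hn_fix2_12 : FixB 1539000 hnN hnR2 13 := FixB.step (K := 21) (s := 12) (c := 1) hn_val hn_fix2_11 (by decide +kernel)
theorem hn_fix2_13 : FixB 1539000 hnN hnR2 14 := FixB.step (K := 21) (s := 13) (c := 1) hn_val hn_fix2_12 (by decide +kernel)
theorem hn_fix2_14 : FixB 1539000 hnN hnR2 15 := FixB.step (K := 21) (s := 14) (c := 1) hn_val hn_fix2_13 (by decide +kernel)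
theorem hn_fix2_15 : FixB 1539000 hnN hnR2 16 := FixB.step (K := 21) (s := 15) (c := 1) hn_val hn_fix2_14 (by decide +kernel)
theorem hn_fix2_16 : FixB 1539000 hnN hnR2 17 := FixB.step (K := 21) (s := 16) (c := 1) hn_val hn_fix2_15 (by decide +kernel)
theorem hn_fix2_17 : FixB 1539000 hnN hnR2 18 := FixB.step (K := 21) (s := 17) (c := 1) hn_val hn_fix2_16 (by decide +kernel)
theorem hn_fix2_18 : FixB 1539000 hnN hnR2 19 := FixB.step (K := 21) (s := 18) (c := 1) hn_val hn_fix2_17 (by decide +kernel)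
theorem hn_fix2_19 : FixB 1539000 hnN hnR2 20 := FixB.step (K := 21) (s := 19) (c := 1) hn_val hn_fix2_18 (by decide +kernel)
theorem hn_fix2_20 : FixB 1539000 hnN hnR2 21 := FixB.step (K := 21) (s := 20) (c := 1) hn_val hn_fix2_19 (by decide +kernel)
theorem hn_fix2 : FixR 1539000 hnN hnR2 := hn_fix2_20.fixR hn_val (by norm_num)
end
end H28
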