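import Cfsg.Agent.H28.HnH
import Cfsg.Agent.H8.Schur3
import Cfsg.Agent.H29.Cov
import Cfsg.Agent.S2046
/-! The Schur multiplier of HN. -/
set_option maxRecDepth 100000
set_option Elab.async false
namespace H28
open H27 Subgroup
open scoped commutatorElement
noncomputable section

theorem stem_of_nonsplit {H K : Type*} [Group H] [Finite H] [Group K] (h : Cfsg.IsNonsplitDoubleCover H K)
    (hK : _root_.commutator K = ⊤) :
    ∃ σ : H →* K, Cfsg.IsStemExtension σ ∧ σ.ker = center H ∧ Nat.card σ.ker = 2 := by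
  obtain ⟨h1, ⟨e⟩, h3⟩ := h
  let σ : H →* K := e.toMonoidHom.comp (QuotientGroup.mk' _)
  have hs : Function.Surjective σ := e.surjective.comp (QuotientGroup.mk'_surjective _)
  have hk : σ.ker = center H := by ext g; simp [σ]
  refine ⟨σ, ⟨hs, hk.le, ?_⟩, hk, hk ▸ h1⟩
  rw [hk]
  rcases ((_root_.commutator H).subgroupOf (center H)).eq_bot_or_eq_top_of_prime_card (hp := ⟨h1 ▸ Nat.prime_two⟩) with h | h
  · refine absurd (isComplement'_of_disjoint_and_mul_eq_univ (disjoint_iff.2 ?_) ?_) (h3 (_root_.commutator H))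
    · rw [inf_comm, ← disjoint_iff]; exact subgroupOf_eq_bot.1 h
    · rw [← normal_mul, ← hk, sup_comm, ← comap_map_eq, _root_.commutator_def, map_commutator,
        map_top_of_surjective _ hs, ← _root_.commutator_def, hK, comap_top, coe_top]
  · exact subgroupOf_eq_top.1 h

/-- a full cover of a perfect group lifts through each central extension -/
theorem lift_cover {Δ G K : Type} [Group Δ] [Finite Δ] [Group G] [Group K] {τ : Δ →* G} (hs : Function.Surjective τ)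
    (hc : τ.ker ≤ center Δ) {L : Subgroup G} {σ : L →* K} (hσ : Cfsg.IsStemExtension σ) (h2 : Nat.card σ.ker = 2)
    (hK : Group.IsPerfect K) (hM : Cfsg.HasCyclicSchurMultiplier K 2) :
    (∀ m ∈ ⁅L.comap τ, L.comap τ⁆, τ m = 1 → m = 1) ∧ ∀ l ∈ L, ∃ m ∈ ⁅L.comap τ, L.comap τ⁆, τ m = l := by
  have hL := H8.perfect_of_stem hK hσ
  let ε := τ.subgroupComap L
  have e1 : Function.Surjective ε := τ.subgroupComap_surjective_of_surjective L hs
  have e2 : ε.ker ≤ center _ := fun a ha => Subgroup.mem_center_iff.2 fun b =>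
    Subtype.ext (Subgroup.mem_center_iff.1 (hc (congrArg Subtype.val ha)) b)
  have hC := H8.perfect_commutator_of_central hL e1 e2
  have e3 := H8.commutator_surj_of_perfect hL e1
  set ε' := ε.comp (_root_.commutator _).subtype
  have e4 : ε'.ker ≤ center _ := fun a ha => Subgroup.mem_center_iff.2 fun b => Subtype.ext (Subgroup.mem_center_iff.1 (e2 ha) b)
  have e5 : (σ.comp ε').ker ≤ center _ := fun a ha => by
    rw [← QuotientGroup.eq_one_iff, ← mem_bot, ← Group.IsPerfect.center_quotient_center_eq_bot, Subgroup.mem_center_iff]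
    intro b
    obtain ⟨b, rfl⟩ := QuotientGroup.mk_surjective b
    rw [← QuotientGroup.mk_mul, ← QuotientGroup.mk_mul, QuotientGroup.eq]
    refine e4 ?_
    rw [MonoidHom.mem_ker, map_mul, map_inv, map_mul, map_mul, Subgroup.mem_center_iff.1 (hσ.2.1 ha), inv_mul_cancel]
  obtain ⟨π, hπ⟩ := hM.2 _ (σ.comp ε') ⟨hσ.1.comp e3, e5, fun _ _ => Group.IsPerfect.mem_commutator⟩
  have c1 : Nat.card (σ.comp ε').ker ≤ Nat.card σ.ker := by
    have := Nat.card_le_card_of_surjective _ hπ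
    rw [h2]
    simpa using this
  have e6 : Function.Surjective fun a : (σ.comp ε').ker => (⟨ε' a, a.2⟩ : σ.ker) := fun b => by
    obtain ⟨a, ha⟩ := e3 b
    exact ⟨⟨a, by rw [MonoidHom.mem_ker, MonoidHom.comp_apply, ha]; exact b.2⟩, Subtype.ext ha⟩
  have e7 := (e6.bijective_of_nat_card_le c1).1
  rw [← map_subtype_commutator]
  refine ⟨?_, fun l hl => ?_⟩
  · rintro _ ⟨m, hm, rfl⟩ h
    have h1 : ε' ⟨m, hm⟩ = 1 := Subtype.ext h
    have := e7 (a₁ := ⟨⟨m, hm⟩, by rw [MonoidHom.mem_ker, MonoidHom.comp_apply, h1, map_one]⟩) (a₂ := 1)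
      (Subtype.ext (h1.trans (map_one _).symm))
    exact congrArg (fun a : (σ.comp ε').ker => (a.1.1 : Δ)) this
  · obtain ⟨a, ha⟩ := e3 ⟨l, hl⟩
    exact ⟨_, ⟨a.1, a.2, rfl⟩, congrArg Subtype.val ha⟩

theorem conj_mem_comm {Δ : Type*} [Group Δ] {E : Subgroup Δ} {d : Δ} (h : ∀ a ∈ E, d * a * d⁻¹ ∈ E) {m : Δ}
    (hm : m ∈ ⁅E, E⁆) : d * m * d⁻¹ ∈ ⁅E, E⁆ := by
  have h1 : E.map (MulAut.conj d).toMonoidHom ≤ E := by rintro _ ⟨a, ha, rfl⟩; exact h a ha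
  have h2 := mem_map_of_mem (MulAut.conj d).toMonoidHom hm
  rw [map_commutator] at h2
  exact commutator_mono h1 h1 h2

/-- parity of the number of letters `4, 5` -/
def zpar (w : List Nat) : Bool := w.foldr (fun g b => if g < 4 then b else !b) false
theorem ev_zpar {Δ : Type*} [Group Δ] {M : Subgroup Δ} {x y z : Δ} (l : List Δ) (hx : x ∈ M) (hy : y ∈ M)
    (hz : z * z = 1) (hn : ∀ m ∈ M, z * m * z⁻¹ ∈ M) {w : List Nat} (hw : ∀ g ∈ w, g < 6) :
    ev (x :: x⁻¹ :: y :: y⁻¹ :: z :: z⁻¹ :: l) w * cond (zpar w) z 1 ∈ M := by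
  induction w with
  | nil => simpa [ev_nil, zpar] using M.one_mem
  | cons g w ih =>
    have h := ih fun a ha => hw a (List.mem_cons_of_mem _ ha)
    have hg := hw g List.mem_cons_self
    have hi : z⁻¹ = z := inv_eq_of_mul_eq_one_right hz
    have e : ∀ a b, a * cond b z 1 ∈ M → z * a * cond (!b) z 1 ∈ M := fun a b h => by
      have := hn _ h
      cases b
      · simpa [hi] using this
      · simpa [mul_assoc] using this
    rw [ev_cons]
    interval_cases g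
    · rw [mul_assoc]; exact M.mul_mem hx h
    · rw [mul_assoc]; exact M.mul_mem (M.inv_mem hx) h
    · rw [mul_assoc]; exact M.mul_mem hy h
    · rw [mul_assoc]; exact M.mul_mem (M.inv_mem hy) h
    · exact e _ _ h
    · have := e _ _ h
      nth_rw 1 [← hi] at this
      exact this

theorem lift_t {Δ : Type*} [Group Δ] {N : Subgroup Δ} (hN : N ≤ center Δ) {x t : Δ} (h0 : t ^ 5 ∈ N)
    (h1 : x⁻¹ * t * x * t * t ∈ N) :
    ∃ c ∈ N, (t * c) ^ 5 = 1 ∧ x⁻¹ * (t * c) * x * (t * c) * (t * c) = 1 := by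
  obtain ⟨b, hb⟩ : ∃ b : center Δ, b = t ^ 5 := ⟨⟨_, hN h0⟩, rfl⟩
  obtain ⟨a, ha⟩ : ∃ a : center Δ, a = x⁻¹ * t * x * t * t := ⟨⟨_, hN h1⟩, rfl⟩
  have cm : ∀ (c : center Δ) (g : Δ), Commute g c := fun c g => Subgroup.mem_center_iff.1 c.2 g
  have h : b ^ 3 = a ^ 5 := Subtype.ext (by
    have e1 : x⁻¹ * t * x = a * (t ^ 2)⁻¹ := by rw [ha]; group
    have e2 : (x⁻¹ * t * x) ^ 5 = b := by
      rw [show (x⁻¹ * t * x) ^ 5 = x⁻¹ * t ^ 5 * x by simpa using conj_pow (a := x⁻¹) (b := t) (i := 5), ← hb,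
        mul_assoc, ← (cm b x).eq, inv_mul_cancel_left]
    rw [e1, (cm a _).symm.mul_pow, hb] at e2
    rw [coe_pow, coe_pow, hb, eq_mul_inv_of_mul_eq e2]
    group)
  have cc : ∀ (c d : center Δ) (n : ℕ), (c * d) ^ n = c ^ n * d ^ n := fun c d n =>
    Commute.mul_pow (Subtype.ext (cm d c).eq) n
  refine ⟨(a ^ 3 * b⁻¹ ^ 2 : center Δ), ?_, ?_, ?_⟩
  · exact mul_mem (pow_mem (ha ▸ h1) 3) (pow_mem (inv_mem (hb ▸ h0)) 2)
  · rw [(cm _ t).mul_pow, ← hb, ← coe_pow, ← coe_mul, OneMemClass.coe_eq_one, cc, ← pow_mul, mul_comm 3, pow_mul,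
      ← h]
    group
  · have : ∀ c : center Δ, x⁻¹ * (t * c) * x * (t * c) * (t * c) = (a * c ^ 3 : center Δ) := fun c => by
      have e : ∀ g k : Δ, c * (g * k) = g * (c * k) := fun g k => by rw [← mul_assoc, ← (cm c g).eq, mul_assoc]
      rw [coe_mul, coe_pow, ha]
      simp only [mul_assoc, pow_succ, pow_zero, one_mul]
      rw [e x, e t c, e t, e t]
    rw [this, OneMemClass.coe_eq_one, cc, ← pow_mul b⁻¹, mul_comm 2, pow_mul, inv_pow, h]
    group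

def hnSW : List (List Nat) := [[0, 0, 0, 0], [0, 0, 4, 1, 1, 5], [6, 4, 7, 7, 4, 6, 6, 5, 7, 1, 1]]
theorem hnS_pt : ∀ p ∈ hnBs, Dc.ptChk hnN hnSW p = true := by decide +kernel
/-- the index two subgroup `2.HS` of the centraliser -/
abbrev hnLL : Subgroup Cfsg.Spor.HN := (cl hnL0).map (cl hnH).subtype
theorem hs_card : Nat.card Cfsg.Spor.HS = 44352000 := by rw [← Nat.card_congr hsEquiv.toEquiv, card_CHS]
theorem hs_perfect : _root_.commutator Cfsg.Spor.HS = ⊤ := by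
  have := Nat.finite_of_card_ne_zero (hs_card.trans_ne (by norm_num))
  have hs := simple_CHS
  have hs' : IsSimpleGroup Cfsg.Spor.HS := hsEquiv.symm.isSimpleGroup
  exact H29.perfect_of_simple hs_card (by norm_num)
theorem hnLL_stem : ∃ σ : hnLL →* Cfsg.Spor.HS, Cfsg.IsStemExtension σ ∧ σ.ker = center _ ∧ Nat.card σ.ker = 2 := by
  obtain ⟨h1, ⟨e⟩, h3⟩ := hn_2HS.2.2
  let f := (cl hnL0).equivMapOfInjective _ (cl hnH).subtype_injective
  obtain ⟨σ, a, b, c⟩ := stem_of_nonsplit hn_2HS.2.2 hs_perfect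
  obtain ⟨d, ⟨g⟩⟩ := H8.stem_comp_equiv a f.symm
  refine ⟨_, d, ?_, (Nat.card_congr g.toEquiv).trans c⟩
  ext x
  rw [MonoidHom.mem_ker, MonoidHom.comp_apply, ← MonoidHom.mem_ker, b]
  exact MulEquivClass.apply_mem_center_iff f.symm
theorem hnLL_mem {w : List Nat} (hw : w ∈ hni_Sb) : ev hnX w ∈ hnLL :=
  ⟨ev (subL hnH) w, mem_cl (List.mem_map_of_mem hw), (coe_ev_subL _ _).trans
    (Dc.ev_expand_gens _ ((by decide : ∀ w ∈ hni_Sb, ∀ g ∈ w, g < 5) w hw))⟩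
theorem hnLL_conj {g l : Cfsg.Spor.HN} (hg : g ∈ cl hnH) (hl : l ∈ hnLL) : g * l * g⁻¹ ∈ hnLL := by
  obtain ⟨l, hl, rfl⟩ := hl
  exact ⟨_, hn_2HS.1.conj_mem l hl ⟨g, hg⟩, rfl⟩
theorem hnX_eq : ∃ x y z t, hnX = [x, x⁻¹, y, y⁻¹, z, z⁻¹, t, t⁻¹] := ⟨_, _, _, _, rfl⟩

theorem hn_schur {Δ : Type} [Group Δ] [Finite Δ] {τ : Δ →* Cfsg.Spor.HN} (h : Cfsg.IsStemExtension τ) :
    τ.ker = ⊥ := by
  obtain ⟨σ, s1, -, s2⟩ := hnLL_stem
  obtain ⟨m1, m2⟩ := lift_cover h.1 h.2.1 s1 s2 ⟨hs_perfect⟩ Cfsg.Agent.S2046.result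
  obtain ⟨x0, y0, z0, t0, hX⟩ := hnX_eq
  have cm : ∀ {c : Δ}, τ c = 1 → ∀ g, Commute g c := fun hc g => Subgroup.mem_center_iff.1 (h.2.1 hc) g
  have R : ∀ w, w ∈ hnR ∨ w ∈ hnSW → ev [x0, x0⁻¹, y0, y0⁻¹, z0, z0⁻¹, t0, t0⁻¹] w = 1 := fun w hw =>
    hX ▸ hw.elim (hnB.rels w) (hn_rels hnS_pt w)
  obtain ⟨x, mx, hx⟩ := m2 _ (hnLL_mem (w := [0]) (by decide))
  obtain ⟨y, my, hy⟩ := m2 _ (hnLL_mem (w := [2]) (by decide))
  have hz0 : z0 ∈ cl hnH := by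
    have : ev hnX [4] ∈ cl hnH := mem_cl (List.mem_map_of_mem (by decide))
    simpa [hX, ev_single] using this
  rw [hX, ev_single] at hx hy
  simp only [List.getD_cons_zero, List.getD_cons_succ] at hx hy
  have key : ∀ z t, τ z = z0 → τ t = t0 → z * z = 1 → ∀ w, w ∈ hnR ∨ w ∈ hnSW → (∀ g ∈ w, g < 6) → zpar w = false →
      ev [x, x⁻¹, y, y⁻¹, z, z⁻¹, t, t⁻¹] w = 1 := fun z t hz ht z2 w hw h6 hp => by
    have := ev_zpar [t, t⁻¹] mx my z2 (fun m hm => conj_mem_comm (fun a ha => by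
      rw [mem_comap, map_mul, map_mul, map_inv, hz]; exact hnLL_conj hz0 ha) hm) h6
    rw [hp, cond_false, mul_one] at this
    refine m1 _ this ?_
    rw [← ev_map, ← R w hw]
    simp [hx, hy, hz, ht]
  obtain ⟨t1, ht1⟩ := h.1 t0
  obtain ⟨z1, hz1⟩ := h.1 z0
  have x4 : (x * x) ^ 2 = 1 := m1 _ (pow_mem (mul_mem mx mx) _) (by
    simpa [ev_cons, ev_nil, hx, pow_two, mul_assoc] using R [0, 0, 0, 0] (by decide))
  obtain ⟨z2, hz2, z22⟩ : ∃ z, τ z = z0 ∧ z * z = 1 := by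
    obtain ⟨g, hg⟩ : ∃ g, g = t1 * z1 * t1⁻¹ * t1⁻¹ := ⟨_, rfl⟩
    have hc : τ (g * z1 * g⁻¹ * (x * x)⁻¹) = 1 := by
      simpa [ev_cons, ev_nil, hx, hz1, ht1, hg, mul_assoc] using R [6, 4, 7, 7, 4, 6, 6, 5, 7, 1, 1] (by decide)
    generalize hcd : g * z1 * g⁻¹ * (x * x)⁻¹ = c at hc
    refine ⟨z1 * c⁻¹, by simp [hz1, hc], ?_⟩
    have e1 : z1 * c⁻¹ = g⁻¹ * (x * x) * g := by
      have : z1 = g⁻¹ * (c * (x * x) * g) := by rw [← hcd]; group
      rw [this, mul_assoc c, ← (cm hc _).eq]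
      group
    rw [e1, show g⁻¹ * (x * x) * g * (g⁻¹ * (x * x) * g) = g⁻¹ * (x * x) ^ 2 * g by simp [pow_two, mul_assoc], x4]
    group
  obtain ⟨c, hc, t5, tx⟩ := lift_t h.2.1 (x := x) (t := t1)
    (by simpa [ev_cons, ev_nil, ht1, pow_succ, mul_assoc] using R [6, 6, 6, 6, 6] (by decide))
    (by simpa [ev_cons, ev_nil, ht1, hx, mul_assoc] using R [1, 6, 0, 6, 6] (by decide))
  have ht : τ (t1 * c) = t0 := by rw [map_mul, ht1, hc, mul_one]
  generalize t1 * c = t at t5 tx ht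
  have ty : t⁻¹ * y⁻¹ * t * y = 1 := by
    have hd : τ (t⁻¹ * y⁻¹ * t * y) = 1 := by
      simpa [ev_cons, ev_nil, ht, hy, mul_assoc] using R [7, 3, 6, 2] (by decide)
    have y6 : y ^ 6 = 1 := by
      simpa [ev_cons, ev_nil, pow_succ, mul_assoc] using key z2 t hz2 ht z22 [2, 2, 2, 2, 2, 2] (by decide) (by decide) rfl
    generalize hdd : t⁻¹ * y⁻¹ * t * y = d at hd
    have e1 : (t * d) ^ 5 = y⁻¹ * t ^ 5 * y := by
      rw [← hdd, show t * (t⁻¹ * y⁻¹ * t * y) = y⁻¹ * t * y⁻¹⁻¹ by group, conj_pow, inv_inv]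
    have e2 : (d * y⁻¹) ^ 6 = t⁻¹ * y⁻¹ ^ 6 * t := by
      rw [← hdd, show t⁻¹ * y⁻¹ * t * y * y⁻¹ = t⁻¹ * y⁻¹ * t⁻¹⁻¹ by group, conj_pow, inv_inv]
    rw [(cm hd _).mul_pow, t5, one_mul, mul_one, inv_mul_cancel] at e1
    rw [(cm hd _).symm.mul_pow, inv_pow, y6, inv_one, mul_one, mul_one, inv_mul_cancel, pow_succ, e1, one_mul] at e2
    exact e2
  have hd : τ ((z2 * t) ^ 3) = 1 := by
    simpa [ev_cons, ev_nil, ht, hz2, pow_succ, mul_assoc] using R [4, 6, 4, 6, 4, 6] (by decide)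
  have d2 : (z2 * t) ^ 3 * (z2 * t) ^ 3 = 1 := by
    have e0 : x * x * z2 * x⁻¹ * x⁻¹ * z2⁻¹ = 1 := by
      simpa [ev_cons, ev_nil, mul_assoc] using key z2 t hz2 ht z22 [0, 0, 4, 1, 1, 5] (by decide) (by decide) rfl
    have e1 : x⁻¹ * t * x⁻¹⁻¹ = (t ^ 2)⁻¹ := by rw [eq_inv_iff_mul_eq_one, ← tx]; simp [pow_two, mul_assoc]
    have e2 : (x * x)⁻¹ * t * (x * x) = t⁻¹ := by
      rw [show (x * x)⁻¹ * t * (x * x) = x⁻¹ * (x⁻¹ * t * x⁻¹⁻¹) * x⁻¹⁻¹ by group, e1, ← conj_inv, ← conj_pow, e1,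
        eq_inv_iff_mul_eq_one, ← t5]
      group
    have e3 : (x * x)⁻¹ * z2 * (x * x) = z2⁻¹ := by
      rw [inv_eq_of_mul_eq_one_right z22, mul_assoc, inv_mul_eq_iff_eq_mul, ← one_mul (z2 * _), ← e0]
      group
    have e4 : (x * x)⁻¹ * (z2 * t) ^ 3 * (x * x)⁻¹⁻¹ = ((t * z2) ^ 3)⁻¹ := by
      rw [← conj_pow, show (x * x)⁻¹ * (z2 * t) * (x * x)⁻¹⁻¹ = (x * x)⁻¹ * z2 * (x * x) * ((x * x)⁻¹ * t * (x * x)) by
        simp [mul_assoc], e2, e3, ← mul_inv_rev, inv_pow]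
    have e5 : (t * z2) ^ 3 = t * (z2 * t) ^ 3 * t⁻¹ := by rw [← conj_pow]; group
    rw [(cm hd _).eq, inv_inv, inv_mul_cancel_right, e5, (cm hd t).eq, mul_inv_cancel_right] at e4
    exact mul_eq_one_iff_eq_inv.2 e4
  generalize hdd : (z2 * t) ^ 3 = d at hd d2
  have hz : τ (z2 * d) = z0 := by rw [map_mul, hd, hz2, mul_one]
  have zz : z2 * d * (z2 * d) = 1 := by
    rw [← pow_two, (cm hd _).mul_pow, pow_two, pow_two, z22, d2, mul_one]
  have zt : (z2 * d * t) ^ 3 = 1 := by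
    rw [mul_assoc, ← (cm hd t).eq, ← mul_assoc, (cm hd _).mul_pow, hdd, pow_succ, pow_two, d2, one_mul, d2]
  generalize z2 * d = z at hz zz zt
  obtain ⟨φ, hφ⟩ := hnB.hom (ys := [x, x⁻¹, y, y⁻¹, z, z⁻¹, t, t⁻¹]) rfl fun w hw => by
    rcases (by decide : ∀ w ∈ hnR, ((∀ g ∈ w, g < 6) ∧ zpar w = false) ∨
      w ∈ [[6, 7], [7, 6], [6, 6, 6, 6, 6], [1, 6, 0, 6, 6], [7, 3, 6, 2], [4, 6, 4, 6, 4, 6]]) w hw with h1 | h1
    · exact key z t hz ht zz w (Or.inl hw) h1.1 h1.2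
    · simp only [List.mem_cons, List.not_mem_nil, or_false] at h1
      rcases h1 with rfl | rfl | rfl | rfl | rfl | rfl
      · simp [ev_cons, ev_nil]
      · simp [ev_cons, ev_nil]
      · simpa [ev_cons, ev_nil, pow_succ, mul_assoc] using t5
      · simpa [ev_cons, ev_nil, mul_assoc] using tx
      · simpa [ev_cons, ev_nil, mul_assoc] using ty
      · simpa [ev_cons, ev_nil, pow_succ, mul_assoc] using zt
  have e : τ.comp φ = MonoidHom.id _ := by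
    refine MonoidHom.eq_of_eqOn_dense hnB.cl_top fun g hg => ?_
    have e1 : hnX.map (τ.comp φ) = hnX.map (MonoidHom.id _) := by
      rw [MonoidHom.coe_comp, ← List.map_map, show List.map φ hnX = _ from hφ, hX]
      simp [hx, hy, hz, ht]
    exact List.map_inj_left.1 e1 g hg
  rw [eq_bot_iff]
  intro k hk
  obtain ⟨g, rfl⟩ := H8.surjective_of_over_stem Function.surjective_id h e k
  have : g = 1 := (DFunLike.congr_fun e g).symm.trans hk
  rw [this, map_one]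
  exact one_mem _
end
end H28
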