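import Cfsg.Agent.H28.Tw5
import Cfsg.Agent.H9.Fy1

/-! The subgroup generated by a base is the Thompson subgroup of a Sylow 2-subgroup: group theory. -/
namespace H28
open Cfsg H27
noncomputable section
variable {G M : Type*} [Group G] [Group M] {D : Set G}

theorem burn [Finite G] {l : List G} (nd : l.Nodup) (hl : l.length = 22) {A V : Subgroup G}
    (n : ∀ g ∈ A, ∀ x ∈ l, g * x * g⁻¹ ∈ l) (v : ∀ g ∈ V, ∀ x ∈ l, Commute g x)
    (f : ∀ g ∈ A, g ∈ V ∨ {x | x ∈ l ∧ Commute g x}.ncard = 6) : Nat.card A ∣ 16 * Nat.card ↥(A ⊓ V) := by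
  classical
  letI : MulAction A {x // x ∈ l} :=
    { smul := fun a x => ⟨a.1 * x.1 * a.1⁻¹, n _ a.2 _ x.2⟩
      one_smul := fun x => Subtype.ext (by change (1 : A).1 * _ * (1 : A).1⁻¹ = _; simp)
      mul_smul := fun a b x => Subtype.ext (by
        change (a * b).1 * _ * (a * b).1⁻¹ = a.1 * (b.1 * _ * b.1⁻¹) * a.1⁻¹; simp [mul_assoc]) }
  have := Fintype.ofFinite A
  have := Fintype.ofFinite (MulAction.orbitRel.Quotient A {x // x ∈ l})
  have k := MulAction.sum_card_fixedBy_eq_card_orbits_mul_card_group A {x // x ∈ l}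
  have e : ∀ a : A, Fintype.card (MulAction.fixedBy {x // x ∈ l} a) = 6 + if a.1 ∈ V then 16 else 0 := fun a => by
    have : Fintype.card (MulAction.fixedBy {x // x ∈ l} a) = {x | x ∈ l ∧ Commute a.1 x}.ncard := by
      rw [← Nat.card_eq_fintype_card, Nat.card_coe_set_eq, ← Set.ncard_image_of_injective _ Subtype.val_injective]
      congr 1
      ext x
      exact ⟨by rintro ⟨y, h, rfl⟩; exact ⟨y.2, conj_eq_iff_commute.1 (congrArg Subtype.val h)⟩,
        fun h => ⟨⟨x, h.1⟩, Subtype.ext (conj_eq_iff_commute.2 h.2), rfl⟩⟩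
    rw [this]
    split_ifs with h
    · rw [show {x | x ∈ l ∧ Commute a.1 x} = (l.toFinset : Set G) from Set.ext fun x => by
        simpa using fun hx => v _ h x hx, Set.ncard_coe_finset, List.toFinset_card_of_nodup nd, hl]
    · exact (f _ a.2).resolve_left h
  simp only [e, Finset.sum_add_distrib, Finset.sum_const, Finset.card_univ, smul_eq_mul, ← Finset.sum_filter] at k
  have c : (Finset.univ.filter fun a : A => a.1 ∈ V).card = Nat.card ↥(A ⊓ V) := by
    rw [inf_comm, H9.card_inf_eq, ← Fintype.card_subtype, ← Nat.card_eq_fintype_card]; rfl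
  rw [c, ← Nat.card_eq_fintype_card] at k
  exact (Nat.dvd_add_right (Dvd.intro 6 rfl)).1 (by rw [mul_comm 16, k]; exact Dvd.intro_left _ rfl)

theorem duad (hD : IsThreeTranspositionSet D) (nr : NR D 4) {l : List G} (c : Clq D l) {a b x y : G} (ha : a ∈ l) (hb : b ∈ l)
    (hx : x ∈ l) (hy : y ∈ l) (n : a ≠ b) (e : a * b = x * y) : x = a ∨ x = b := by
  have p : ∀ {a b}, a ∈ l → b ∈ l → a ≠ b → Clq D [a, b] := fun ha hb n =>
    clq_iff.2 ⟨by simpa using n, by simpa using ⟨c.1 _ ha, c.1 _ hb⟩, by simpa using ⟨c.comm _ ha _ hb, c.comm _ hb _ ha⟩⟩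
  have m : x ≠ y := by
    rintro rfl
    exact n (tt_eq_of_mul_eq_one hD (c.1 _ ha) (e.trans (tt_sq hD (c.1 _ hx))))
  simpa using (nr.perm3 hD (p ha hb n) (p hx hy m) (by simp) (by simp) (by simpa using e)).symm.subset List.mem_cons_self

theorem nine [Finite G] (hD : IsThreeTranspositionSet D) (nr : NR D 4) {l : List G} (c : Clq D l) (hl : l.length = 22) {x : G}
    (n : ∀ y ∈ l, x * y * x⁻¹ ∈ l) (f : {y | y ∈ l ∧ Commute x y}.ncard = 6) :
    9 * Nat.card ↥(cl l ⊓ Subgroup.centralizer {x}) ≤ Nat.card (cl l) := by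
  classical
  let S := l.toFinset.filter fun y => ¬ Commute x y
  have s : S.card = 16 := by
    have := Finset.card_filter_add_card_filter_not (s := l.toFinset) (fun y => Commute x y)
    rw [List.toFinset_card_of_nodup c.nodup, hl, ← Set.ncard_coe_finset,
      show ((l.toFinset.filter fun y => Commute x y : Finset G) : Set G) = {y | y ∈ l ∧ Commute x y} by ext; simp, f] at this
    exact Nat.add_left_cancel this
  have t := Finset.card_le_mul_card_image (f := fun y => y * x * y⁻¹) S 2 fun z hz => by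
    obtain ⟨a, ha, rfl⟩ := Finset.mem_image.1 hz
    simp only [S, Finset.mem_filter, List.mem_toFinset] at ha
    refine (Finset.card_le_card (t := {a, x * a * x⁻¹}) fun b hb => ?_).trans Finset.card_le_two
    simp only [S, Finset.mem_filter, List.mem_toFinset, tt_inv hD (c.1 _ ha.1)] at hb
    rw [tt_inv hD (c.1 _ hb.1.1)] at hb
    simpa using duad hD nr c ha.1 (n a ha.1) hb.1.1 (n b hb.1.1) (fun e => ha.2 (conj_eq_iff_commute.1 e.symm))
      (by rw [← mul_assoc, ← mul_assoc, ← hb.2]; group)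
  refine le_trans (Nat.mul_le_mul_right _ ?_) (H9.orb_le_card (cl l) x (A := ((insert x (S.image fun y => y * x * y⁻¹) : Finset G) : Set G)) ?_)
  · rw [Set.ncard_coe_finset, Finset.card_insert_of_notMem]
    · omega
    · simp only [S, Finset.mem_image, Finset.mem_filter]
      exact fun ⟨a, ha, e⟩ => ha.2 (conj_eq_iff_commute.1 e).symm
  · simp only [S, Finset.coe_insert, Finset.coe_image, Set.mem_insert_iff]
    rintro _ (rfl | ⟨a, ha, rfl⟩)
    · exact ⟨1, one_mem _, by simp⟩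
    · exact ⟨a, mem_cl (by simpa using (Finset.mem_filter.1 ha).1), rfl⟩

theorem jt_abs [Finite G] (hD : IsThreeTranspositionSet D) (nr : NR D 4) {l : List G} (c : Clq D l) (hl : l.length = 22)
    (hV : Nat.card (cl l) = 1024) {A : Subgroup G} (ea : IsElementaryAbelian 2 A) (n : ∀ g ∈ A, ∀ x ∈ l, g * x * g⁻¹ ∈ l)
    (f : ∀ g ∈ A, g ∈ cl l ∨ {x | x ∈ l ∧ Commute g x}.ncard = 6) (hA : 1024 ≤ Nat.card A) : A ≤ cl l := by
  have cA : ∀ a ∈ A, ∀ b ∈ A, Commute a b := fun a ha b hb => congrArg Subtype.val (ea.1.1.1 ⟨a, ha⟩ ⟨b, hb⟩)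
  have k1 := Nat.le_of_dvd (Nat.mul_pos (by norm_num) Nat.card_pos)
    (burn c.nodup hl n (fun g hg x hx => (mem_cn.1 (c.cl_le_cn hg) x hx).symm) f)
  have le : ∀ x ∈ A, A ⊓ cl l ≤ cl l ⊓ Subgroup.centralizer {x} := fun x hx y hy => ⟨hy.2, mem_cent1.2 (cA _ hx _ hy.1)⟩
  have k2 : ∀ x ∈ A, x ∉ cl l → 9 * Nat.card ↥(A ⊓ cl l) ≤ 1024 ∧ ∀ y ∈ cl l, Commute x y → y ∈ A := fun x hx nx => by
    have a := nine hD nr c hl (n x hx) ((f x hx).resolve_left nx)
    have b := Subgroup.card_le_of_le (le x hx)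
    obtain ⟨m, hm⟩ := Subgroup.card_dvd_of_le (le x hx)
    have : m < 2 := by
      by_contra! q
      have := Nat.mul_le_mul_left (Nat.card ↥(A ⊓ cl l)) q
      omega
    have e := Subgroup.eq_of_le_of_card_ge (le x hx) (by rw [hm]; interval_cases m <;> simp)
    exact ⟨by omega, fun y hy cy => (e.ge ⟨hy, mem_cent1.2 cy⟩).1⟩
  intro x hx
  by_contra nx
  obtain ⟨y, hy, ny, ny'⟩ : ∃ y ∈ A, y ∉ cl l ∧ x * y ∉ cl l := by
    by_contra! q
    have : Nat.card A ≤ 2 * Nat.card ↥(A ⊓ cl l) := by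
      rw [inf_comm, H9.card_inf_eq, ← ((cl l).subgroupOf A).index_mul_card]
      refine Nat.mul_le_mul_right _ (Subgroup.index_eq_two_iff'.2 ⟨⟨x, hx⟩, fun b => ?_⟩).le
      by_cases h : b.1 ∈ cl l
      · exact .inr ⟨h, fun k => nx (by simpa using (cl l).mul_mem k ((cl l).inv_mem h))⟩
      · exact .inl ⟨q _ b.2 h, h⟩
    have := (k2 x hx nx).1
    omega
  have x2 : x * x = 1 := by rw [← pow_two]; exact ea.2 x hx
  have e : ∀ b ∈ l, Commute (x * y) b := fun b hb => by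
    by_cases h : Commute x b
    · exact h.mul_left (cA _ hy _ ((k2 x hx nx).2 b (mem_cl hb) h))
    · have m := (k2 x hx nx).2 _ ((cl l).mul_mem (mem_cl hb) (mem_cl (n x hx b hb))) (conj_eq_iff_commute.1 (by
        rw [show x * (b * (x * b * x⁻¹)) * x⁻¹ = x * b * x⁻¹ * ((x * x) * b * (x * x)⁻¹) by group, x2, one_mul, inv_one, mul_one]
        exact c.comm _ (n x hx b hb) _ hb))
      rcases duad hD nr c hb (n x hx b hb) (n y hy b hb) (n y hy _ (n x hx b hb)) (fun e => h (conj_eq_iff_commute.1 e.symm))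
        (by rw [← conj_eq_iff_commute.2 (cA _ hy _ m)]; group) with q | q
      · exact absurd (cA _ hx _ ((k2 y hy ny).2 b (mem_cl hb) (conj_eq_iff_commute.1 q))) h
      · refine conj_eq_iff_commute.1 ?_
        rw [show x * y * b * (x * y)⁻¹ = x * (y * b * y⁻¹) * x⁻¹ by group, q,
          show x * (x * b * x⁻¹) * x⁻¹ = (x * x) * b * (x * x)⁻¹ by group, x2]; simp
  classical
  have := (f _ (A.mul_mem hx hy)).resolve_left ny'
  rw [show {z | z ∈ l ∧ Commute (x * y) z} = (l.toFinset : Set G) from Set.ext fun z => by simpa using e z,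
    Set.ncard_coe_finset, List.toFinset_card_of_nodup c.nodup, hl] at this
  omega

/-- the elementary abelian subgroups of order `2 ^ k` of `T` -/
def JL (l : List G) (k : Nat) (T : Subgroup G) : Prop := Nat.card (cl l) = 2 ^ k ∧ cl l ≤ T ∧
  ∀ A ≤ T, IsElementaryAbelian 2 A → 2 ^ k ≤ Nat.card A → A ≤ cl l
def JS (D : Set G) (n k : Nat) : Prop := ∀ T : Sylow 2 G, ∃ l, Clq D l ∧ l.length = n ∧ JL l k T

theorem Clq.ea [Finite G] (hD : IsThreeTranspositionSet D) {l : List G} (c : Clq D l) : IsElementaryAbelian 2 (cl l) :=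
  (H9.ea_cl (by norm_num) (fun a ha => by rw [pow_two, tt_sq hD (c.1 a ha)]) c.comm).1
theorem ea_comm {p : Nat} {A : Subgroup G} (h : IsElementaryAbelian p A) {a b : G} (ha : a ∈ A) (hb : b ∈ A) : Commute a b :=
  congrArg Subtype.val (h.1.1.1 ⟨a, ha⟩ ⟨b, hb⟩)
theorem ea_of {p : Nat} {A : Subgroup G} (c : ∀ a ∈ A, ∀ b ∈ A, Commute a b) (h : ∀ a ∈ A, a ^ p = 1) : IsElementaryAbelian p A :=
  ⟨⟨⟨fun a b => Subtype.ext (c a a.2 b b.2)⟩⟩, h⟩
theorem ea_map {p : Nat} {A : Subgroup G} (h : IsElementaryAbelian p A) (φ : G →* M) : IsElementaryAbelian p (A.map φ) :=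
  ea_of (by rintro _ ⟨a, ha, rfl⟩ _ ⟨b, hb, rfl⟩; exact (ea_comm h ha hb).map φ)
    (by rintro _ ⟨a, ha, rfl⟩; rw [← map_pow, h.2 a ha, map_one])
theorem ea_comap {p : Nat} {A : Subgroup M} (h : IsElementaryAbelian p A) {φ : G →* M} (i : Function.Injective φ) :
    IsElementaryAbelian p (A.comap φ) :=
  ea_of (fun _ ha _ hb => (ea_comm h ha hb).of_map i) fun a ha => i (by rw [map_pow, h.2 _ ha, map_one])
theorem ea_pgroup {p : Nat} {A : Subgroup G} (h : IsElementaryAbelian p A) : IsPGroup p A :=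
  fun a => ⟨1, Subtype.ext (by simpa using h.2 a a.2)⟩

theorem JL.thompson [Finite G] {l : List G} {k : Nat} {K : Type*} [Group K] [Finite K] {φ : K →* G} (i : Function.Injective φ)
    (h : JL l k φ.range) (e : IsElementaryAbelian 2 (cl l)) : (thompsonSubgroup 2 K).map φ = cl l := by
  have c : Nat.card ((cl l).comap φ) = 2 ^ k := by
    rw [← Subgroup.card_map_of_injective i, Subgroup.map_comap_eq_self h.2.1, h.1]
  have u : ∀ A : Subgroup K, IsElementaryAbelian 2 A → 2 ^ k ≤ Nat.card A → A ≤ (cl l).comap φ := fun A a b =>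
    Subgroup.map_le_iff_le_comap.1 (h.2.2 _ (Subgroup.map_le_range _ _) (ea_map a φ) (by rwa [Subgroup.card_map_of_injective i]))
  rw [← Subgroup.map_comap_eq_self h.2.1]
  congr 1
  refine le_antisymm (sSup_le fun A hA => u A hA.1 (c ▸ hA.2 _ (ea_comap e i))) (le_sSup ⟨ea_comap e i, fun B hB => ?_⟩)
  by_contra! q
  exact absurd (Subgroup.card_le_of_le (u B hB (c ▸ q.le))) (not_le.2 q)
theorem JL.mono {l : List G} {k : Nat} {S T : Subgroup G} (h : JL l k T) (a : cl l ≤ S) (b : S ≤ T) : JL l k S :=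
  ⟨h.1, a, fun A hA => h.2.2 A (hA.trans b)⟩
theorem JL.conj {l : List G} {k : Nat} {T : Subgroup G} (h : JL l k T) (e : G ≃* G) : JL (l.map e) k (T.map e.toMonoidHom) := by
  have c := cl_map e.toMonoidHom l
  refine ⟨?_, ?_, fun A hA a b => ?_⟩
  · exact (congrArg (fun X : Subgroup G => Nat.card X) c).trans ((Subgroup.card_map_of_injective e.injective).trans h.1)
  · exact c.le.trans (Subgroup.map_mono h.2.1)
  · refine fun x hx => c.ge ⟨e.symm x, h.2.2 (A.map e.symm.toMonoidHom) ?_ (ea_map a _) ?_ ⟨x, hx, rfl⟩, by simp⟩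
    · rintro _ ⟨y, hy, rfl⟩
      obtain ⟨z, hz, rfl⟩ := hA hy
      simpa using hz
    · rwa [Subgroup.card_map_of_injective e.symm.injective]
theorem js_of [Finite G] (hc : ∀ g : G, ∀ d ∈ D, g * d * g⁻¹ ∈ D) {l : List G} (c : Clq D l) {k : Nat} (S : Sylow 2 G)
    (h : JL l k S) : JS D l.length k := fun T => by
  obtain ⟨g, rfl⟩ := MulAction.exists_smul_eq G S T
  exact ⟨_, (fiso_conj hc g).clq c, by simp, h.conj (MulAut.conj g)⟩
theorem Wd.mem {l : List G} (w : Wd D l.length) (c : Clq D l) {x : G} (hx : x ∈ D) (h : ∀ y ∈ l, Commute x y) : x ∈ l := by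
  by_contra n
  have := w (x :: l) (clq_iff.2 ⟨List.nodup_cons.2 ⟨n, c.nodup⟩, List.forall_mem_cons.2 ⟨hx, c.1⟩, List.forall_mem_cons.2
    ⟨List.forall_mem_cons.2 ⟨Commute.refl x, h⟩, fun a ha => List.forall_mem_cons.2 ⟨(h a ha).symm, c.comm a ha⟩⟩⟩)
  simp at this
theorem JL.mem (hD : IsThreeTranspositionSet D) {l : List G} {k : Nat} {T : Subgroup G} (h : JL l k T) (hT : IsPGroup 2 T)
    (w : Wd D l.length) (c : Clq D l) {x : G} (hx : x ∈ D) (m : x ∈ T) : x ∈ l :=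
  w.mem c hx fun y hy => tt_commute_of_mem_two_group hD hT hx (c.1 y hy) (T.mul_mem m (h.2.1 (mem_cl hy)))

theorem JS.syl [Finite G] {n k : Nat} (h : JS D n k) (hD : IsThreeTranspositionSet D) (w : Wd D n) (T : Sylow 2 G) :
    Subgroup.closure {x : G | x ∈ D ∧ x ∈ (T : Subgroup G)} = thompsonSubgroupOf 2 (T : Subgroup G) := by
  obtain ⟨l, c, rfl, j⟩ := h T
  rw [thompsonSubgroupOf, JL.thompson (Subgroup.subtype_injective _) (by rwa [Subgroup.range_subtype]) (c.ea hD)]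
  exact congrArg _ (Set.ext fun x => ⟨fun a => j.mem hD T.2 w c a.1 a.2, fun a => ⟨c.1 x a, j.2.1 (mem_cl a)⟩⟩)

theorem JS.cent [Finite G] {n k : Nat} (h : JS D n k) {E : Set M} (v : Lv D E) (w : Wd D n) {d : G} (hd : d ∈ D)
    (S : Sylow 2 (Subgroup.centralizer {d})) {A : Subgroup G}
    (hA : A = (thompsonSubgroupOf 2 (S : Subgroup (Subgroup.centralizer {d}))).map (Subgroup.centralizer {d}).subtype) :
    IsElementaryAbelian 2 A ∧ Nat.card A = 2 ^ k ∧ Set.ncard {x : G | x ∈ A ∧ x ∈ D} = n ∧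
      ∀ x ∈ A, ∀ y ∈ A, x ∈ D → y ∈ D → ∃ g ∈ Subgroup.normalizer (A : Set G), g * x * g⁻¹ = y := by
  classical
  have hD := v.tg.1
  obtain ⟨T, hT⟩ := (S.2.map (Subgroup.centralizer {d}).subtype).exists_le_sylow
  obtain ⟨l, c, rfl, j⟩ := h T
  have e := c.ea hD
  have s : (T : Subgroup G).subgroupOf (Subgroup.centralizer {d}) = S :=
    S.3 (T.2.comap_subtype) (Subgroup.map_le_iff_le_comap.1 hT)
  have dS : d ∈ (T : Subgroup G) := hT ⟨⟨d, mem_cent1.2 (Commute.refl d)⟩, by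
    have : (Subgroup.zpowers (⟨d, mem_cent1.2 (Commute.refl d)⟩ : Subgroup.centralizer {d})).Normal :=
      ⟨fun x hx g => by
        rwa [(Subgroup.mem_center_iff.1 (Subgroup.zpowers_le.2 (Subgroup.mem_center_iff.2 fun x =>
          Subtype.ext (mem_cent1.1 x.2).symm.eq) hx) g), mul_inv_cancel_right]⟩
    exact (IsPGroup.le_sylow_of_normal (IsPGroup.of_card (n := 1) (by
      rw [Nat.card_zpowers, ← Subgroup.orderOf_coe, hD.1 d hd]; rfl)) S) (Subgroup.mem_zpowers _), rfl⟩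
  have dl := j.mem hD T.2 w c hd dS
  obtain rfl : A = cl l := by
    rw [hA, thompsonSubgroupOf, Subgroup.map_map]
    refine JL.thompson ((Subgroup.subtype_injective _).comp (Subgroup.subtype_injective _)) (j.mono (fun x hx => ?_) ?_) e
    · exact ⟨⟨⟨x, mem_cent1.2 (ea_comm e (mem_cl dl) hx)⟩, s.le (j.2.1 hx)⟩, rfl⟩
    · rintro _ ⟨x, rfl⟩
      exact hT ⟨x.1, x.2, rfl⟩
  have m : ∀ x ∈ cl l, x ∈ D → x ∈ l := fun x hx h => j.mem hD T.2 w c h (j.2.1 hx)
  refine ⟨e, j.1, ?_, fun x hx y hy a b => ?_⟩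
  · rw [show {x | x ∈ cl l ∧ x ∈ D} = (l.toFinset : Set G) from Set.ext fun x => by
      simpa using ⟨fun a => m x a.1 a.2, fun a => ⟨mem_cl a, c.1 x a⟩⟩, Set.ncard_coe_finset, List.toFinset_card_of_nodup c.nodup]
  obtain ⟨g, rfl⟩ := v.cls x a y b
  have e' := ea_map e (MulAut.conj g).toMonoidHom
  obtain ⟨P, hP⟩ := ((ea_pgroup e).comap_subtype (K := Subgroup.centralizer {g * x * g⁻¹})).exists_le_sylow
  obtain ⟨Q, hQ⟩ := ((ea_pgroup e').comap_subtype (K := Subgroup.centralizer {g * x * g⁻¹})).exists_le_sylow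
  obtain ⟨u, rfl⟩ := MulAction.exists_smul_eq (Subgroup.centralizer {g * x * g⁻¹}) Q P
  obtain ⟨R, hR⟩ := ((u • Q).2.map (Subgroup.centralizer {g * x * g⁻¹}).subtype).exists_le_sylow
  obtain ⟨l', -, -, j'⟩ := h R
  have q : ∀ B ≤ (R : Subgroup G), IsElementaryAbelian 2 B → Nat.card B = 2 ^ k → B = cl l' := fun B a b c =>
    Subgroup.eq_of_le_of_card_ge (j'.2.2 B a b c.ge) (by rw [j'.1, c])
  have q1 := q (cl l) (fun z hz => hR ⟨⟨z, mem_cent1.2 (ea_comm e hy hz)⟩, hP hz, rfl⟩) e j.1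
  have q2 := q ((cl l).map (MulAut.conj (u.1 * g)).toMonoidHom) (by
      rintro _ ⟨z, hz, rfl⟩
      have hz' : g * z * g⁻¹ ∈ Subgroup.centralizer {g * x * g⁻¹} := mem_cent1.2 (ea_comm e' ⟨x, hx, rfl⟩ ⟨z, hz, rfl⟩)
      exact hR ⟨u * ⟨_, hz'⟩ * u⁻¹, Subgroup.smul_mem_pointwise_smul _ (MulAut.conj u) _ (hQ ⟨z, hz, rfl⟩), by simp [mul_assoc]⟩)
    (ea_map e _) (by rw [Subgroup.card_map_of_injective (MulEquiv.injective _), j.1])
  refine ⟨u.1 * g, Subgroup.mem_normalizer_iff_map_conj_eq.2 (q2.trans q1.symm), ?_⟩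
  exact Eq.trans (by group) (conj_eq_iff_commute.2 (mem_cent1.1 u.2).symm)

theorem Lv.js [Finite G] [Finite M] {E : Set M} (v : Lv D E) (o : Odd D.ncard) {n k : Nat} (h : JS E n k) :
    JS D (n + 1) (k + 1) := fun T => by
  obtain ⟨m, hm⟩ := IsPGroup.iff_card.1 T.2
  obtain ⟨d, hd, hT⟩ := H9.exists_fix v.tg.2.1 Nat.prime_two (by rw [Nat.two_dvd_ne_zero]; exact Nat.odd_iff.1 o) hm
  have hT : (T : Subgroup G) ≤ Subgroup.centralizer {d} := fun x hx => mem_cent1.2 (hT x hx).symm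
  obtain ⟨π, r⟩ := v.res d hd
  let φ := r.hom (Subgroup.centralizer {d}) fun x => mem_cent1.1
  have hs : Function.Surjective φ := fun y => let ⟨x, a, b⟩ := r.sur y; ⟨⟨x, mem_cent1.2 a⟩, b⟩
  have hk : Nat.card φ.ker = 2 := (Nat.card_eq_two_iff' 1).2 ⟨⟨⟨d, mem_cent1.2 (Commute.refl d)⟩, r.self⟩,
    fun e => tt_ne_one v.tg.1 hd (congrArg (fun x => x.1.1) e), fun y hy => Subtype.ext (Subtype.ext
      (((r.ker _ (mem_cent1.1 y.1.2)).1 y.2).resolve_left fun e => hy (Subtype.ext (Subtype.ext e))))⟩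
  obtain ⟨R, hR⟩ := ((T.2.comap_subtype (K := Subgroup.centralizer {d})).map φ).exists_le_sylow
  obtain ⟨l, c, rfl, j⟩ := h R
  obtain ⟨l, c', rfl⟩ := r.fi.clq_lift c
  have e := T.3 ((R.2.comap_of_ker_isPGroup φ (IsPGroup.of_card (n := 1) hk)).map (Subgroup.centralizer {d}).subtype)
    fun x hx => ⟨⟨x, hT hx⟩, hR ⟨_, hx, rfl⟩, rfl⟩
  have cd : ∀ x ∈ l, Commute d x := fun x hx => (mem_nb1.1 (c'.1 x hx)).2.2
  have w : cl (d :: l) = ((cl (l.map π)).comap φ).map (Subgroup.centralizer {d}).subtype := by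
    refine le_antisymm (cl_le (List.forall_mem_cons.2 ⟨⟨⟨d, mem_cent1.2 (Commute.refl d)⟩, ?_, rfl⟩, fun x hx =>
      ⟨⟨x, mem_cent1.2 (cd x hx)⟩, mem_cl (List.mem_map_of_mem hx), rfl⟩⟩)) ?_
    · exact (congrArg (· ∈ cl (l.map π)) r.self).mpr (one_mem _)
    rintro _ ⟨x, hx, rfl⟩
    obtain ⟨y, hy, q⟩ := (cl_le (H := ((cl (d :: l)).subgroupOf _).map φ) (List.forall_mem_map.2 fun x hx =>
      ⟨⟨x, mem_cent1.2 (cd x hx)⟩, mem_cl (List.mem_cons_of_mem _ hx), rfl⟩)) hx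
    rcases r.eq (mem_cent1.1 y.2) (mem_cent1.1 x.2) q with q | q
    · exact (congrArg (· ∈ cl (d :: l)) q).mpr hy
    · exact (congrArg (· ∈ cl (d :: l)) q).mpr (mul_mem (mem_cl List.mem_cons_self) hy)
  refine ⟨d :: l, clq_cons.2 ⟨hd, c'⟩, by simp, ?_, ?_, fun A hA a b => ?_⟩
  · rw [w, Subgroup.card_map_of_injective (Subgroup.subtype_injective _), H9.card_comap_res hs hk, j.1, pow_succ']
  · rw [w, ← e]; exact Subgroup.map_mono (Subgroup.comap_mono j.2.1)
  · have := j.2.2 ((A.subgroupOf _).map φ) ((Subgroup.map_mono (Subgroup.comap_mono hA)).trans hR)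
      (ea_map (ea_comap a (Subgroup.subtype_injective _)) φ) (by
        have := Subgroup.card_le_of_le (Subgroup.le_comap_map φ (A.subgroupOf _))
        rw [H9.card_comap_res hs hk, H9.card_sgo (hA.trans hT)] at this
        omega)
    rw [w]
    exact fun x hx => ⟨⟨x, hT (hA hx)⟩, this ⟨_, hx, rfl⟩, rfl⟩
end
end H28
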