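import Cfsg.Agent.H28.T22
import Cfsg.Agent.H28.FiQ
/-! Traces of points in the residue of a transposition of Fi22. -/
set_option maxRecDepth 100000
set_option Elab.async false
namespace H28
open H27
noncomputable section
universe u
def s22X : List (Set Cfsg.Spor.Fi22) := [mset t22.n e22 (t22.clo [(3, []), (4, []), (5, []), (6, []), (7, []), (8, []), (0, [5, 4, 3, 7, 2, 3, 4, 1, 2, 3, 7, 5, 4, 3, 2, 1])] 3), mset t22.n e22 (t22.clo [(0, [8, 7, 3, 4, 2, 3, 7, 8, 3, 4, 5, 2, 3, 4, 1, 2, 3, 7, 6, 5, 4, 3, 2, 1]), (7, []), (8, []), (0, [5, 4, 3, 7, 2, 3, 4, 1, 2, 3, 7, 5, 4, 3, 2, 1]), (5, []), (6, []), (3, [])] 3), mset t22.n e22 (t22.clo [(0, [8, 7, 3, 4, 2, 3, 7, 8, 4, 5, 3, 4, 1, 2, 3, 7, 6, 5, 4, 3, 2, 1]), (0, [8, 7, 1, 2, 3, 4, 0, 1, 2, 3, 7, 8, 3,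 4, 5, 2, 3, 4, 1, 2, 3, 7, 6, 5, 4, 3, 2, 1]), (8, []), (0, [5, 4, 3, 7, 2, 3, 4, 1, 2, 3, 7, 5, 4, 3, 2, 1]), (5, []), (6, []), (3, [])] 3)]
theorem s22_c1 : Claim U22 1 s22X (List.map (pv fi22X) [(2, []), (3, []), (4, []), (5, []), (6, []), (7, []), (8, []), (0, [5, 4, 3, 7, 2, 3, 4, 1, 2, 3, 7, 5, 4, 3, 2, 1])]) := t22M.bad u22R 0 [(2, [])] (4, []) (6, []) (by decide +kernel)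
theorem s22_c2 : Claim U22 1 s22X (List.map (pv fi22X) [(3, []), (4, []), (5, []), (6, []), (7, []), (8, []), (0, [5, 4, 3, 7, 2, 3, 4, 1, 2, 3, 7, 5, 4, 3, 2, 1])]) := t22M.fin u22R u22C 3 [(2, [])] 5 (by decide +kernel) (by rw [s22X]; exact List.mem_cons_self) (List.forall_mem_cons.2 ⟨s22_c1, (fun _ h => by cases h)⟩)
theorem s22_c3 : Claim U22 1 s22X (List.map (pv fi22X) [(4, []), (7, []), (8, []), (0, [5, 4, 3, 7, 2, 3, 4, 1, 2, 3, 7, 5, 4, 3, 2, 1]), (5, []), (6, []), (3, [])]) := t22M.sym u22R u22C 0 [] (by decide +kernel) s22_c2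
theorem s22_c4 : Claim U22 1 s22X (List.map (pv fi22X) [(2, [5, 4, 3, 7, 6, 5, 4, 3]), (7, []), (8, []), (0, [5, 4, 3, 7, 2, 3, 4, 1, 2, 3, 7, 5, 4, 3, 2, 1]), (5, []), (6, []), (3, [])]) := t22M.bad u22R 0 [(6, [])] (2, [5, 4, 3, 7, 6, 5, 4, 3]) (0, [5, 4, 3, 7, 2, 3, 4, 1, 2, 3, 7, 5, 4, 3, 2, 1]) (by decide +kernel)
theorem s22_c5 : Claim U22 1 s22X (List.map (pv fi22X) [(4, []), (0, [8, 7, 3, 4, 2, 3, 7, 8, 3, 4, 5, 2, 3, 4, 1, 2, 3, 7, 6, 5, 4, 3, 2, 1]), (7, []), (8, []), (0, [5, 4, 3, 7, 2, 3, 4, 1, 2, 3, 7, 5, 4, 3, 2, 1]), (5, []), (6, []), (3, [])]) := t22M.bad u22R 0 [(4, [])] (7, []) (0, [8, 7, 3, 4, 2, 3, 7, 8, 3, 4, 5, 2, 3, 4, 1, 2, 3, 7, 6, 5, 4, 3, 2, 1]) (by decide +kernel)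
theorem s22_c6 : Claim U22 1 s22X (List.map (pv fi22X) [(0, [8, 7, 3, 4, 2, 3, 7, 8, 3, 4, 5, 2, 3, 4, 1, 2, 3, 7, 6, 5, 4, 3, 2, 1]), (7, []), (8, []), (0, [5, 4, 3, 7, 2, 3, 4, 1, 2, 3, 7, 5, 4, 3, 2, 1]), (5, []), (6, []), (3, [])]) := t22M.fin u22R u22C 3 [(4, [])] 5 (by decide +kernel) (by rw [s22X]; exact List.mem_cons_of_mem _ (List.mem_cons_self)) (List.forall_mem_cons.2 ⟨s22_c5, (fun _ h => by cases h)⟩)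
theorem s22_c7 : Claim U22 1 s22X (List.map (pv fi22X) [(0, [8, 7, 3, 4, 2, 3, 7, 8, 3, 7, 4, 5, 3, 4, 1, 2, 3, 7, 6, 5, 4, 3, 2, 1]), (7, []), (8, []), (0, [5, 4, 3, 7, 2, 3, 4, 1, 2, 3, 7, 5, 4, 3, 2, 1]), (5, []), (6, []), (3, [])]) := t22M.bad u22R 2 [(3, [])] (0, [4, 3, 7, 8, 3, 4, 1, 2, 3, 7, 6, 5, 4, 3, 2, 1]) (0, [4, 3, 7, 8, 2, 3, 4, 1, 2, 3, 7, 5, 4, 3, 2, 1]) (by decide +kernel)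
theorem s22_c8 : Claim U22 1 s22X (List.map (pv fi22X) [(7, []), (8, []), (0, [5, 4, 3, 7, 2, 3, 4, 1, 2, 3, 7, 5, 4, 3, 2, 1]), (5, []), (6, []), (3, [])]) := t22M.br u22R u22C 0 [(7, [])] (4, []) [(2, []), (3, [8, 7, 5, 4]), (4, [])] [] [(4, []), (2, [5, 4, 3, 7, 6, 5, 4, 3]), (0, [8, 7, 3, 4, 2, 3, 7, 8, 3, 4, 5, 2, 3, 4, 1, 2, 3, 7, 6, 5, 4, 3, 2, 1]), (0, [8, 7, 3, 4, 2, 3, 7, 8, 3, 7, 4, 5, 3, 4, 1, 2, 3, 7, 6, 5, 4, 3, 2, 1])] 0 (by decide +kernel) (List.forall_mem_cons.2 ⟨s22_c3, (List.forall_mem_cons.2 ⟨s22_c4, (List.forall_mem_cons.2 ⟨s22_c6, (List.forall_mem_cons.2 ⟨s22_c7, (fun _ h => by cases h)⟩)⟩)⟩)⟩)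
theorem s22_c9 : Claim U22 1 s22X (List.map (pv fi22X) [(2, [3, 7, 4, 3]), (8, []), (0, [5, 4, 3, 7, 2, 3, 4, 1, 2, 3, 7, 5, 4, 3, 2, 1]), (5, []), (6, []), (3, [])]) := t22M.bad u22R 3 [(3, [])] (0, [2, 3, 7, 8, 5, 4, 1, 2, 3, 7, 6, 5, 4, 3, 2, 1]) (0, [4, 3, 7, 8, 3, 7, 4, 5, 3, 4, 1, 2, 3, 7, 6, 5, 4, 3, 2, 1]) (by decide +kernel)
theorem s22_c10 : Claim U22 1 s22X (List.map (pv fi22X) [(3, [7, 4]), (0, [8, 7, 1, 2, 3, 4, 0, 1, 2, 3, 7, 8, 3, 4, 5, 2, 3, 4, 1, 2, 3, 7, 6, 5, 4, 3, 2, 1]), (8, []), (0, [5, 4, 3, 7, 2, 3, 4, 1, 2, 3, 7, 5, 4, 3, 2, 1]), (5, []), (6, []), (3, [])]) := t22M.bad u22R 1 [(5, [])] (0, [7, 8, 2, 3, 7, 4, 5, 3, 4, 2, 3, 7, 8, 3, 4, 5, 2, 3, 4, 1, 2, 3, 7, 6, 5, 4, 3, 2, 1]) (0, [7, 8, 2, 3, 7, 4, 5, 3, 4, 2, 3, 7, 8, 3, 7,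 4, 5, 3, 4, 1, 2, 3, 7, 6, 5, 4, 3, 2, 1]) (by decide +kernel)
theorem s22_c11 : Claim U22 1 s22X (List.map (pv fi22X) [(2, [5, 4, 3, 7, 6, 5, 4, 3]), (0, [8, 7, 1, 2, 3, 4, 0, 1, 2, 3, 7, 8, 3, 4, 5, 2, 3, 4, 1, 2, 3, 7, 6, 5, 4, 3, 2, 1]), (8, []), (0, [5, 4, 3, 7, 2, 3, 4, 1, 2, 3, 7, 5, 4, 3, 2, 1]), (5, []), (6, []), (3, [])]) := t22M.bad u22R 0 [(6, [])] (2, [5, 4, 3, 7, 6, 5, 4, 3]) (0, [5, 4, 3, 7, 2, 3, 4, 1, 2, 3, 7, 5, 4, 3, 2, 1]) (by decide +kernel)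
theorem s22_c12 : Claim U22 1 s22X (List.map (pv fi22X) [(4, []), (0, [8, 7, 3, 4, 2, 3, 7, 8, 4, 5, 3, 4, 1, 2, 3, 7, 6, 5, 4, 3, 2, 1]), (0, [8, 7, 1, 2, 3, 4, 0, 1, 2, 3, 7, 8, 3, 4, 5, 2, 3, 4, 1, 2, 3, 7, 6, 5, 4, 3, 2, 1]), (8, []), (0, [5, 4, 3, 7, 2, 3, 4, 1, 2, 3, 7, 5, 4, 3, 2, 1]), (5, []), (6, []), (3, [])]) := t22M.bad u22R 1 [(3, [])] (0, [7, 3, 4, 1, 2, 3, 7, 6, 5, 4, 3, 2, 1]) (0, [4, 3, 7, 2, 3, 4, 1, 2, 3, 7, 5, 4, 3, 2, 1]) (by decide +kernel)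
theorem s22_c13 : Claim U22 1 s22X (List.map (pv fi22X) [(0, [8, 7, 3, 4, 2, 3, 7, 8, 4, 5, 3, 4, 1, 2, 3, 7, 6, 5, 4, 3, 2, 1]), (0, [8, 7, 1, 2, 3, 4, 0, 1, 2, 3, 7, 8, 3, 4, 5, 2, 3, 4, 1, 2, 3, 7, 6, 5, 4, 3, 2, 1]), (8, []), (0, [5, 4, 3, 7, 2, 3, 4, 1, 2, 3, 7, 5, 4, 3, 2, 1]), (5, []), (6, []), (3, [])]) := t22M.fin u22R u22C 3 [(4, [])] 4 (by decide +kernel) (by rw [s22X]; exact List.mem_cons_of_mem _ (List.mem_cons_of_mem _ (List.mem_cons_self))) (List.forall_mem_cons.2 ⟨s22_c12, (fun _ h => by cases h)⟩)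
theorem s22_c14 : Claim U22 1 s22X (List.map (pv fi22X) [(0, [8, 7, 3, 4, 2, 3, 7, 8, 7, 4, 5, 2, 3, 4, 1, 2, 3, 7, 6, 5, 4, 3, 2, 1]), (0, [8, 7, 1, 2, 3, 4, 0, 1, 2, 3, 7, 8, 3, 4, 5, 2, 3, 4, 1, 2, 3, 7, 6, 5, 4, 3, 2, 1]), (8, []), (0, [5, 4, 3, 7, 2, 3, 4, 1, 2, 3, 7, 5, 4, 3, 2, 1]), (5, []), (6, []), (3, [])]) := t22M.bad u22R 1 [(8, [])] (0, [4, 5, 3, 4, 2, 3, 7, 8, 4, 1, 2, 3, 7, 6, 5, 4, 3, 2, 1]) (0, [7, 8, 2, 3, 7, 4, 5, 3, 4, 2, 3, 7, 8, 3, 4, 5, 2, 3, 4, 1, 2, 3, 7, 6, 5, 4, 3, 2, 1]) (by decide +kernel)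
theorem s22_c15 : Claim U22 1 s22X (List.map (pv fi22X) [(0, [8, 7, 1, 2, 3, 4, 0, 1, 2, 3, 7, 8, 3, 4, 5, 2, 3, 4, 1, 2, 3, 7, 6, 5, 4, 3, 2, 1]), (8, []), (0, [5, 4, 3, 7, 2, 3, 4, 1, 2, 3, 7, 5, 4, 3, 2, 1]), (5, []), (6, []), (3, [])]) := t22M.br u22R u22C 0 [(3, [])] (3, [7, 4]) [(6, []), (3, [8, 7, 5, 4]), (2, [7, 3])] [] [(3, [7, 4]), (2, [5, 4, 3, 7, 6, 5, 4, 3]), (0, [8, 7, 3, 4, 2, 3, 7, 8, 4, 5, 3, 4, 1, 2, 3, 7, 6, 5, 4, 3, 2, 1]), (0, [8, 7, 3, 4, 2, 3, 7, 8, 7, 4, 5, 2, 3, 4, 1, 2, 3, 7, 6, 5, 4, 3, 2, 1])] 0 (by decide +kernel) (List.forall_mem_cons.2 ⟨s22_c10, (List.forall_mem_cons.2 ⟨s22_c11, (List.forall_mem_cons.2 ⟨s22_c13, (List.forall_mem_cons.2 ⟨s22_c14, (fun _ h => by cases h)⟩)⟩)⟩)⟩)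
theorem s22_c16 : Claim U22 1 s22X (List.map (pv fi22X) [(0, [8, 7, 1, 2, 3, 4, 0, 1, 2, 3, 7, 8, 3, 7, 5, 2, 3, 4, 1, 2, 3, 7, 6, 5, 4, 3, 2, 1]), (8, []), (0, [5, 4, 3, 7, 2, 3, 4, 1, 2, 3, 7, 5, 4, 3, 2, 1]), (5, []), (6, []), (3, [])]) := t22M.bad u22R 2 [(0, [4, 3, 7, 8, 1, 2, 3, 7, 5, 4, 3, 2, 1])] (0, [4, 3, 7, 8, 7, 2, 3, 4, 1, 2, 3, 7, 6, 5, 4, 3, 2, 1]) (0, [5, 4, 2, 3, 7, 8, 3, 4, 1, 2, 3, 7, 6, 5, 4, 3, 2, 1]) (by decide +kernel)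
theorem s22_c17 : Claim U22 1 s22X (List.map (pv fi22X) [(8, []), (0, [5, 4, 3, 7, 2, 3, 4, 1, 2, 3, 7, 5, 4, 3, 2, 1]), (5, []), (6, []), (3, [])]) := t22M.br u22R u22C 0 [(6, [])] (7, []) [(2, []), (3, [8, 7]), (7, [])] [] [(7, []), (2, [3, 7, 4, 3]), (0, [8, 7, 1, 2, 3, 4, 0, 1, 2, 3, 7, 8, 3, 4, 5, 2, 3, 4, 1, 2, 3, 7, 6, 5, 4, 3, 2, 1]), (0, [8, 7, 1, 2, 3, 4, 0, 1, 2, 3, 7, 8, 3, 7, 5, 2, 3, 4, 1, 2, 3, 7, 6, 5, 4, 3, 2, 1])] 0 (by decide +kernel) (List.forall_mem_cons.2 ⟨s22_c8, (List.forall_mem_cons.2 ⟨s22_c9, (List.forall_mem_cons.2 ⟨s22_c15, (List.forall_mem_cons.2 ⟨s22_c16, (fun _ h => by cases h)⟩)⟩)⟩)⟩)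
theorem s22_c18 : Claim U22 1 s22X (List.map (pv fi22X) [(0, [5, 4, 3, 7, 2, 3, 4, 1, 2, 3, 7, 5, 4, 3, 2, 1]), (5, []), (6, []), (3, [])]) := t22M.br u22R u22C 0 [(3, [])] (8, []) [(5, []), (6, []), (8, [])] [[7, 3, 2, 3, 7], [4, 5, 3, 4, 1, 2, 3, 7, 6, 5, 4, 3, 2, 1, 0, 1, 2, 3, 4, 5, 6, 7, 3, 2, 1, 4, 3, 5, 4], [7, 4, 5, 2, 3, 4, 1, 2, 3, 7, 6, 5, 4, 3, 2, 1, 0, 1, 2, 3, 4, 5, 6, 7, 3, 2, 1, 4, 3, 2, 5, 4, 7]] [(8, [])] 1 (by decide +kernel) (List.forall_mem_cons.2 ⟨s22_c17, (fun _ h => by cases h)⟩)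
theorem s22_c19 : Claim U22 1 s22X (List.map (pv fi22X) [(5, []), (6, []), (3, [])]) := t22M.br u22R u22C 0 [(3, [])] (0, [7, 5, 3, 4, 1, 2, 3, 7, 6, 5, 4, 3, 2, 1]) [(6, []), (0, [8, 7, 3, 4, 1, 2, 3, 7, 5, 4, 3, 2, 1]), (2, [7, 3])] [[8], [4, 3, 7, 8, 5, 4, 3, 7, 6, 5, 4, 3, 2, 3, 4, 5, 6, 7, 3, 4, 5, 8, 7, 3, 4], [2, 3, 7, 8, 3, 4, 5, 2, 3, 4, 1, 2, 3, 7, 6, 5, 4, 3, 2, 1, 0, 1, 2, 3, 4, 5, 6, 7, 3, 2, 1, 4, 3, 2, 5, 4, 3, 8, 7, 3, 2]] [(0, [5, 4, 3, 7, 2, 3, 4, 1, 2, 3, 7, 5, 4, 3, 2, 1])] 1 (by decide +kernel) (List.forall_mem_cons.2 ⟨s22_c18, (fun _ h => by cases h)⟩)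
theorem s22_c20 : Claim U22 1 s22X (List.map (pv fi22X) [(6, []), (3, [])]) := t22M.br u22R u22C 0 [(3, [])] (5, []) [(5, []), (8, []), (2, [7, 3])] [[6], [4, 3, 2, 3, 4], [7, 8, 3, 7, 1, 2, 3, 4, 0, 1, 2, 3, 7, 8, 3, 4, 5, 2, 3, 4, 1, 2, 3, 7, 6, 5, 4, 3, 2, 1, 0, 1, 2, 3, 4, 5, 6, 7, 3, 2, 1, 4, 3, 2, 5, 4, 3, 8, 7, 3, 2, 1, 0, 4, 3, 2, 1, 7, 3, 8, 7]] [(5, [])] 1 (by decide +kernel) (List.forall_mem_cons.2 ⟨s22_c19, (fun _ h => by cases h)⟩)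
theorem s22_c21 : Claim U22 1 s22X (List.map (pv fi22X) [(3, [])]) := t22M.br u22R u22C 0 [(3, [])] (6, []) [(8, []), (2, [7, 3]), (6, [])] [[5], [6, 5, 4, 3, 2, 3, 4, 5, 6], [4, 3, 7, 8, 3, 4, 1, 2, 3, 7, 5, 4, 3, 2, 1, 0, 1, 2, 3, 4, 5, 7, 3, 2, 1, 4, 3, 8, 7, 3, 4]] [(6, [])] 2 (by decide +kernel) (List.forall_mem_cons.2 ⟨s22_c20, (fun _ h => by cases h)⟩)
theorem s22_top : Claim U22 1 s22X [ev fi22X [3]] := s22_c21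
def nc22 : List (Nat × Nat) := [(0, 1), (1, 2), (2, 3), (3, 4), (3, 7), (4, 5), (5, 6), (7, 8), (5, 9), (8, 9)]
def uq22 : List (List Nat × Nat) := [([2, 3, 4, 7], 6), ([2, 3, 4, 7], 9)]
def vw22 : List Nat := [9, 3, 4, 8, 7, 5, 9, 3, 4, 8, 7, 5, 9, 3, 4, 8, 7, 5, 9, 3, 4, 8, 7, 5]
theorem s22_f0 : t22.cfChk u22a (t22.clo [(3, []), (4, []), (5, []), (6, []), (7, []), (8, []), (0, [5, 4, 3, 7, 2, 3, 4, 1, 2, 3, 7, 5, 4, 3, 2, 1])] 3) [(2, []), (3, []), (4, []), (5, []), (6, []), (7, []), (8, []), (0, [5, 4, 3, 7, 2, 3, 4, 1, 2, 3, 7, 5, 4, 3, 2, 1])] lc_R [] [vw22] nc22 uq22 = true := by decide +kernel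
theorem s22_f1 : t22.cfChk u22a (t22.clo [(0, [8, 7, 3, 4, 2, 3, 7, 8, 3, 4, 5, 2, 3, 4, 1, 2, 3, 7, 6, 5, 4, 3, 2, 1]), (7, []), (8, []), (0, [5, 4, 3, 7, 2, 3, 4, 1, 2, 3, 7, 5, 4, 3, 2, 1]), (5, []), (6, []), (3, [])] 3) [(0, [8, 7, 6, 4, 5, 3, 4, 2, 3, 7, 8, 3, 7, 4, 5, 3, 4, 1, 2, 3, 7, 6, 5, 4, 3, 2, 1]), (3, []), (7, []), (0, [4, 3, 7, 8, 3, 4, 1, 2, 3, 7, 5, 4, 3, 2, 1]), (5, [6]), (3, [8, 7]), (0, [4, 3, 7, 2, 3, 4, 1, 2, 3, 7, 5, 4, 3, 2, 1]), (2, [2, 3, 7, 8, 4, 3, 7, 6, 5, 4, 3])] lc_R [] [vw22] nc22 uq22 = true := by decide +kernel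
theorem s22_f2 : t22.cfChk u22a (t22.clo [(0, [8, 7, 3, 4, 2, 3, 7, 8, 4, 5, 3, 4, 1, 2, 3, 7, 6, 5, 4, 3, 2, 1]), (0, [8, 7, 1, 2, 3, 4, 0, 1, 2, 3, 7, 8, 3, 4, 5, 2, 3, 4, 1, 2, 3, 7, 6, 5, 4, 3, 2, 1]), (8, []), (0, [5, 4, 3, 7, 2, 3, 4, 1, 2, 3, 7, 5, 4, 3, 2, 1]), (5, []), (6, []), (3, [])] 3) [(0, [7, 8, 4, 1, 2, 3, 7, 6, 5, 4, 3, 2, 1]), (3, []), (0, [7, 8, 3, 4, 1, 2, 3, 7, 5, 4, 3, 2, 1]), (8, []), (0, [6, 4, 5, 3, 4, 2, 3, 7, 8, 7, 4, 5, 3, 4, 1, 2, 3, 7, 6, 5, 4, 3, 2, 1]), (2, [3, 4, 2, 3, 7, 8, 5, 4, 3, 7, 6, 5, 4, 3]), (0, [4, 3, 7, 8, 1, 2, 3, 7, 4, 3, 2, 1]), (0, [6, 4, 5, 3, 4, 2, 3, 7, 8, 4, 5, 2, 3, 4, 1, 2, 3, 7, 6, 5, 4, 3, 2, 1])] lc_R [] [vw22] nc22 uq22 = true := by decide +kernel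
theorem s22_cf {G : Type*} [Group G] {D : Set G} (hD : Cfsg.IsThreeTranspositionSet D) {x c : G} (hx : x ∈ D) (hc : c ∈ D)
    (hxc : ¬ Commute x c) {τ : Cfsg.Spor.Fi22 → G} (t : FIso U22 (Nb D [x]) τ) {X : Set Cfsg.Spor.Fi22} (hX : X ∈ s22X)
    (h : ∀ p ∈ U22, Commute c (τ p) ↔ p ∈ X) : ∃ Z : List G, Cf D Z lc_R [] [vw22] nc22 uq22 ∧ Z.length = 10 ∧ Z.getD 0 1 = x := by
  simp only [s22X, List.mem_cons, List.not_mem_nil, or_false] at hX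
  rcases hX with rfl | rfl | rfl
  · exact ⟨_, t22M.cf u22R hD hx hc hxc t h s22_f0, rfl, rfl⟩
  · exact ⟨_, t22M.cf u22R hD hx hc hxc t h s22_f1, rfl, rfl⟩
  · exact ⟨_, t22M.cf u22R hD hx hc hxc t h s22_f2, rfl, rfl⟩
end
end H28
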