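import Cfsg.Agent.H28.Jt1
import Cfsg.Agent.H9.Fr22

/-! The Thompson subgroup of a Sylow 2-subgroup in the groups of type M(22) and M(23). -/
set_option maxRecDepth 100000
namespace H28
open Cfsg H27 H9
noncomputable section
variable {G : Type*} [Group G] {D : Set G}

/-- `g` acts on the points `b i` as `f` -/
def Ac (b : Nat → G) (g : G) (f : Nat → Nat) : Prop := ∀ i < 22, f i < 22 ∧ g * b i * g⁻¹ = b (f i)
theorem Ac.mul {b : Nat → G} {g h : G} {f k : Nat → Nat} (a : Ac b g f) (c : Ac b h k) : Ac b (g * h) fun i => f (k i) :=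
  fun i hi => ⟨(a _ (c i hi).1).1, by rw [← (a _ (c i hi).1).2, ← (c i hi).2]; group⟩
theorem Ac.congr {b : Nat → G} {g : G} {f k : Nat → Nat} (a : Ac b g f) (e : allN 22 (fun i => Nat.beq (k i) (f i)) = true) :
    Ac b g k := fun i hi => by rw [(beq_iff _ _).1 ((allN_iff _ _).1 e i hi)]; exact a i hi
theorem ac_cl [Finite G] {b : Nat → G} {S : List G} {Q P : List Nat} (h1 : ∀ s ∈ S, ∃ p ∈ Q, Ac b s (ent 5 p)) {o : Nat} (ho : o ∈ P)
    (h0 : allN 22 (fun i => Nat.beq (ent 5 o i) i) = true) (hc : allL Q (fun p => allL P fun q => not' (allL P fun r =>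
      not' (allN 22 fun i => Nat.beq (ent 5 r i) (ent 5 p (ent 5 q i))))) = true) {g : G} (hg : g ∈ cl S) :
    ∃ q ∈ P, Ac b g (ent 5 q) := by
  rw [cl, ← Subgroup.mem_toSubmonoid, Subgroup.closure_toSubmonoid_of_finite] at hg
  induction hg using Submonoid.closure_induction_left with
  | one => exact ⟨o, ho, Ac.congr (f := id) (fun i hi => ⟨hi, by simp⟩) h0⟩
  | mul_left x hx y _ ih =>
    obtain ⟨p, hp, a⟩ := h1 x hx
    obtain ⟨q, hq, c⟩ := ih
    have := (allL_iff _ _).1 ((allL_iff _ _).1 hc p hp) q hq
    rw [not'_eq, Bool.not_eq_true', ← Bool.not_eq_true, allL_iff] at this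
    push Not at this
    obtain ⟨r, hr, k⟩ := this
    exact ⟨r, hr, (a.mul c).congr (by simpa [not'_eq] using k)⟩

def jB : List Pt := h22 ++ l22 ++ y22 :: s22 ++ r22
def jI : List Nat := [154, 3399, 3400, 40, 6, 0, 43, 47, 59, 472, 155, 172, 424, 427, 434, 637, 1062, 1710, 1734, 1779, 2609, 2692]
def jW : List (List Nat) := [[8, 7, 8, 8, 3, 7, 4, 3, 2, 3, 4, 7, 3, 8], [3, 7, 4, 3, 4, 7], [5, 4, 3, 2, 1, 0, 1, 2, 3, 4, 5, 6, 5, 4, 3, 2, 1, 2, 3, 4, 5, 6]]
def jG : List Nat := [838449801416510708123539081365536, 43794124197451402960026264097440, 710621747384877022646981569381445]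
def jP : List Nat := [877989843404692497019985071278112, 838449801416510708123539081365536, 43794124197451402960026264097440, 710621747384877022646981569381445, 82886833042482906823679741743776, 671119722714772637897311555519557, 43551250818634355560566518699648, 83254663180250760038245279842853, 461996308265343095054197319631941, 794204187480575786420456735856261, 83052879187753074589642067793536, 43385404333796758211287962731045, 501497216190254892118734582940741, 754741214742348204857535394698885, 877785383642648889437274034537536, 82644159324096196055555162654213, 83216125006344918257919733576037, 837959776577667892209487382530661, 584837615781443637725160522602117, 252833799650626690811607881189408, 545578785840030780039091045257893, 755070464655972918646162795644416, 838654261178554315706250116072512, 43919155909803024882074316588549, 43347190378670034490002495811941, 877376825932287052293514976512613, 545783163470678965191160280340101, 292296690257461083729369168447520, 585041918458693240555636099633829, 793834123247810058850129116775936, 710455304938623422945906524293157,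 82682772602520819538597466615173, 838041318659549687086855427116613, 837997953209496219059993579206085, 43755548320170438518049614765248, 877256783150909076746063056550309, 670668433293635293346801437331008, 754945432492561511055980914528933, 584633318203131075612988160722432, 127216389830893917317235811242656, 501255138209045582790888527104037, 545374563215119034033860943168032, 585243660178857070047535754161536, 671362917441174534910290359879717, 43957295062642430521228526103941, 877295358803803839737740589977157, 877338649451574457253301529982405, 82848656337384110333167179308224, 838079894463560181888825710688677, 710046747228261599299752544390720, 794000044683761062543604870009509, 545946571323104735769160550041088, 166717619103388330209810387784352, 462161633966404107070139612137509, 585205326311116777348287765561888, 545336229649610204955198444055936, 43589826393683856381957719595232, 670711239957811630358232979393120, 670629498365396603912674524870080, 877951230048422611366656417501280, 709965080589245155175787745884576, 500803290150857190987812788843968,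 794405971928708050067473741267488, 754536874813854291241909363453312, 461549449368307925361562119261760, 127458864113086658580194582058624, 127012167205982184809610116186661, 292092629592041782283159104259136, 793795704755269382713460588556640, 500884956638757894303081686288992, 461467707927008639724699565799840, 585080214623058410593232985168101, 83091055590620407459569181792480, 709927263237335547298010899073632, 710008929574120527801390229697984, 838488414470549130156282252136544, 670750174583818856171774423972256, 461587267249122581486777138755008, 754498615975074927428818169119264, 794367712787697222633797079051648, 500764355449292086180538555518528, 166551972054742468580349032257152, 166881027409159048935735193616933, 253037860316045992257817943344192, 755108882846282131162245855981920, 461505525505591832229329095805536, 500846022239424253116392942451104, 545540489524549878191201450629349, 877747169458561171735409467657344, 710659527486758703293985513869413, 545908077952718888733800800989536, 291602405393779241824131148789189, 794038341225915549018347186854117,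 252386940751304138351437103450725, 127622272418859611091467991664133, 127050306434379443265324276298085, 754702758999779601490093981441221, 291722448024041503558096654880325, 252343575452366384138061673478565, 462200605917997139108186732661893, 838692475060410569787529199946880, 671158695044154986372504105324645, 584671811875748386268933399261536, 252425117458690318018503252751813, 754907136101522756391531367274725, 291640582252281153301490026629733, 166347674476429919965781077411333, 166919640309794355981632064237925, 794242643374260121598190918704325, 252305000026145205773236821216837, 291683872446704593382979074079141, 501292918386485116254452426247301, 710417450034454424216771307277445, 461957411116037381098281462992997, 545744707350321045386573435772101, 127584058085943570933037095464325, 127254566762666298434601093864640, 252999721160919203442110170729600, 671324020216310968137814552644741, 501459360908296576952453932585061, 584876071750685825719454658075845, 166309136378081931002015485799813, 166756194753995710024934373366976, 292130769049400034719452351237248,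 252795261776664903298141405614176, 127420687483545741083414808369376, 292335228433654334863421118386272, 166513396706366552385810555607264]
def jK : List (List (List Nat) × Nat × Nat) := [([[24]], 154, 1), ([[22], [24, 22, 24]], 59, 1), ([[23], [22, 23, 22], [24, 23, 24], [22, 24, 23, 24, 22]], 3399, 1), ([[0], [3], [4], [5], [6], [7], [8], [10], [11], [16]], 75, 1)]
def jV : List (List (List Nat) × Nat × Nat) := [([[0], [3], [4], [5], [6], [7], [8], [10], [11], [16]], 75, 1)]
def jA : List (List Nat) := [[1], [0], [2], [3], [4], [7], [5], [8], [6], [3], [4, 3, 2, 3, 4], [7, 3, 2, 3, 7], [8, 1, 2, 3, 7, 5, 4, 3, 2, 1, 0, 1, 2, 3, 4, 5, 7, 3, 2, 1, 8], [6, 5, 4, 5, 6], [2], [5], [6, 5, 4, 5, 6], [3, 7, 6, 5, 4, 3, 2, 3, 4, 5, 6, 7, 3], [8, 1, 2, 3, 7, 4, 3, 2, 1, 0, 1, 2, 3, 4, 7, 3, 2, 1, 8], [7], [4], [8], [7, 8, 3, 7, 4, 3, 2, 3, 4, 7, 3, 8, 7], [7, 8, 1, 2, 3, 7, 4, 3, 2, 1, 0, 1, 2, 3, 4, 7, 3, 2, 1, 8, 7], [7, 8, 5, 4, 3, 7, 6, 5, 4, 3, 2, 3, 4, 5, 6, 7, 3, 4, 5, 8, 7], [7, 8, 5, 4, 1, 2, 3, 7, 6, 5, 4, 3, 2, 1, 0, 1, 2, 3, 4, 5, 6, 7, 3, 2, 1, 4,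 5, 8, 7], [7], [1, 0, 1, 2, 1, 2, 3, 7, 8, 4, 3, 7, 5, 4, 3, 2, 1, 0, 1, 2, 3, 4, 5, 7, 3, 4, 8, 7, 3, 2, 3, 7, 8, 4, 3, 7, 5, 4, 3, 2, 1, 2, 3, 4, 5, 7, 3, 4, 8, 7, 3, 2]]
def jC : List (List (List Nat) × Nat × Nat) := [([[0], [1], [2], [3], [4], [5], [6], [7], [8]], 0, 6), ([[9], [10], [11], [12], [13], [14]], 6, 5), ([[15], [16], [17], [18], [19], [20]], 40, 3), ([[21], [22], [23], [24], [25], [26]], 43, 1), ([[27]], 47, 2)]
def jE : List Ex := mapL (fun p => Ex.w (ptW p)) jB
theorem jI_eq : mapL t22.pi jB = jI := by decide +kernel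
theorem jG_ok : allL (jW.zip jG) (fun w => allN 22 fun i => and' (Nat.ble (Nat.succ (ent 5 w.2 i)) 22)
    (Nat.beq ((Ex.w w.1).fn t22.Ns false (nth 0 jI i)) (nth 0 jI (ent 5 w.2 i)))) = true := by decide +kernel
theorem jP_ok : allL jP (fun q => and'
    (allN 22 fun i => Nat.beq i (ent 5 q (ent 5 q (ent 5 q (ent 5 q (ent 5 q (ent 5 q (ent 5 q (ent 5 q i)))))))))
    (or' (or' (not' (allN 22 fun i => Nat.beq (ent 5 q (ent 5 q i)) i)) (allN 22 fun i => Nat.beq i (ent 5 q i)))
      (Nat.beq (cnt 22 fun i => Nat.beq (ent 5 q i) i) 6))) = true := by decide +kernel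

theorem M22.js (h : M22 D) : JS D 22 10 := by
  have := h.fin
  obtain ⟨ε, xs, f⟩ := h.fm
  have F : F22 D ε xs := ⟨f.toTM, H9.m22.ok, f.top, f.cen, h.card, fun a ha b hb => isConj_iff.2 (h.lv.cls a ha b hb)⟩
  have e : jB.map (pv xs) = jI.map ε := by
    rw [← jI_eq, mapL_eq, List.map_map]
    exact List.map_congr_left fun p hp => (f.pi_eq ((by decide : ∀ p ∈ jB, p.1 < 9) p hp)).symm
  have c : Clq D (jI.map ε) := e ▸ f.base
  have hE : ∀ a ∈ jE, a.ev xs ∈ jI.map ε := by
    rw [jE, mapL_eq, ← e]
    exact List.forall_mem_map.2 fun p hp => List.mem_map_of_mem hp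
  have c1 := F.low' (fun a ha => mem_cl (hE a ha)) jV (b := 1024) (by decide +kernel)
  have c2 := F.lowZ (H := ⊤) (Z := Cn (jI.map ε)) (A := mapL Ex.w jA) (fun _ _ => trivial) jC
    (fun l hl g hg => mem_cent1.2 (mem_cn.1 hg _ (List.mem_map_of_mem ((by decide : ∀ l ∈ jC, l.2.1 ∈ jI) l hl)))) le_top
    (b := 63048585600) (by decide +kernel)
  rw [Subgroup.card_top, h.card] at c2
  have v := Subgroup.eq_of_le_of_card_ge c.cl_le_cn (by omega)
  have c3 : Nat.card (cl (jI.map ε)) = 1024 := le_antisymm (v ▸ by omega) c1
  let b := fun i => ε (nth 0 jI i)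
  have lt : ∀ i < 22, nth 0 jI i < 3510 := by decide
  have mb : ∀ x, x ∈ jI.map ε ↔ ∃ i < 22, b i = x := fun x => by
    rw [show jI = (List.range 22).map (nth 0 jI) by decide, List.map_map, List.mem_map]; simp [b]
  have ib : Set.InjOn b {j | j < 22} := fun i hi j hj q =>
    (by decide : ∀ i < 22, ∀ j < 22, nth 0 jI i = nth 0 jI j → i = j) i hi j hj (F.inj (lt i hi) (lt j hj) q)
  have cv : ∀ g, Ac b g id → g ∈ cl (jI.map ε) := fun g a => v.ge (mem_cn.2 fun x hx => by
    obtain ⟨i, hi, rfl⟩ := (mb x).1 hx
    exact (conj_eq_iff_commute.1 (a i hi).2).symm)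
  let K := cl (jI.map ε ++ jW.map (ev xs))
  have k : ∀ g ∈ K, ∃ q ∈ jP, Ac b g (ent 5 q) := fun g => ac_cl (Q := nth 0 jP 0 :: jG) (o := nth 0 jP 0) (List.forall_mem_append.2
    ⟨fun s hs => ⟨_, List.mem_cons_self, Ac.congr (f := id) (fun i hi => ⟨hi, conj_eq_iff_commute.2
      (c.comm _ hs _ ((mb _).2 ⟨i, hi, rfl⟩))⟩) (by decide +kernel)⟩, List.forall_mem_map.2 fun w hw => by
      obtain ⟨p, hp, rfl⟩ := (by decide : ∀ w ∈ jW, ∃ p ∈ jW.zip jG, p.1 = w) w hw
      refine ⟨p.2, List.mem_cons_of_mem _ (List.of_mem_zip hp).2, fun i hi => ?_⟩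
      have := (allN_iff _ _).1 ((allL_iff _ _).1 jG_ok p hp) i hi
      rw [and'_eq, Bool.and_eq_true, Nat.ble_eq, beq_iff] at this
      exact ⟨this.1, (F.act (.w p.1) (lt i hi)).trans (congrArg ε this.2)⟩⟩) (by decide) (by decide +kernel) (by decide +kernel)
  have vK : cl (jI.map ε) ≤ K := cl_le fun x hx => mem_cl (List.mem_append_left _ hx)
  have c4 := F.low' (H := K) (A := jE ++ mapL Ex.w jW) (List.forall_mem_append.2 ⟨fun a ha => vK (mem_cl (hE a ha)), by
    rw [mapL_eq]; exact List.forall_mem_map.2 fun w hw => mem_cl (List.mem_append_right _ (List.mem_map_of_mem hw))⟩) jK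
    (b := 2 ^ 17) (by decide +kernel)
  have jp := fun q hq => (allL_iff _ _).1 jP_ok q hq
  simp only [and'_eq, or'_eq, not'_eq, Bool.and_eq_true, Bool.or_eq_true, Bool.not_eq_true', beq_iff] at jp
  have pK : IsPGroup 2 K := fun g => by
    obtain ⟨q, hq, a⟩ := k g.1 g.2
    have := (c.ea f.tt).2 _ (cv _ ((a.mul (a.mul (a.mul (a.mul (a.mul (a.mul (a.mul a))))))).congr (jp q hq).1))
    exact ⟨4, Subtype.ext (Eq.trans (by change g.1 ^ 16 = _; simp only [pow_succ, pow_zero, one_mul, mul_assoc]) this)⟩
  obtain ⟨S, hS⟩ := pK.exists_le_sylow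
  have eS := Subgroup.eq_of_le_of_card_ge hS (by
    rw [H9.sylow_card S (k := 17) (by rw [h.card]; norm_num) (by rw [h.card]; norm_num)]; exact c4)
  refine js_of h.lv.tg.2.1 c S ⟨c3, vK.trans hS, fun A hA a n => jt_abs f.tt (h.nr.mono (by norm_num)) c rfl c3 a
    (fun g hg x hx => ?_) (fun g hg => ?_) n⟩
  all_goals obtain ⟨q, hq, u⟩ := k g (eS.ge (hA hg))
  · obtain ⟨i, hi, rfl⟩ := (mb x).1 hx
    exact (mb _).2 ⟨_, (u i hi).1, (u i hi).2.symm⟩
  rcases (jp q hq).2 with (w | w) | w
  · refine absurd ((allN_iff _ _).2 fun i hi => (beq_iff _ _).2 (ib (u.mul u i hi).1 hi ?_)) (by rw [w]; simp)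
    rw [← (u.mul u i hi).2, ← pow_two, a.2 g hg]; simp
  · exact .inl (cv g (u.congr w))
  · refine .inr ((ncard_image_cnt ib _ _ fun y => ⟨fun m => ?_, ?_⟩).trans w)
    · obtain ⟨i, hi, rfl⟩ := (mb y).1 m.1
      have n := m.2
      exact ⟨i, hi, (beq_iff _ _).2 (ib (u i hi).1 hi ((u i hi).2.symm.trans (conj_eq_iff_commute.2 n))), rfl⟩
    · rintro ⟨i, hi, n, rfl⟩
      exact ⟨(mb _).2 ⟨i, hi, rfl⟩, conj_eq_iff_commute.1 ((u i hi).2.trans (congrArg b ((beq_iff _ _).1 n)))⟩
theorem M23.js (h : M23 D) : JS D 23 11 :=
  have := h.fin; have := m22.fin; h.lv.js (by rw [h.c0]; decide) m22.js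
end
end H28
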