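import Cfsg.Agent.H28.LyD
import Cfsg.Prelude.Def_Spor_Ly
/-! The presented Lyons group. -/
set_option maxRecDepth 100000
set_option Elab.async false
namespace H28
open H27
noncomputable section
universe u
def lyR78 : List (List Nat) := [[0, 1], [2, 3], [4, 5], [6, 7], [8, 9], [10, 11], [12, 13], [14, 15], [16, 17], [18, 19], [20, 21], [22, 23], [24, 25], [26, 27], [28, 29], [30, 31], [32, 33], [34, 35], [36, 37], [38, 39], [40, 41], [42, 43], [44, 45], [46, 47], [48, 49], [50, 51], [52, 53], [54, 55], [56, 57], [58, 59], [60, 61], [62, 63], [64, 65], [66, 67], [68, 69], [70, 71], [72, 73], [74, 75], [76, 77], [1, 0], [3, 2], [5, 4], [7, 6], [9, 8], [11, 10], [13, 12], [15, 14], [17, 16], [19, 18], [21, 20], [23, 22], [25, 24], [27, 26], [29, 28], [31, 30], [33, 32], [35, 34], [37, 36], [39, 38], [41, 40], [43, 42], [45, 44], [47, 46], [49, 48], [51, 50], [53, 52], [55,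 54], [57, 56], [59, 58], [61, 60], [63, 62], [65, 64], [67, 66], [69, 68], [71, 70], [73, 72], [75, 74], [77, 76], [0, 0, 0, 0, 0, 0, 0, 0], [2, 2, 2, 2, 2], [0, 2, 0, 2, 0, 2, 0, 2], [1, 1, 3, 0, 0, 2], [1, 3, 0, 2, 1, 3, 0, 2, 1, 3, 0, 2], [20, 5], [22, 1, 5, 0], [24, 3, 5, 2], [26, 2, 5, 3], [28, 23, 21, 22, 20], [20, 20, 20, 20, 20], [28, 28, 28, 28, 28], [21, 29, 20, 28], [23, 29, 22, 28], [25, 29, 24, 28], [27, 29, 26, 28], [21, 25, 20, 24, 28, 28], [21, 27, 20, 26, 29, 29], [23, 25, 22, 24, 28], [23, 27, 22, 26], [25, 27, 24, 26, 28], [1, 22, 0, 20, 20], [1, 24, 0, 27, 21, 24, 24], [1, 26, 0, 27, 21, 27, 24, 22, 21], [1, 28, 0, 29, 29], [3, 22, 2, 26, 20, 26, 25, 23], [3, 24, 2, 24, 24, 27, 21, 21], [3, 28, 2, 29], [10, 7, 21, 7, 2, 1, 3, 21, 7, 1, 21, 0, 21, 1, 20, 0, 2, 2], [10, 10], [11, 20, 10, 20, 3, 25, 3], [11, 24, 10, 0, 26, 20, 23, 1, 3, 3], [11, 26, 10,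 27, 24, 3, 3], [11, 28, 10, 26, 21, 24, 21], [10, 0, 0, 10, 26, 29, 21, 1, 2, 1, 3, 3, 1], [11, 2, 10, 26, 26, 24, 21], [10, 0, 2, 2, 0, 3, 0, 10, 26, 29, 21, 1, 1], [10, 22, 10, 23, 10, 22, 27, 0, 24, 0, 0, 0], [6, 11, 3, 22, 1, 11, 1, 11, 1, 28, 26, 20, 2, 0, 3, 3, 1], [6, 6, 1, 1, 1, 1], [3, 7, 2, 6], [7, 0, 6, 1, 1, 1], [6, 28, 6, 28, 6, 28, 6, 28, 6, 28], [6, 28, 6, 29, 6, 28, 1, 1], [12, 1], [14, 2, 1, 3], [16, 2, 2, 1, 3, 3], [18, 3, 3, 1, 2, 2], [30, 1, 1], [32, 7], [34, 6], [36, 3, 5, 0, 3, 3, 4, 7, 4, 0, 5, 1, 4, 3, 3, 0, 2, 0, 3, 3], [38, 5, 3, 5, 7, 2, 2, 5, 7, 2, 5, 3, 5, 1, 4, 3, 3, 0, 3, 3, 0, 3, 1], [40, 6, 4, 3, 0, 4, 0, 6, 4], [42, 7, 3], [44, 2, 6], [46, 1, 3, 4, 1, 2, 4, 3, 0, 2, 0], [48, 3, 5, 3, 0, 5, 1, 2, 2], [50, 1, 3, 1, 5, 0, 2, 0], [52, 3, 1, 2, 5, 3, 0, 2], [54, 4, 2, 2, 5, 1, 3, 5, 2, 0, 3, 3], [56, 0, 0, 0], [58, 0, 0, 2, 0, 3], [60, 0, 2,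 2, 1, 3, 3, 1], [62, 2, 1, 3, 1, 2, 1, 4, 0, 2, 4, 3, 6, 4, 3, 0, 4, 2, 7, 0], [64, 6, 2, 5, 0, 5, 1, 5, 7, 4, 4, 0, 3, 4, 3, 5, 0, 2, 2, 1], [66, 5, 3, 5, 7, 2, 2, 5, 7, 3, 5, 3, 3, 5, 2, 0, 2, 2, 0, 2, 1, 3], [68, 2, 0, 3, 1, 3, 3, 1, 3, 4, 2, 2, 4, 2, 6, 4, 3, 3, 6, 4, 2, 4], [70, 2, 2, 0, 2, 4, 2, 2, 5, 1, 4, 0, 6, 4, 1, 2, 4, 1, 6, 4, 0], [72, 2, 1, 2, 2, 1, 2, 4, 2, 0, 3, 6, 4, 2, 0, 3, 6, 4, 0], [74, 0, 3, 0, 2, 2, 0, 5, 0, 2, 1, 6, 4, 0, 5, 3, 5, 1, 6], [76, 3, 0, 2, 0, 2, 5, 1, 5, 0, 5, 6, 4, 3, 5, 0, 4], [9, 20, 8, 47], [9, 22, 8, 49], [9, 24, 8, 51], [9, 26, 8, 53], [9, 28, 8, 55], [9, 12, 8, 57], [9, 14, 8, 59], [9, 16, 8, 61], [8, 8, 31], [18, 8, 18, 8, 18, 8, 30], [40, 8, 62, 8, 70, 8], [9, 34, 9, 72, 8, 32, 8, 38], [8, 66, 8, 64, 9, 68, 9, 74], [8, 42, 8, 36, 9, 44, 9, 76]]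
def lyDf : List (List Nat) := [[0], [1], [2], [3], [4], [5], [6], [7], [8], [9], [3, 3, 1, 5, 0, 4, 1, 4, 0, 6, 4, 2, 0, 3, 6, 4, 6], [7, 5, 7, 2, 1, 3, 5, 7, 1, 5, 0, 5, 1, 4, 0, 2, 2], [0], [1], [2, 0, 3], [2, 1, 3], [2, 2, 0, 3, 3], [2, 2, 1, 3, 3], [3, 3, 0, 2, 2], [3, 3, 1, 2, 2], [4], [5], [1, 4, 0], [1, 5, 0], [3, 4, 2], [3, 5, 2], [2, 4, 3], [2, 5, 3], [5, 1, 5, 0, 4, 1, 4, 0], [1, 5, 0, 5, 1, 4, 0, 4], [0, 0], [1, 1], [6], [7], [7], [6], [2, 2, 1, 3, 1, 2, 2, 5, 0, 4, 1, 5, 6, 5, 2, 2, 1, 4, 2], [3, 5, 0, 3, 3, 4, 7, 4, 0, 5, 1, 4, 3, 3, 0, 2, 0, 3, 3], [0, 2, 1, 2, 2, 1, 2, 2, 5, 0, 4, 2, 4, 3, 6, 4, 3, 3, 6, 4, 2, 4], [5, 3, 5, 7, 2, 2, 5, 7, 2, 5, 3, 5, 1, 4, 3, 3, 0, 3, 3, 0, 3, 1], [5, 7, 1, 5, 1, 2, 5, 7], [6, 4, 3, 0, 4, 0, 6, 4], [2, 6], [7, 3], [7, 3], [2, 6], [1, 3, 1, 2, 5, 3, 0, 5, 2, 0], [1, 3, 4, 1, 2, 4, 3, 0, 2, 0], [3, 3, 0, 4, 1, 2, 4, 2], [3,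 5, 3, 0, 5, 1, 2, 2], [1, 3, 1, 4, 0, 2, 0], [1, 3, 1, 5, 0, 2, 0], [3, 1, 2, 4, 3, 0, 2], [3, 1, 2, 5, 3, 0, 2], [2, 2, 1, 3, 4, 2, 0, 4, 3, 3, 5], [4, 2, 2, 5, 1, 3, 5, 2, 0, 3, 3], [1, 1, 1], [0, 0, 0], [2, 1, 3, 1, 1], [0, 0, 2, 0, 3], [0, 2, 2, 0, 3, 3, 1], [0, 2, 2, 1, 3, 3, 1], [1, 6, 3, 5, 1, 2, 5, 7, 2, 5, 3, 1, 5, 0, 3, 0, 2, 0, 3], [2, 1, 3, 1, 2, 1, 4, 0, 2, 4, 3, 6, 4, 3, 0, 4, 2, 7, 0], [0, 3, 3, 1, 4, 2, 5, 2, 1, 5, 5, 6, 4, 0, 4, 1, 4, 3, 7], [6, 2, 5, 0, 5, 1, 5, 7, 4, 4, 0, 3, 4, 3, 5, 0, 2, 2, 1], [2, 0, 3, 1, 3, 3, 1, 3, 4, 2, 2, 4, 2, 6, 4, 3, 3, 6, 4, 2, 4], [5, 3, 5, 7, 2, 2, 5, 7, 3, 5, 3, 3, 5, 2, 0, 2, 2, 0, 2, 1, 3], [5, 3, 5, 7, 2, 2, 5, 7, 3, 5, 3, 3, 5, 2, 0, 2, 2, 0, 2, 1, 3], [2, 0, 3, 1, 3, 3, 1, 3, 4, 2, 2, 4, 2, 6, 4, 3, 3, 6, 4, 2, 4], [1, 5, 7, 0, 5, 3, 0, 5, 7, 1, 5, 0, 4, 3, 3, 5, 3, 1, 3, 3], [2, 2, 0, 2, 4, 2, 2, 5, 1, 4, 0, 6, 4,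 1, 2, 4, 1, 6, 4, 0], [1, 5, 7, 2, 1, 3, 5, 7, 2, 1, 3, 5, 3, 0, 3, 3, 0, 3], [2, 1, 2, 2, 1, 2, 4, 2, 0, 3, 6, 4, 2, 0, 3, 6, 4, 0], [7, 0, 4, 2, 4, 1, 5, 7, 0, 3, 1, 4, 1, 3, 3, 1, 2, 1], [0, 3, 0, 2, 2, 0, 5, 0, 2, 1, 6, 4, 0, 5, 3, 5, 1, 6], [5, 1, 4, 2, 5, 7, 4, 1, 4, 0, 4, 3, 1, 3, 1, 2], [3, 0, 2, 0, 2, 5, 1, 5, 0, 5, 6, 4, 3, 5, 0, 4]]
def lyCode (p : Cfsg.Spor.Ly.Gen × Bool) : Nat := match p with
  | (.a, true) => 0
  | (.a, false) => 1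
  | (.b, true) => 2
  | (.b, false) => 3
  | (.c, true) => 4
  | (.c, false) => 5
  | (.d, true) => 6
  | (.d, false) => 7
  | (.z, true) => 8
  | (.z, false) => 9
  | (.e, true) => 10
  | (.e, false) => 11
  | (.a1, true) => 12
  | (.a1, false) => 13
  | (.a2, true) => 14
  | (.a2, false) => 15
  | (.a3, true) => 16
  | (.a3, false) => 17
  | (.a4, true) => 18
  | (.a4, false) => 19
  | (.c1, true) => 20
  | (.c1, false) => 21
  | (.c2, true) => 22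
  | (.c2, false) => 23
  | (.c3, true) => 24
  | (.c3, false) => 25
  | (.c4, true) => 26
  | (.c4, false) => 27
  | (.c5, true) => 28
  | (.c5, false) => 29
  | (.u, true) => 30
  | (.u, false) => 31
  | (.x23, true) => 32
  | (.x23, false) => 33
  | (.x24, true) => 34
  | (.x24, false) => 35
  | (.x25, true) => 36
  | (.x25, false) => 37
  | (.x29, true) => 38
  | (.x29, false) => 39
  | (.x47, true) => 40
  | (.x47, false) => 41
  | (.x96, true) => 42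
  | (.x96, false) => 43
  | (.x129, true) => 44
  | (.x129, false) => 45
  | (.x162, true) => 46
  | (.x162, false) => 47
  | (.x163, true) => 48
  | (.x163, false) => 49
  | (.x164, true) => 50
  | (.x164, false) => 51
  | (.x165, true) => 52
  | (.x165, false) => 53
  | (.x166, true) => 54
  | (.x166, false) => 55
  | (.x167, true) => 56
  | (.x167, false) => 57
  | (.x168, true) => 58
  | (.x168, false) => 59
  | (.x169, true) => 60
  | (.x169, false) => 61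
  | (.x364, true) => 62
  | (.x364, false) => 63
  | (.x365, true) => 64
  | (.x365, false) => 65
  | (.x366, true) => 66
  | (.x366, false) => 67
  | (.x367, true) => 68
  | (.x367, false) => 69
  | (.x368, true) => 70
  | (.x368, false) => 71
  | (.x369, true) => 72
  | (.x369, false) => 73
  | (.x370, true) => 74
  | (.x370, false) => 75
  | (.x371, true) => 76
  | (.x371, false) => 77
def lyL : List (Cfsg.Spor.Ly.Gen × Bool) := [(.a, true), (.a, false), (.b, true), (.b, false), (.c, true), (.c, false), (.d, true), (.d, false), (.z, true), (.z, false), (.e, true), (.e, false), (.a1, true), (.a1, false), (.a2, true), (.a2, false), (.a3, true), (.a3, false), (.a4, true), (.a4, false), (.c1, true), (.c1, false), (.c2, true), (.c2, false), (.c3, true), (.c3, false), (.c4, true), (.c4, false), (.c5, true), (.c5, false), (.u, true), (.u, false), (.x23, true), (.x23, false),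 (.x24, true), (.x24, false), (.x25, true), (.x25, false), (.x29, true), (.x29, false), (.x47, true), (.x47, false), (.x96, true), (.x96, false), (.x129, true), (.x129, false), (.x162, true), (.x162, false), (.x163, true), (.x163, false), (.x164, true), (.x164, false), (.x165, true), (.x165, false), (.x166, true), (.x166, false), (.x167, true), (.x167, false), (.x168, true), (.x168, false), (.x169, true), (.x169, false), (.x364, true), (.x364, false), (.x365, true), (.x365, false), (.x366, true), (.x366, false), (.x367, true), (.x367, false), (.x368, true), (.x368, false), (.x369, true), (.x369, false), (.x370, true), (.x370, false), (.x371, true), (.x371, false)]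
theorem lyB : Brg Cfsg.Spor.Ly.edges Cfsg.Spor.Ly.extra lyCode [.a, .b, .c, .d, .z, .e, .a1, .a2, .a3, .a4, .c1, .c2, .c3, .c4, .c5, .u, .x23, .x24, .x25, .x29, .x47, .x96, .x129, .x162, .x163, .x164, .x165, .x166, .x167, .x168, .x169, .x364, .x365, .x366, .x367, .x368, .x369, .x370, .x371] [] lyL lyR78 :=
  ⟨fun x => by cases x <;> simp, by decide +kernel, by decide +kernel⟩
def lyX78 : List Cfsg.Spor.Ly := gensP Cfsg.Spor.Ly.edges Cfsg.Spor.Ly.extra lyL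
theorem lyX78_inv : ∀ a, lyX78.getD a 1 * lyX78.getD (Nat.xor a 1) 1 = 1 :=
  Dm.inv_xor (k := 39) rfl lyB.rels (by decide +kernel)
theorem lyX78_def : lyDf.map (ev lyX78) = lyX78 :=
  Dm.defs_eq lyX78_inv lyB.rels rfl [(0, 0), (1, 0), (2, 0), (3, 0), (4, 0), (5, 0), (6, 0), (7, 0), (8, 0), (9, 0), (20, 83), (21, 49), (22, 84), (23, 50), (24, 85), (25, 51), (26, 86), (27, 52), (28, 87), (29, 53), (10, 106), (11, 44), (12, 122), (13, 45), (14, 123), (15, 46), (16, 124), (17, 47), (18, 125), (19, 48), (30, 126), (31, 54), (32, 127), (33, 55), (34, 128), (35, 56), (36, 129), (37, 57), (38, 130), (39, 58), (40, 131), (41, 59), (42, 132), (43, 60), (44, 133), (45, 61), (46, 134), (47, 62), (48, 135), (49, 63), (50, 136), (51, 64), (52, 137), (53, 65), (54, 138), (55, 66), (56, 139), (57, 67), (58, 140), (59, 68), (60, 141), (61, 69), (62, 142), (63, 70), (64, 143), (65, 71),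 (66, 144), (67, 72), (68, 145), (69, 73), (70, 146), (71, 74), (72, 147), (73, 75), (74, 148), (75, 76), (76, 149), (77, 77)] (E := []) (fun _ h => by cases h) (by decide +kernel)
/-- the ten letters -/
def lyX : List Cfsg.Spor.Ly := (gensW 10).map (ev lyX78)
theorem lyX_len : lyX.length = 10 := rfl
theorem ly_rels : Rels lyX lyR := by
  have h : Rels lyX78 lyR := by
    rw [lyR, catL_eq]
    exact Rels.append (fun w hw => lyB.rels w (Dm.memW_mem ((allL_iff _ _).1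
      (show allL lyRI (Dm.memW lyR78) = true by decide +kernel) w hw)))
      (Dm.rels_red' lyX78_inv (rels_expL.2 (lyX78_def.symm ▸ lyB.rels : Rels (lyDf.map (ev lyX78)) lyR78))
        (by decide +kernel))
  exact fun w hw => (Dc.ev_expand_gens _ (rng_iff.1 (show rng 10 lyR = true by decide +kernel) w hw)).trans (h w hw)
theorem ly_top : cl lyX = ⊤ := by
  rw [eq_top_iff, ← lyB.cl_top]
  refine cl_le fun g hg => ?_
  obtain ⟨w, hw, rfl⟩ := List.mem_map.1 (lyX78_def.symm ▸ hg : g ∈ lyDf.map (ev lyX78))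
  rw [← Dc.ev_expand_gens _ (rng_iff.1 (show rng 10 lyDf = true by decide +kernel) w hw)]
  exact ev_mem_cl _ _
theorem gensW_map {G : Type*} [Group G] (ys : List G) : (gensW ys.length).map (ev ys) = ys :=
  List.ext_getElem (by simp [gensW]) fun i h1 h2 => by simp [gensW, ev_single, h2]
theorem ly_hom {G : Type*} [Group G] {ys : List G} (hl : ys.length = 10) (h : Rels ys lyR) :
    ∃ φ : Cfsg.Spor.Ly →* G, lyX.map φ = ys := by
  obtain ⟨φ, hφ⟩ := lyB.hom (ys := lyDf.map (ev ys)) (List.length_map _) (rels_expL.1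
    (Dm.rels_red (Dm.inv_xor (k := 5) hl h (by decide +kernel)) h (by decide +kernel)))
  refine ⟨φ, ?_⟩
  rw [lyX, List.map_map, show φ ∘ ev lyX78 = ev (lyX78.map φ) from funext fun w => (ev_map φ _ w).symm,
    show lyX78.map φ = _ from hφ, show ev (lyDf.map (ev ys)) = ev ys ∘ expand lyDf from funext (ev_expand ys lyDf),
    ← List.map_map, show (gensW 10).map (expand lyDf) = gensW 10 by decide +kernel, ← hl, gensW_map]
/-- the subgroup `G₂(5)` -/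
def lyH : Subgroup Cfsg.Spor.Ly := cl ((gensW 8).map (ev lyX))
open Cfsg.Spor.Ly in
theorem lyH_eq : (Subgroup.closure ({a, b, c, d} : Set (FreeGroup Gen))).map
    (PresentedGroup.mk (Cfsg.Spor.coxRelators edges ∪ {r | r ∈ extra})) = lyH := by
  rw [lyB.map_closure [a, b, c, d] (by simp) (W := [[0], [2], [4], [6]]) (by decide +kernel)]
  have e : ∀ w ∈ gensW 8, ev lyX w = ev lyX78 w := fun w hw =>
    Dc.ev_expand_gens _ (rng_iff.1 (show rng 10 (gensW 8) = true by decide +kernel) w hw)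
  rw [lyH, List.map_congr_left e]
  refine le_antisymm (cl_le fun g hg => mem_cl (List.map_subset _ (by decide) hg)) (cl_le fun g hg => ?_)
  have i : ∀ j, [j] ∈ [[0], [2], [4], [6]] → ev lyX78 [Nat.xor j 1] ∈ cl ([[0], [2], [4], [6]].map (ev lyX78)) :=
    fun j hj => by
      rw [ev_single, eq_inv_of_mul_eq_one_right (lyX78_inv j), ← ev_single]
      exact inv_mem (mem_cl (List.mem_map_of_mem hj))
  have k : ∀ j, [j] ∈ [[0], [2], [4], [6]] → ev lyX78 [j] ∈ cl ([[0], [2], [4], [6]].map (ev lyX78)) :=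
    fun j hj => mem_cl (List.mem_map_of_mem hj)
  obtain ⟨w, hw, rfl⟩ := List.mem_map.1 hg
  rw [show gensW 8 = [[0], [1], [2], [3], [4], [5], [6], [7]] from rfl] at hw
  simp only [List.mem_cons, List.not_mem_nil, or_false] at hw
  rcases hw with rfl | rfl | rfl | rfl | rfl | rfl | rfl | rfl
  exacts [k 0 (by simp), i 0 (by simp), k 2 (by simp), i 2 (by simp), k 4 (by simp), i 4 (by simp), k 6 (by simp),
    i 6 (by simp)]
theorem lyRep_ex : ∃ φ : Cfsg.Spor.Ly →* GL (Fin 111) (ZMod 5), lyX.map φ = lyY := ly_hom lyY_len lyY_rels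
/-- the representation of degree 111 -/
def lyRep : Cfsg.Spor.Ly →* GL (Fin 111) (ZMod 5) := lyRep_ex.choose
theorem lyRep_ev (w : List Nat) : lyRep (ev lyX w) = ev lyY w := by
  rw [← ev_map, show lyX.map lyRep = lyY from lyRep_ex.choose_spec]
theorem lyH_iso : Nonempty (lyH ≃* Cfsg.Lie.chevG2.group (ZMod 5)) :=
  lyChev_iso rfl (rels_expL.1 (ly_subR _ _ rfl ly_rels)) fun h =>
    H29.Model.ne_of (Dm.R_ev lyY_R [0]) a5111.gM.R_one (by decide +kernel) (by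
      rw [← lyRep_ev, show ev lyX [0] = 1 from h, map_one])
theorem lyH_card : Nat.card lyH = 5859000000 := let ⟨e⟩ := lyH_iso; (Nat.card_congr e.toEquiv).trans lyChev_card
theorem lyH_simple : IsSimpleGroup lyH := let ⟨e⟩ := lyH_iso; have := lyChev_simple; e.isSimpleGroup
theorem ly_bd : Finite Cfsg.Spor.Ly ∧ Nat.card Cfsg.Spor.Ly ≤ 51765179004000000 := by
  have := ly_pres _ lyX rfl ly_rels
  rw [ly_top] at this
  exact ⟨have := this.1; Finite.of_equiv _ Subgroup.topEquiv.toEquiv, Subgroup.card_top (G := Cfsg.Spor.Ly) ▸ this.2⟩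
instance lyFinite : Finite Cfsg.Spor.Ly := ly_bd.1
end
end H28
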