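import Cfsg.Agent.H28.LyM
/-! Divisors of the order of the matrix group of degree 111. -/
set_option maxRecDepth 100000
set_option Elab.async false
namespace H28
open H27
noncomputable section
theorem ly_dvd {k m : Nat} {R : List (List Nat)} (hp : Pres.{0} k R m) {L : List Nat}
    (hL : ∀ c ∈ L, a5111.gM.In (a5111.gM.cl lyC111) c) (hk : L.length = k)
    (hR : H29.relsZ a5111.mul a5111.one L [a5111.one] R = true)
    (hm : (∀ c ∈ L, a5111.gM.In ⊤ c) → m ≤ Nat.card (a5111.gM.cl L)) : m ∣ Nat.card (cl lyY) := by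
  have hv : ∀ c ∈ L, a5111.gM.In ⊤ c := fun c h => (hL c h).mono le_top
  obtain ⟨ys, l1, l2⟩ := H29.exists_list_R hv
  have h : Nat.card (cl ys) = m := hp.card_eq (l1.trans hk) (Dm.rels_of_Z (M := a5111.gM) l2 hR)
    (by rw [← Dm.cl_eq l1 l2]; exact hm hv)
  rw [← h, ← Dm.cl_eq l1 l2, ← Dm.cl_eq lyY_len lyY_R]
  exact Subgroup.card_dvd_of_le (H29.Model.cl_le hL)
theorem ly_ord {p : Nat} (hp : p.Prime) (h64 : p < 2 ^ 64) (w : List Nat)
    (h : force (H29.prodL a5111.mul a5111.one (H29.lgetD a5111.one lyC111) w) (fun x =>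
      H29.ordOK a5111.gM.mul a5111.gM.eqb a5111.gM.one x p [p]) = true) : orderOf (ev lyY w) = p := by
  rw [force_eq] at h
  exact H29.orderOf_of_ordOK (Dm.R_ev lyY_R w) h hp.pos h64 fun q hq e => by
    rw [(Nat.prime_dvd_prime_iff_eq hq hp).1 e]; exact List.mem_singleton_self _
theorem ly_o11 : orderOf (ev lyY [7, 0, 3, 8, 2, 7, 2, 5, 0, 8]) = 11 :=
  ly_ord (by norm_num) (by norm_num) _ (by decide +kernel)
theorem ly_o37 : orderOf (ev lyY [7, 2, 5, 9, 4]) = 37 := ly_ord (by norm_num) (by norm_num) _ (by decide +kernel)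
theorem ly_o67 : orderOf (ev lyY [9, 4, 2, 9, 7]) = 67 := ly_ord (by norm_num) (by norm_num) _ (by decide +kernel)
theorem ly_odvd (w : List Nat) : orderOf (ev lyY w) ∣ Nat.card (cl lyY) :=
  Subgroup.orderOf_dvd_natCard _ (ev_mem_cl _ _)
end
end H28
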