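import Cfsg.Agent.H28.LyB
import Cfsg.Agent.H28.LyT
import Cfsg.Agent.H28.LyW
import Cfsg.Agent.H28.Dm4
/-! The order and the simplicity of the presented Lyons group. -/
set_option maxRecDepth 100000
set_option Elab.async false
namespace H28
open H27
noncomputable section
universe u
theorem lyRep_range : lyRep.range = cl lyY := by
  rw [range_eq_cl lyRep ly_top, show lyX.map lyRep = lyY from lyRep_ex.choose_spec]
theorem ly_card : Nat.card Cfsg.Spor.Ly = 51765179004000000 := by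
  have h : Nat.card (cl lyY) ∣ Nat.card Cfsg.Spor.Ly := lyRep_range ▸ Subgroup.card_range_dvd lyRep
  have h5 : 3390625 ∣ Nat.card Cfsg.Spor.Ly :=
    (show 3390625 ∣ 5859000000 by norm_num).trans (lyH_card ▸ Subgroup.card_subgroup_dvd_card lyH)
  have a := ly_o11 ▸ (ly_odvd _).trans h
  have b := ly_o37 ▸ (ly_odvd _).trans h
  have c := ly_o67 ▸ (ly_odvd _).trans h
  have := Nat.Coprime.mul_dvd_of_dvd_of_dvd (by norm_num) (Nat.Coprime.mul_dvd_of_dvd_of_dvd (by norm_num)
    (Nat.Coprime.mul_dvd_of_dvd_of_dvd (by norm_num) (Nat.Coprime.mul_dvd_of_dvd_of_dvd (by norm_num)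
    (Nat.Coprime.mul_dvd_of_dvd_of_dvd (by norm_num) (lyw_dvd.trans h) (lyt_dvd.trans h)) h5) a) b) c
  exact le_antisymm ly_bd.2 (Nat.le_of_dvd Nat.card_pos this)
theorem lyH_index : lyH.index = 8835156 := index_eq_of_card lyH_card (by norm_num) ly_card
theorem ly_nclo (M : Subgroup Cfsg.Spor.Ly) (hM : M.Normal) (h : lyH ≤ M) : M = ⊤ := by
  let f := QuotientGroup.mk' M
  have k : ∀ j < 8, f (lyX.getD j 1) = 1 := fun j hj => (QuotientGroup.eq_one_iff _).2 (h (by
    rw [← ev_single]; exact mem_cl (List.mem_map_of_mem (List.mem_map_of_mem (List.mem_range.2 hj)))))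
  have r : ∀ w, Dm.memW lyR w = true → f (ev lyX w) = 1 := fun w hw => by rw [ly_rels w (Dm.memW_mem hw), map_one]
  have r1 := r [8, 8, 1, 1] (by decide +kernel)
  have r2 := r [3, 3, 0, 2, 2, 8, 3, 3, 0, 2, 2, 8, 3, 3, 0, 2, 2, 8, 0, 0] (by decide +kernel)
  have r3 := r [8, 9] (by decide +kernel)
  simp only [ev_cons, ev_nil, map_mul, map_one, k 0 (by decide), k 1 (by decide), k 2 (by decide), k 3 (by decide),
    one_mul, mul_one] at r1 r2 r3
  rw [r1, mul_one] at r2
  rw [r2, one_mul] at r3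
  rw [eq_top_iff, ← ly_top]
  refine cl_le fun g hg => (QuotientGroup.eq_one_iff _).1 ?_
  obtain ⟨i, hi, rfl⟩ := List.getElem_of_mem hg
  rw [← List.getD_eq_getElem _ 1 hi]
  rw [lyX_len] at hi
  rcases (by omega : i < 8 ∨ i = 8 ∨ i = 9) with e | rfl | rfl
  exacts [k i e, r2, r3]
theorem ly_simple : IsSimpleGroup Cfsg.Spor.Ly :=
  let ⟨_, _, h⟩ := lyd_data.{0}
  @Dm.Data.simple _ _ _ _ _ _ _ _ _ _ _ _ _ _ _ h _ _ _ _ rfl (ly_need _ _ rfl ly_rels) ly_top lyH_simple lyH_index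
    (by decide +kernel) {2, 3, 11, 37, 67} (by decide +kernel) (by decide +kernel) ly_nclo
end
end H28
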