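import Cfsg.Agent.H28.LyQ
import Cfsg.Agent.H28.LyZ2
import Cfsg.Agent.H9.Pone
/-! The action on 11 points of the centraliser of an involution in the Lyons group. -/
set_option maxRecDepth 100000
namespace H28
open H27 Equiv Subgroup
noncomputable section
theorem ex_pi {G : Type*} [Group G] [Finite G] {t : G} (ht : orderOf t = 2) (y : Fin 11 → G)
    (hc : ∀ i, i ≠ 0 → i ≠ 1 → Commute (y i) t) (h3 : ∀ i, i ≠ 0 → i ≠ 1 → y i ^ 3 = 1)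
    (h2 : ∀ i j, i ≠ 0 → i ≠ 1 → j ≠ 0 → j ≠ 1 → i ≠ j → (y i * y j) ^ 2 = t)
    (hle : Nat.card (centralizer ({t} : Set G)) ≤ 39916800) : ∃ π : G → Perm (Fin 11),
    (∀ a b, Commute a t → Commute b t → π (a * b) = π a * π b) ∧
    (∀ c, Commute c t → (π c = 1 ↔ c = 1 ∨ c = t)) ∧ (∀ p, Perm.sign p = 1 ↔ ∃ c, Commute c t ∧ π c = p) ∧
    ∀ i, i ≠ 0 → i ≠ 1 → π (y i) = H7.c3 0 1 i := by
  classical
  obtain ⟨σ, k, r, v⟩ := H9.Pone.exσ (C := centralizer ({t} : Set G)) (z := ⟨t, mem_centralizer_singleton_iff.2 rfl⟩)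
    (by rw [Subgroup.orderOf_mk, ht]) (mem_center_iff.2 fun g => Subtype.ext (mem_centralizer_singleton_iff.1 g.2))
    (fun i => if h : i ≠ 0 ∧ i ≠ 1 then ⟨y i, mem_centralizer_singleton_iff.2 (hc i h.1 h.2)⟩ else 1)
    (fun i a b => by rw [dif_pos ⟨a, b⟩]; exact Subtype.ext (h3 i a b))
    (fun i j a b c d e => by rw [dif_pos ⟨a, b⟩, dif_pos ⟨c, d⟩]; exact Subtype.ext (h2 i j a b c d e)) hle
  have t2 : t ^ (2 : ℤ) = 1 := by rw [zpow_ofNat, ← ht, pow_orderOf_eq_one]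
  refine ⟨fun g => if h : Commute g t then σ ⟨g, mem_centralizer_singleton_iff.2 h⟩ else 1, fun a b ha hb => ?_,
    fun c h => ?_, fun p => ?_, fun i a b => ?_⟩
  · simp only [dif_pos ha, dif_pos hb, dif_pos (ha.mul_left hb), ← map_mul]; rfl
  · simp only [dif_pos h]
    rw [← MonoidHom.mem_ker, k]
    refine ⟨fun ⟨n, e⟩ => ?_, ?_⟩
    · obtain rfl : t ^ n = c := congrArg Subtype.val e
      rcases Int.even_or_odd' n with ⟨m, rfl | rfl⟩ <;> simp [zpow_add, zpow_mul, t2]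
    · rintro (rfl | rfl)
      exacts [one_mem _, mem_zpowers _]
  · rw [← Perm.mem_alternatingGroup, ← r]
    refine ⟨fun ⟨c, e⟩ => ⟨c, mem_centralizer_singleton_iff.1 c.2, ?_⟩, fun ⟨c, h, e⟩ => ⟨_, (dif_pos h).symm.trans e⟩⟩
    exact (dif_pos (mem_centralizer_singleton_iff.1 c.2)).trans e
  · have := v i a b
    rw [dif_pos ⟨a, b⟩] at this
    exact (dif_pos (hc i a b)).trans this
def lyqY : List Cfsg.Spor.Ly := lyqW.map (ev lyX)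
theorem lyq_car' : (∀ i : Fin 11, i ≠ 0 → i ≠ 1 → Commute (lyqY.getD (i - 2) 1) (ev lyX [0, 0, 0, 0])) ∧
    (∀ i : Fin 11, i ≠ 0 → i ≠ 1 → lyqY.getD (i - 2) 1 ^ 3 = 1) ∧
    ∀ i j : Fin 11, i ≠ 0 → i ≠ 1 → j ≠ 0 → j ≠ 1 → i ≠ j →
      (lyqY.getD (i - 2) 1 * lyqY.getD (j - 2) 1) ^ 2 = ev lyX [0, 0, 0, 0] := by
  have r : ∀ w, Dm.memW lyqR w = true → ev (lyqW.map (ev lyX)) w = 1 := fun w hw => lyq_rels w (Dm.memW_mem hw)
  have e : (lyqW.map (ev lyX)).getD 9 1 = ev lyX [0, 0, 0, 0] := rfl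
  unfold lyqY
  generalize ev lyX [0, 0, 0, 0] = t at e
  generalize lyqW.map (ev lyX) = ys at r e
  have t2 : t * t = 1 := by simpa only [ev_cons, ev_nil, e, mul_one] using r [9, 9] (by decide +kernel)
  have h3 : ∀ i : Fin 11, i ≠ 0 → i ≠ 1 → ys.getD (i - 2) 1 ^ 3 = 1 := fun i a b => by
    simpa only [ev_cons, ev_nil, mul_one, pow_succ, pow_zero, one_mul, mul_assoc] using r [i - 2, i - 2, i - 2]
      ((by decide +kernel : ∀ i : Fin 11, i ≠ 0 → i ≠ 1 → Dm.memW lyqR [i - 2, i - 2, i - 2] = true) i a b)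
  have hc : ∀ i : Fin 11, i ≠ 0 → i ≠ 1 → Commute (ys.getD (i - 2) 1) t := fun i a b => by
    have h1 := r [i - 2, 9, i - 2, i - 2, 9]
      ((by decide +kernel : ∀ i : Fin 11, i ≠ 0 → i ≠ 1 → Dm.memW lyqR [i - 2, 9, i - 2, i - 2, 9] = true) i a b)
    have h2 := h3 i a b
    simp only [ev_cons, ev_nil, e, mul_one] at h1
    generalize ys.getD (i - 2) 1 = y at h1 h2
    have h4 : y * y = y⁻¹ := eq_inv_of_mul_eq_one_left (by rw [← h2, pow_succ, sq])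
    rw [← mul_assoc y y, h4, ← mul_assoc, ← mul_assoc, mul_eq_one_iff_eq_inv, inv_eq_of_mul_eq_one_right t2,
      mul_inv_eq_iff_eq_mul] at h1
    exact h1
  refine ⟨hc, h3, fun i j a b c d n => ?_⟩
  have k : ∀ i j, Dm.memW lyqR [i, j, i, j, 9] = true → (ys.getD i 1 * ys.getD j 1) ^ 2 = t := fun i j hw => by
    have h1 := r _ hw
    simp only [ev_cons, ev_nil, e, mul_one] at h1
    rw [← inv_eq_of_mul_eq_one_right t2, eq_inv_iff_mul_eq_one]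
    simpa only [sq, mul_assoc] using h1
  rcases (by decide +kernel : ∀ i j : Fin 11, i ≠ 0 → i ≠ 1 → j ≠ 0 → j ≠ 1 → i ≠ j →
    Dm.memW lyqR [i - 2, j - 2, i - 2, j - 2, 9] = true ∨ Dm.memW lyqR [j - 2, i - 2, j - 2, i - 2, 9] = true)
    i j a b c d n with h1 | h1
  · exact k _ _ h1
  · rw [show ∀ x y : Cfsg.Spor.Ly, (x * y) ^ 2 = x * (y * x) ^ 2 * x⁻¹ from fun x y => by simp [sq, mul_assoc], k _ _ h1,
      (hc i a b).eq, mul_inv_cancel_right]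
def lypl : List (Perm (Fin 11)) := [H7.c3 0 1 2, H7.c3 0 1 3, H7.c3 0 1 4, H7.c3 0 1 5, H7.c3 0 1 6, H7.c3 0 1 7, H7.c3 0 1 8, H7.c3 0 1 9, H7.c3 0 1 10]
theorem lyq_pi : ∃ π : Cfsg.Spor.Ly → Perm (Fin 11),
    (∀ a b, Commute a (ev lyX [0, 0, 0, 0]) → Commute b (ev lyX [0, 0, 0, 0]) → π (a * b) = π a * π b) ∧
    (∀ c, Commute c (ev lyX [0, 0, 0, 0]) → (π c = 1 ↔ c = 1 ∨ c = ev lyX [0, 0, 0, 0])) ∧
    (∀ p, Perm.sign p = 1 ↔ ∃ c, Commute c (ev lyX [0, 0, 0, 0]) ∧ π c = p) ∧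
    ∀ w, Commute (ev lyqY w) (ev lyX [0, 0, 0, 0]) ∧ π (ev lyqY w) = ev lypl w := by
  have : Finite Cfsg.Spor.Ly := Nat.finite_of_card_ne_zero (by rw [ly_card]; norm_num)
  obtain ⟨hc, h3, h2⟩ := lyq_car'
  obtain ⟨π, hm, hk, hr, v⟩ := ex_pi (ly_2A11 lyct_le).1 _ hc h3 h2 lyct_le
  have h1 := (hk 1 (Commute.one_left _)).2 (.inl rfl)
  have k : ∀ a, Commute (lyqY.getD a 1) (ev lyX [0, 0, 0, 0]) ∧ π (lyqY.getD a 1) = lypl.getD a 1 := fun a => by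
    rcases lt_trichotomy a 9 with h | rfl | h
    · have a0 : (⟨a + 2, by omega⟩ : Fin 11) ≠ 0 := by simp
      have a1 : (⟨a + 2, by omega⟩ : Fin 11) ≠ 1 := fun e => by simpa using congrArg Fin.val e
      refine ⟨hc _ a0 a1, (v _ a0 a1).trans ?_⟩
      interval_cases a <;> rfl
    · exact ⟨Commute.refl _, (hk _ (Commute.refl _)).2 (.inr rfl)⟩
    · rw [List.getD_eq_default _ _ (show lyqY.length ≤ a from h), List.getD_eq_default _ _ (show lypl.length ≤ a from h.le)]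
      exact ⟨Commute.one_left _, h1⟩
  refine ⟨π, hm, hk, hr, fun w => ?_⟩
  induction w with
  | nil => exact ⟨Commute.one_left _, h1⟩
  | cons a s ih => rw [ev_cons, ev_cons, hm _ _ (k a).1 ih.1, (k a).2, ih.2]; exact ⟨(k a).1.mul_left ih.1, rfl⟩
def lyp1 : Perm (Fin 11) := ev lypl [5, 1, 4, 0, 8, 7, 5, 1, 6]
def lyp2 : Perm (Fin 11) := ev lypl [6, 3, 2, 1, 4, 5, 7, 3, 2]
def lyp3 : Perm (Fin 11) := ev lypl [7, 3, 5, 2, 0, 3, 5, 6, 8, 7, 7]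
def lypF (a b x : Fin 11) : Fin 11 :=
  ev [lyp1, lyp2] (([[], [0, 0], [], [0], [1, 1, 0, 0], [1, 0], [1, 0, 0], [1, 1, 0], [0], [0, 0], [0, 1, 1, 0]] : List (List Nat)).getD x []) (if x = 0 ∨ x = 1 ∨ x = 8 then a else b)
theorem lypF_eq {τ : Perm (Fin 11)} (h1 : Commute τ lyp1) (h2 : Commute τ lyp2) (x : Fin 11) :
    τ x = lypF (τ 0) (τ 2) x := by
  have k : ∀ w, ev [lyp1, lyp2] w ∈ centralizer {τ} := ev_mem (by
    simp only [List.forall_mem_cons, mem_centralizer_singleton_iff]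
    exact ⟨h1.eq.symm, h2.eq.symm, fun _ h => by cases h⟩)
  conv_lhs => rw [← (by decide +kernel : ∀ x, lypF 0 2 x = x) x]
  rw [lypF, lypF, ← Perm.mul_apply, ← mem_centralizer_singleton_iff.1 (k _), Perm.mul_apply, apply_ite τ]
theorem lypi_L1 {τ : Perm (Fin 11)} (h1 : Commute τ lyp1) (h2 : Commute τ lyp2) : ∃ w, τ = ev lypl w := by
  obtain ⟨w, -, h⟩ := (by decide +kernel : ∀ a b, (∀ x, lypF a b (lyp1 x) = lyp1 (lypF a b x)) →
    (∀ x, lypF a b (lyp2 x) = lyp2 (lypF a b x)) → ∃ w ∈ ([[], [6], [6, 6], [7, 8, 4, 0, 1, 2, 2, 3, 2, 2, 4, 5, 5, 7, 8, 9], [6, 7, 8, 4, 0, 1, 2, 2, 3, 2, 2, 4, 5, 5, 7, 8, 9], [6, 6, 7, 8, 4, 0, 1, 2, 2, 3, 2, 2, 4, 5, 5, 7, 8, 9]] : List (List Nat)), ∀ x, lypF a b x = ev lypl w x) (τ 0) (τ 2)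
    (fun x => by rw [← lypF_eq h1 h2, ← lypF_eq h1 h2, ← Perm.mul_apply, h1.eq, Perm.mul_apply])
    (fun x => by rw [← lypF_eq h1 h2, ← lypF_eq h1 h2, ← Perm.mul_apply, h2.eq, Perm.mul_apply])
  exact ⟨w, Equiv.ext fun x => (lypF_eq h1 h2 x).trans (h x)⟩
theorem lypi_L2 {τ : Perm (Fin 11)} (h1 : Commute τ lyp1) (h2 : Commute τ lyp2) (h3 : Commute τ lyp3) :
    τ = 1 ∨ τ = ev lypl [7, 8, 4, 0, 1, 2, 2, 3, 2, 2, 4, 5, 5, 7, 8, 9] := by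
  refine ((by decide +kernel : ∀ a b, (∀ x, lypF a b (lyp1 x) = lyp1 (lypF a b x)) →
    (∀ x, lypF a b (lyp2 x) = lyp2 (lypF a b x)) → (∀ x, lypF a b (lyp3 x) = lyp3 (lypF a b x)) →
    (∀ x, lypF a b x = x) ∨ ∀ x, lypF a b x = ev lypl [7, 8, 4, 0, 1, 2, 2, 3, 2, 2, 4, 5, 5, 7, 8, 9] x) (τ 0) (τ 2)
    (fun x => by rw [← lypF_eq h1 h2, ← lypF_eq h1 h2, ← Perm.mul_apply, h1.eq, Perm.mul_apply])
    (fun x => by rw [← lypF_eq h1 h2, ← lypF_eq h1 h2, ← Perm.mul_apply, h2.eq, Perm.mul_apply])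
    (fun x => by rw [← lypF_eq h1 h2, ← lypF_eq h1 h2, ← Perm.mul_apply, h3.eq, Perm.mul_apply])).imp
    (fun h => Equiv.ext fun x => (lypF_eq h1 h2 x).trans (h x)) fun h => Equiv.ext fun x => (lypF_eq h1 h2 x).trans (h x)
theorem lypi_sw1 : Commute (swap (0 : Fin 11) 1) (ev lypl [3, 5, 0, 8, 4, 7, 3, 5]) := Equiv.ext (by decide +kernel)
theorem lypi_sw2 : Commute (swap (0 : Fin 11) 1) (ev lypl [4, 2, 1, 3, 5, 7, 4, 2]) := Equiv.ext (by decide +kernel)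
end
end H28
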