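import Cfsg.Agent.H28.LyP
import Cfsg.Agent.H28.LyPi
import Cfsg.Agent.H28.LyU
import Cfsg.Agent.H1.Inv1
import Cfsg.Agent.H12.Aut1
import Cfsg.Agent.H3.Loc
/-! Every automorphism of the Lyons group is inner. -/
set_option maxRecDepth 100000
namespace H28
open H27 Equiv Subgroup
noncomputable section
local notation "T" => ev lyX [0, 0, 0, 0]
local notation "E" i:max => lyoY.getD i 1
theorem lyo_2 {a b c d : Nat} (h : ev lyoY [a, b] = ev lyoY [c, d]) : E a * E b = E c * E d := by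
  simpa only [ev_cons, ev_nil, mul_one] using h
theorem lyo_cj {a b : Nat} (h : ev lyoY [1, a] = ev lyoY [b, 1]) : E 1 * E a * (E 1)⁻¹ = E b := by
  rw [lyo_2 h, mul_inv_cancel_right]
theorem lyo_gen : centralizer {T} ⊔ zpowers (E 1) = ⊤ := by
  rw [eq_top_iff, ← ly_top]
  have k : ∀ {c}, Commute c T → c ∈ centralizer {T} ⊔ zpowers (E 1) := fun h =>
    mem_sup_left (mem_centralizer_singleton_iff.2 h)
  have g : E 1 ∈ centralizer {T} ⊔ zpowers (E 1) := mem_sup_right (mem_zpowers _)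
  have c : lyX.getD 4 1 ∈ centralizer {T} ⊔ zpowers (E 1) := by
    have e := lyo_e11
    simp only [ev_cons, ev_nil, mul_one] at e
    rw [← ev_single lyX, show ev lyX [4] = E 7 from rfl, ← mul_inv_eq_iff_eq_mul.2 e]
    exact mul_mem (mul_mem (k (lyo_2 lyo_e6)) (mul_mem g (mul_mem (k (lyo_2 lyo_e7)) (mul_mem g (k (lyo_2 lyo_e9))))))
      (inv_mem (mul_mem (k (lyo_2 lyo_e6)) (mul_mem g (mul_mem (k (lyo_2 lyo_e8)) g))))
  refine cl_le fun x hx => ?_
  obtain ⟨i, hi, rfl⟩ := List.getElem_of_mem hx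
  rw [← List.getD_eq_getElem _ 1 hi]
  by_cases h4 : i = 4
  · exact h4 ▸ c
  by_cases h5 : i = 5
  · rw [h5, show lyX.getD 5 1 = _ from
      eq_inv_of_mul_eq_one_right (Dm.inv_xor (k := 5) lyX_len ly_rels (by decide +kernel) 4)]
    exact inv_mem c
  exact k (lyo_ct i hi h4 h5)
theorem ly_odd : ¬ 2 ∣ (centralizer {T}).index := by
  obtain ⟨-, h1, ⟨f⟩, -⟩ := ly_2A11 lyct_le
  have cA := two_mul_nat_card_alternatingGroup (α := Fin 11)
  rw [Nat.card_perm, Nat.card_fin, show Nat.factorial 11 = 39916800 from rfl, ← Nat.card_congr f.toEquiv] at cA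
  have h2 := (center (centralizer {T})).card_eq_card_quotient_mul_card_subgroup
  have h3 := (centralizer {T}).index_mul_card
  rw [h2, h1, mul_comm _ 2, cA, ly_card] at h3
  omega
theorem ly_inner (α : MulAut Cfsg.Spor.Ly) : α ∈ Cfsg.Inn Cfsg.Spor.Ly := by
  have : Finite Cfsg.Spor.Ly := Nat.finite_of_card_ne_zero (by rw [ly_card]; norm_num)
  obtain ⟨π, hm, hk, hr, hw⟩ := lyq_pi
  have ht := (ly_2A11 lyct_le).1
  have t2 : T * T = 1 := by rw [← sq, ← ht, pow_orderOf_eq_one]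
  have t1 : T ≠ 1 := fun e => by rw [e, orderOf_one] at ht; omega
  have cj : ∀ g, g * T * g⁻¹ * (g * T * g⁻¹) = 1 := fun g => by rw [conj_mul, t2, mul_one, mul_inv_cancel]
  have ab := lyu_ab
  generalize ev lyuY [3, 8, 1] = a at ab
  generalize ev lyuY [2, 9, 0] = b at ab
  have hs : Commute (a * T * a⁻¹) T := by
    have := cj b
    rw [← ab, mul_eq_one_iff_eq_inv, mul_inv_rev, inv_eq_of_mul_eq_one_right (cj a), inv_eq_of_mul_eq_one_right t2] at this
    exact this.symm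
  obtain ⟨c, hc⟩ := isConj_iff.1 (H1.Inv1.inv1 ht π hm hk hr ly_odd
    ((sq _).symm.trans (lyq_car'.2.2 2 3 (by decide) (by decide) (by decide) (by decide) (by decide))) hs
    (fun e => t1 (by rw [e, t2, eq_comm, mul_inv_eq_one, mul_eq_left] at ab; exact ab))
    (isConj_iff.2 ⟨a, rfl⟩) (isConj_iff.2 ⟨b, ab.symm⟩) (α T) ((α.orderOf_eq _).trans ht)).symm
  have sρ : Perm.sign (swap (0 : Fin 11) 1) = -1 := Perm.sign_swap (by decide)
  obtain ⟨k, kt, hk'⟩ := H12.Aut1.aut1 ht π hm hk hr _ sρ (MulAut.conj c * α) hc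
  have key := Cfsg.Agent.H3.Loc.loc1 (g := E 1) (n := E 2) (m := E 10) ht π hm hk hr _ sρ {E 8, E 9}
    (by
      rintro _ (rfl | rfl)
      · refine ⟨?_, (hw _).1, lyo_cj lyo_e0 ▸ (hw _).1, (hw _).2.symm ▸ lypi_sw1⟩
        simpa only [ev_cons, ev_nil, mul_one, pow_succ, pow_zero, one_mul, mul_assoc] using lyo_e12
      · refine ⟨?_, (hw _).1, lyo_cj lyo_e1 ▸ (hw _).1, (hw _).2.symm ▸ lypi_sw2⟩
        simpa only [ev_cons, ev_nil, mul_one, pow_succ, pow_zero, one_mul, mul_assoc] using lyo_e13)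
    (by
      have e := lyo_e4
      simp only [ev_cons, ev_nil, mul_one] at e
      have h8 : E 8 ∈ closure {E 8, E 9} ⊔ zpowers T := mem_sup_left (subset_closure (.inl rfl))
      have h9 : E 9 ∈ closure {E 8, E 9} ⊔ zpowers T := mem_sup_left (subset_closure (.inr rfl))
      rw [mul_assoc, show T * E 1 = _ from e, inv_mul_cancel_left]
      exact mul_mem h9 (mul_mem h8 (mul_mem h8 (mul_mem h9 (mul_mem h8 (mul_mem h8 (mem_sup_right (mem_zpowers _))))))))
    ((show E 1 * T * (E 1)⁻¹ = _ from lyo_cj lyo_e3) ▸ (hw _).1) (hw _).1 (lyo_cj lyo_e2 ▸ (hw _).1)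
    (fun τ h => by
      have h1 := h _ (.inl rfl)
      have h2 := h _ (.inr rfl)
      rw [lyo_cj lyo_e0, show π (E 11) = lyp1 from (hw _).2] at h1
      rw [lyo_cj lyo_e1, show π (E 12) = lyp2 from (hw _).2] at h2
      obtain ⟨w, rfl⟩ := lypi_L1 h1 h2
      exact (hr _).2 ⟨_, hw w⟩)
    (fun τ h h3 => by
      have h1 := h _ (.inl rfl)
      have h2 := h _ (.inr rfl)
      rw [lyo_cj lyo_e0, show π (E 11) = lyp1 from (hw _).2] at h1
      rw [lyo_cj lyo_e1, show π (E 12) = lyp2 from (hw _).2] at h2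
      rw [lyo_cj lyo_e2, show π (E 13) = lyp3 from (hw _).2] at h3
      rw [show E 1 * T * (E 1)⁻¹ = _ from lyo_cj lyo_e3, show π (E 14) = _ from (hw _).2]
      exact lypi_L2 h1 h2 h3)
    (lyo_2 lyo_e5)
    (by
      have e := lyo_e10
      simp only [ev_cons, ev_nil, mul_one] at e
      simp only [Commute, SemiconjBy, sq, mul_assoc]
      exact e)
    (by
      have e := lyo_n0
      simp only [ev_cons, ev_nil, mul_one] at e
      simp only [sq, mul_assoc]
      exact e)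
    (by
      have e := lyo_n1
      simp only [ev_cons, ev_nil, mul_one] at e
      simp only [sq, mul_assoc]
      exact e)
    lyo_gen (MulAut.conj k * (MulAut.conj c * α))
    (by rw [MulAut.mul_apply, show (MulAut.conj c * α) T = T from hc, MulAut.conj_apply, kt.eq, mul_inv_cancel_right]) hk'
  have i : ∀ g, MulAut.conj g ∈ Cfsg.Inn Cfsg.Spor.Ly := fun g => ⟨g, rfl⟩
  refine (mul_mem_cancel_left (i c)).1 ((mul_mem_cancel_left (i k)).1 ?_)
  rcases key with e | e <;> rw [e]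
  exacts [one_mem _, i _]
end
end H28
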