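import Cfsg.Agent.H28.LyO
import Cfsg.Agent.H29.Pc3
import Cfsg.Agent.H8.Schur3
/-! The faithful model of degree 111 of the Lyons group. -/
set_option maxRecDepth 100000
set_option Elab.async false
namespace H28
open H27 Subgroup
noncomputable section
theorem lyRep_inj : Function.Injective lyRep := by
  have := ly_simple
  rw [← MonoidHom.ker_eq_bot_iff]
  refine (inferInstance : lyRep.ker.Normal).eq_bot_or_eq_top.resolve_right fun k => ?_
  refine H29.Model.ne_of (Dm.R_ev lyY_R [0]) a5111.gM.R_one (by decide +kernel) ?_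
  rw [← lyRep_ev]
  exact (k ▸ mem_top _ : _ ∈ lyRep.ker)
/-- the model -/
def lyMd : H29.Model Cfsg.Spor.Ly :=
  a5111.model ((Units.coeHom _).comp lyRep) (Units.val_injective.comp lyRep_inj)
theorem lyMd_in {c : Nat} (h : a5111.gM.In (a5111.gM.cl lyC111) c) : lyMd.In ⊤ c := by
  obtain ⟨g, hg, e⟩ := h
  rw [Dm.cl_eq lyY_len lyY_R, ← lyRep_range] at hg
  obtain ⟨x, rfl⟩ := hg
  exact ⟨x, trivial, e⟩
theorem lyMd_low {L L' ws : List Nat} {m : Nat} (h : ∀ c ∈ L, a5111.gM.In (a5111.gM.cl lyC111) c)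
    (hw : H29.wdsOK a5111.mul a5111.one L' ws L = true)
    (hm : (∀ c ∈ L', a5111.gM.In ⊤ c) → m ≤ Nat.card (a5111.gM.cl L')) : m ≤ Nat.card (lyMd.cl L) := by
  have := a5111.finGL
  have h1 := H29.in_of_slpW (M := a5111.gM) 0 (ab := 0) (H29.in_cl_self fun c hc => (h c hc).mono le_top) hw
  refine (hm fun c hc => (h1 c hc).mono le_top).trans ((card_le_of_le (H29.Model.cl_le h1)).trans ?_)
  rw [← card_map_of_injective lyRep_inj]
  refine card_le_of_le (H29.Model.cl_le fun c hc => ?_)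
  obtain ⟨x, -, e⟩ := lyMd_in (h c hc)
  exact ⟨_, mem_map_of_mem _ (H29.Model.mem_cl hc e), e⟩

theorem sbd_of_sub {G : Type} [Group G] {p : ℕ} (hp : p.Prime) {L : Subgroup G} [Finite L] (h : ¬ p ∣ L.index)
    (hL : Group.IsPerfect L) (hM : Cfsg.HasCyclicSchurMultiplier L 1) : H29.SBd p 0 G := by
  intro A _ hA
  obtain ⟨Γ, _, _, τ, hσ, ⟨e⟩⟩ := hA.1
  haveI := H8.hasSchur_finite hA
  refine H29.not_dvd_of_tails (a := 0) hp h [] (fun y => ?_) (by simp)
  have h1 := H29.pow_mem_of_transfer hσ (L.comap τ) (e.symm y).2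
  rw [map_comap_eq_self_of_surjective hσ.1, ← map_subtype_commutator] at h1
  obtain ⟨m, hm, h1⟩ := h1
  let ε := τ.subgroupComap L
  have e1 : Function.Surjective ε := τ.subgroupComap_surjective_of_surjective L hσ.1
  have e2 : ε.ker ≤ center _ := fun a ha => Subgroup.mem_center_iff.2 fun b =>
    Subtype.ext (Subgroup.mem_center_iff.1 (hσ.2.1 (congrArg Subtype.val ha)) b)
  have hC := H8.perfect_commutator_of_central hL e1 e2
  have e4 : (ε.comp (_root_.commutator _).subtype).ker ≤ center _ := fun a ha =>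
    Subgroup.mem_center_iff.2 fun b => Subtype.ext (Subgroup.mem_center_iff.1 (e2 ha) b)
  have e5 := H8.hasSchur_one_iff.1 hM _ _
    ⟨H8.commutator_surj_of_perfect hL e1, e4, fun _ _ => Group.IsPerfect.mem_commutator⟩
  have e6 : (⟨m, hm⟩ : _root_.commutator _) ∈ (ε.comp (_root_.commutator _).subtype).ker :=
    Subtype.ext ((congrArg τ h1).trans (pow_mem (e.symm y).2 _ : _ ∈ τ.ker))
  rw [e5, mem_bot, Subtype.ext_iff] at e6
  have h2 : y ^ L.index = 1 := e.symm.injective (Subtype.ext (by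
    rw [map_pow, map_one, coe_pow, ← h1, show m = 1 from e6]; rfl))
  rw [h2]; exact one_mem _
end
end H28
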