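import Cfsg.Agent.H28.LyS
import Cfsg.Agent.H28.Dm5
import Cfsg.Agent.H13.Cnt
/-! Centralisers in the Lyons group through fixed points. -/
set_option maxRecDepth 100000
set_option Elab.async false
namespace H28
open H27 Subgroup MulAction
noncomputable section
/-- the model of `G₂(5)` -/
def lyMK : H29.Model (cl lyY7) :=
  a57.model ((Units.coeHom _).comp (cl lyY7).subtype) (Units.val_injective.comp Subtype.val_injective)
theorem lyMK_R (i : Nat) : lyMK.R (H29.lgetD lyMK.one lyC7 i) ((subL lyY7).getD i 1) := by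
  have := lyY7_R i
  rw [← ev_single, ← coe_ev_subL, ev_single] at this
  exact this
theorem lyMK_u (a b : Nat) (g : cl lyY7) (h : lyMK.R a g) (h' : lyMK.R b g) : a = b := h.trans h'.symm
def lyPr (p τ c : Nat) : Bool :=
  and' (Nat.beq (H29.pw a57.mul a57.one c p) a57.one) (Nat.beq (Dm.trN 5 14 7 c) τ)
theorem lyPr_conj {p τ a : Nat} (hp : p < 2 ^ 64) {t : cl lyY7} (ha : lyMK.R a t) (h : lyPr p τ a = true) (c : Nat)
    (g : cl lyY7) (hc : lyMK.R c g) (e : IsConj t g) : lyPr p τ c = true := by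
  simp only [lyPr, and'_eq, Bool.and_eq_true, beq_iff] at h ⊢
  obtain ⟨k, rfl⟩ := isConj_iff.1 e
  have h1 : t ^ p = 1 := lyMK.unique (lyMK.R_pw ha p hp) (h.1.trans lyMK.R_one)
  refine ⟨lyMK_u _ _ _ (lyMK.R_pw hc p hp) (by rw [conj_pow, h1, mul_one, mul_inv_cancel]; exact lyMK.R_one), ?_⟩
  rw [← h.2, show c = H29.code 14 _ from hc, show a = H29.code 14 _ from ha, Dm.trN_code (by decide),
    Dm.trN_code (by decide)]
  exact congrArg _ (Matrix.trace_units_conj k.1 _)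
theorem lyK_inv : ∀ a, (subL lyY7).getD a 1 * (subL lyY7).getD (Nat.xor a 1) 1 = 1 :=
  Dm.inv_xor (k := 4) (by simp [subL, lyY7_len]) (R := lyk_R)
    (fun w hw => Subtype.ext ((coe_ev_subL _ _).trans (lyY7_rels w hw))) (by decide +kernel)
theorem ly_cent {w : List Nat} (hw : ∀ g ∈ w, g < 8) {X : List Nat} {Uw Hw : List (List Nat)}
    {T p τ n m k2 k3 k4 f2 f3 f4 N : Nat} {U2 V2 U3 V3 U4 V4 : List (List Nat)} {T2 T3 T4 : Nat}
    (h0 : lyPr p τ (H29.prodL a57.mul a57.one (H29.lgetD a57.one lyC7) w) = true)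
    (h1 : Nat.beq (Nat.lor (Dm.mvK 15 19530 lyN w 15) (orL X)) (ones 19530) = true)
    (h2 : fix0Chk lyN Uw = true) (h3 : fix0Chk lyN (mapL (Dm.cjw w) Hw) = true)
    (h4 : Dm.conjChk a57.mul a57.one lyC7 w Uw Hw T n = true)
    (e2 : Dm.enumChk a57.mul a57.one lyC7 (mapL Prod.snd lydV2.S) U2 V2 T2 6047 k2 (lyPr p τ) = true)
    (e3 : Dm.enumChk a57.mul a57.one lyC7 (mapL Prod.snd lydV3.S) U3 V3 T3 2879 k3 (lyPr p τ) = true)
    (e4 : Dm.enumChk a57.mul a57.one lyC7 (mapL Prod.snd lydV4.S) U4 V4 T4 1007 k4 (lyPr p τ) = true)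
    (h : p < 2 ^ 64 ∧ X.length * 300000 ≤ m * (n + 1) ∧ m * k2 ≤ f2 * 6048 ∧ m * k3 ≤ f3 * 2880 ∧ m * k4 ≤ f4 * 1008 ∧
      (X.length + (f2 + (f3 + f4)) + 1) * m ≤ N) : Nat.card (centralizer {ev lyX w}) ≤ N := by
  obtain ⟨V, el, D⟩ := lyd_data.{0}
  obtain ⟨π, hπ, hG, cov⟩ := D.main (xs := lyX) rfl (ly_need _ _ rfl ly_rels) (H := lyH) fun w hw => mem_cl (List.mem_map_of_mem hw)
  have : Finite (cl lyY7) := Nat.finite_of_card_ne_zero (by rw [lyY7_card]; norm_num)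
  have hr : π.range = lyH := by rw [range_eq_cl π (cl_subL _), hπ]; rfl
  have inj : Function.Injective π := fun a b e => (π.rangeRestrict_surjective.bijective_of_nat_card_le
    (by rw [hr, lyH_card, lyY7_card])).1 (Subtype.ext e)
  have a := actsL_pts (n := 19530) lyN_ex.choose_spec lyN_val
  have ij := injOn_pts (n := 19530) lyN_ex.choose
  have st := stab_eq_of_le ij a (cl_subL _) (by norm_num) (trans_of_chk a (k := 5) (by decide +kernel))
    (m := 300000) lyY7_card (S := mapL Prod.snd lydV1.S) (by decide +kernel) lyd_c1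
  have cs := card_stab_of_trans ij a (cl_subL _) (by norm_num) (trans_of_chk a (k := 5) (by decide +kernel))
    (m := 300000) lyY7_card
  set t := ev (subL lyY7) w with ht
  have b1 := H13.Cnt.n_fix (pts lyN_ex.choose 0) t
  have b2 := Dm.fix_le a ij (cl_subL _) lyN_val (by norm_num) X h1
  have b3 := Dm.conj_ge (M := lyMK) lyMK_u lyMK_R lyK_inv Uw Hw T (words_le_stab a (by norm_num) h2)
    (words_le_stab a (by norm_num) h3) h4
  have b4 : Nat.card {k : cl lyY7 // k⁻¹ * t * k ∈ stabilizer (cl lyY7) (pts lyN_ex.choose 0)} ≤ X.length * 300000 := by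
    rw [b1, cs]; exact Nat.mul_le_mul_right _ b2
  have hm : Nat.card (centralizer ({t} : Set (cl lyY7))) ≤ m := by
    rw [H13.Cnt.n_conj] at b4
    exact Nat.le_of_mul_le_mul_right (((Nat.mul_le_mul_left _ b3).trans b4).trans h.2.1) (Nat.succ_pos n)
  have q : ∀ {Sw U V : List (List Nat)} {T c k f : Nat},
      Dm.enumChk a57.mul a57.one lyC7 Sw U V T c k (lyPr p τ) = true → m * k ≤ f * (c + 1) →
      Nat.card (cl (Sw.map (ev (subL lyY7)))) = c + 1 →
      Nat.card {k : cl lyY7 // k⁻¹ * t * k ∈ cl (Sw.map (ev (subL lyY7)))} ≤ f * (c + 1) := fun e l c => by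
    rw [H13.Cnt.n_conj]
    exact (Nat.mul_le_mul hm (Dm.enum_le (M := lyMK) lyMK_u lyMK_R _ _ _
      (lyPr_conj h.1 (Dm.R_ev lyMK_R w) h0) e c)).trans l
  have := H13.Cnt.cent_cover π hr inj lydV _ (fun r => cl ((mapL Prod.snd r.S).map (ev (subL lyY7)))) Dm.Vr.c
    (fun r => nth 0 [0, X.length, f2, f3, f4] r.i) (fun r hr => ⟨fun s hs =>
      (cl_le (Dm.v_stab D.kd hG (D.vok r hr).1) : _ ≤ stabilizer (cl lyY7) (α := Via π (_ ⧸ lyH)) _) hs,
      (by decide +kernel : ∀ r ∈ lydV, 0 < r.c) r hr, (D.vok r hr).2,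
      lyY7_card ▸ (by decide +kernel : ∀ r ∈ lydV, r.c ∣ 5859000000) r hr⟩)
    (fun g => cov g (ly_top ▸ mem_top g)) (by rw [lyH_index, lyY7_card]; decide +kernel) t
    (List.forall_mem_cons.2 ⟨fun _ => st ▸ b4, List.forall_mem_cons.2 ⟨q e2 h.2.2.1, List.forall_mem_cons.2
      ⟨q e3 h.2.2.2.1, List.forall_mem_cons.2 ⟨q e4 h.2.2.2.2.1, fun _ h => by cases h⟩⟩⟩⟩)
  rw [ht, ← ev_map, hπ, Dc.ev_expand_gens (k := lydQ.nk) _ hw] at this
  exact this.trans ((Nat.mul_le_mul_left _ hm).trans h.2.2.2.2.2)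
end
end H28
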