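import Cfsg.Agent.H28.Pg23a
import Cfsg.Agent.H28.Dm3
import Cfsg.Agent.H29.J4c2
import Cfsg.Agent.H22.Linear
/-! The subgroup `PGL(2,23)` of the fourth Janko group. -/
set_option maxRecDepth 100000
set_option Elab.async false
namespace H28.Pg23
open H27 Subgroup
noncomputable section
def chk (mul : Nat → Nat → Nat) (eqb : Nat → Nat → Bool) (one : Nat) (L w1 w2 w3 r s : List Nat) : Bool :=
  (force (H29.prodL mul one (H29.lgetD one L) w1) fun x => H29.ordOK mul eqb one x 23 [23]) &&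
  ((force (H29.prodL mul one (H29.lgetD one L) w2) fun x => H29.ordOK mul eqb one x 11 [11]) &&
  ((force (H29.prodL mul one (H29.lgetD one L) w3) fun x => H29.ordOK mul eqb one x 3 [3]) &&
  ((force (H29.prodL mul one (H29.lgetD one L) r) fun x => H29.ordOK mul eqb one x 8 [2]) &&
  (eqb (H29.prodL mul one (H29.lgetD one L) (s ++ s)) one &&
  (eqb (H29.prodL mul one (H29.lgetD one L) (s ++ r ++ s ++ r)) one &&
  !eqb (H29.prodL mul one (H29.lgetD one L) (s ++ r)) (H29.prodL mul one (H29.lgetD one L) (r ++ s)))))))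
theorem od {G : Type} [Group G] {M : H29.Model G} {L : List Nat} {ys : List G}
    (h : ∀ i, M.R (H29.lgetD M.one L i) (ys.getD i 1)) (w : List Nat) (n p k : Nat) (hp : p.Prime) (e : n = p ^ k)
    (lt : n < 2 ^ 64) (c : H29.ordOK M.mul M.eqb M.one (H29.prodL M.mul M.one (H29.lgetD M.one L) w) n [p] = true) :
    orderOf (ev ys w) = n :=
  H29.orderOf_of_ordOK (Dm.R_ev h w) c (e ▸ pow_pos hp.pos _) lt fun q hq d => by
    rw [(Nat.prime_dvd_prime_iff_eq hq hp).1 (hq.dvd_of_dvd_pow (e ▸ d))]; exact List.mem_singleton_self _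
theorem arith (n : Nat) (h0 : 0 < n) (hle : n ≤ 12144) (d1 : 23 ∣ n) (d2 : 11 ∣ n) (d3 : 3 ∣ n) (d4 : 16 ∣ n) :
    n = 12144 := by
  have a : 23 * 11 ∣ n := Nat.Coprime.mul_dvd_of_dvd_of_dvd (by norm_num) d1 d2
  have b : 3 * 16 ∣ n := Nat.Coprime.mul_dvd_of_dvd_of_dvd (by norm_num) d3 d4
  have c : 23 * 11 * (3 * 16) ∣ n := Nat.Coprime.mul_dvd_of_dvd_of_dvd (by norm_num) a b
  exact le_antisymm hle (le_of_eq_of_le (by norm_num) (Nat.le_of_dvd h0 c))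
theorem side {G : Type} [Group G] {M : H29.Model G} {L w1 w2 w3 wr ws : List Nat} {ys : List G}
    (h : ∀ i, M.R (H29.lgetD M.one L i) (ys.getD i 1)) (hl : ys.length = 3) (hR : Rels ys pg23_R)
    (hc : chk M.mul M.eqb M.one L w1 w2 w3 wr ws = true) : Nat.card (cl ys) = 12144 := by
  simp only [chk, force_eq, Bool.and_eq_true, Bool.not_eq_true'] at hc
  obtain ⟨c1, c2, c3, c4, c5, c6, c7⟩ := hc
  obtain ⟨hf, hle⟩ := pg23_pres G ys hl hR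
  have dv : ∀ w, orderOf (ev ys w) ∣ Nat.card (cl ys) := fun w => Subgroup.orderOf_dvd_natCard _ (ev_mem_cl _ _)
  have d1 := dv w1
  rw [od h w1 23 23 1 (by norm_num) (by norm_num) (by norm_num) c1] at d1
  have d2 := dv w2
  rw [od h w2 11 11 1 (by norm_num) (by norm_num) (by norm_num) c2] at d2
  have d3 := dv w3
  rw [od h w3 3 3 1 (by norm_num) (by norm_num) (by norm_num) c3] at d3
  have o8 := od h wr 8 2 3 Nat.prime_two (by norm_num) (by norm_num) c4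
  have e5 : ev ys (ws ++ ws) = 1 := M.eq_of (Dm.R_ev h _) M.R_one c5
  have e6 : ev ys (ws ++ wr ++ ws ++ wr) = 1 := M.eq_of (Dm.R_ev h _) M.R_one c6
  have e7 : ev ys (ws ++ wr) ≠ ev ys (wr ++ ws) := M.ne_of (Dm.R_ev h _) (Dm.R_ev h _) c7
  simp only [ev_append] at e5 e6 e7
  have m1 := ev_mem_cl ys wr
  have m2 := ev_mem_cl ys ws
  generalize ev ys wr = r at o8 e6 e7 m1
  generalize ev ys ws = s at e5 e6 e7 m2
  have d4 : 16 ∣ Nat.card (cl ys) := by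
    let r' : cl ys := ⟨r, m1⟩
    let s' : cl ys := ⟨s, m2⟩
    have hr : Nat.card (zpowers r') = 2 ^ 3 := by rw [Nat.card_zpowers, Subgroup.orderOf_mk, o8]; rfl
    have hs : IsPGroup 2 (zpowers s') := IsPGroup.of_card_dvd_pow (n := 1) (by
      rw [Nat.card_zpowers]; exact orderOf_dvd_of_pow_eq_one (Subtype.ext (by simpa [s', sq] using e5)))
    have cj : s' * r' * s'⁻¹ = r'⁻¹ := Subtype.ext (by
      change s * r * s⁻¹ = r⁻¹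
      rw [inv_eq_of_mul_eq_one_right e5, eq_inv_iff_mul_eq_one, e6])
    have hn : zpowers s' ≤ normalizer (zpowers r' : Set (cl ys)) := zpowers_le.2 (mem_normalizer_fintype (by
      rintro _ ⟨k, rfl⟩
      rw [← conj_zpow, cj]
      exact zpow_mem (inv_mem (mem_zpowers _)) _))
    have : Fact (Nat.Prime 2) := ⟨Nat.prime_two⟩
    obtain ⟨k, hk⟩ := ((hs.to_sup_of_normal_right' (IsPGroup.of_card hr) hn)).exists_card_eq
    refine Dvd.dvd.trans (hk ▸ pow_dvd_pow 2 (show 4 ≤ k from ?_)) (card_subgroup_dvd_card _)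
    by_contra lt
    have := eq_of_le_of_card_ge (le_sup_right (a := zpowers s') (b := zpowers r'))
      (by rw [hk, hr]; exact Nat.pow_le_pow_right (by norm_num) (by omega))
    obtain ⟨j, hj⟩ : s' ∈ zpowers r' := this.ge (mem_sup_left (mem_zpowers _))
    exact e7 (congrArg Subtype.val (show s' * r' = r' * s' from hj ▸ (Commute.refl r').zpow_left j))
  exact arith _ Nat.card_pos hle d1 d2 d3 d4
abbrev Mt := Matrix (Fin 2) (Fin 2) (ZMod 23)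
abbrev GG := GL (Fin 2) (ZMod 23)
def dec (c : Nat) : Mt := fun i j => (c / 23 ^ (2 * i.1 + j.1) % 23 : Nat)
def enc (A : Mt) : Nat := (A 0 0).val + (A 0 1).val * 23 + (A 1 0).val * 529 + (A 1 1).val * 12167
theorem dec_enc (A : Mt) : dec (enc A) = A := by
  have := ZMod.val_lt (A 0 0); have := ZMod.val_lt (A 0 1); have := ZMod.val_lt (A 1 0); have := ZMod.val_lt (A 1 1)
  ext i j
  rw [← ZMod.natCast_zmod_val (A i j)]
  refine congrArg Nat.cast ?_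
  fin_cases i <;> fin_cases j <;> simp only [enc, Fin.zero_eta, Fin.mk_one, Fin.val_zero, Fin.val_one] <;> norm_num <;> omega
def Mp : H29.Model (GG ⧸ center GG) where
  R c g := ∃ A : GG, dec c = A.1 ∧ (A : GG ⧸ center GG) = g
  one := enc 1
  mul a b := force a fun a => force b fun b => enc (dec a * dec b)
  eqb a b := force a fun a => force b fun b => decide (∃ x : ZMod 23, x • dec a = dec b)
  R_one := ⟨1, dec_enc 1, rfl⟩
  R_mul := by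
    rintro a b _ _ ⟨A, h1, rfl⟩ ⟨B, h2, rfl⟩
    exact ⟨A * B, by rw [force_eq, force_eq, dec_enc, h1, h2]; rfl, rfl⟩
  eqb_iff := by
    rintro a b _ _ ⟨A, h1, rfl⟩ ⟨B, h2, rfl⟩
    rw [force_eq, force_eq, decide_eq_true_iff, h1, h2, QuotientGroup.eq,
      Matrix.GeneralLinearGroup.mem_center_iff_val_mem_range_scalar]
    refine exists_congr fun x => ?_
    rw [Units.val_mul, Units.eq_inv_mul_iff_mul_eq, Matrix.scalar_apply, ← Matrix.smul_eq_mul_diagonal]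
def gA : GG := ⟨!![1, 0; 5, 22], !![1, 0; 5, 22], by decide +kernel, by decide +kernel⟩
def gB : GG := ⟨!![0, 22; 1, 1], !![1, 1; 22, 0], by decide +kernel, by decide +kernel⟩
def ys : List (GG ⧸ center GG) := [gA, gB, (gB⁻¹ : GG)]
theorem ys_R (i : Nat) : Mp.R (H29.lgetD Mp.one [enc gA.1, enc gB.1, enc gB.2] i) (ys.getD i 1) :=
  match i with
  | 0 => ⟨gA, dec_enc gA.1, rfl⟩
  | 1 => ⟨gB, dec_enc gB.1, rfl⟩
  | 2 => ⟨gB⁻¹, dec_enc gB.2, rfl⟩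
  | _ + 3 => Mp.R_one
theorem ys_rels : Rels ys pg23_R := fun w hw => Mp.eq_of (Dm.R_ev ys_R w) Mp.R_one
  ((by decide +kernel : ∀ w ∈ pg23_R, Mp.eqb (H29.prodL Mp.mul Mp.one (H29.lgetD Mp.one [enc gA.1, enc gB.1, enc gB.2]) w)
    Mp.one = true) w hw)
theorem ys_chk : chk Mp.mul Mp.eqb Mp.one [enc gA.1, enc gB.1, enc gB.2] [2, 0, 1, 0, 1, 0, 1, 0] [2, 0, 1, 0] [1] [1, 0, 1, 0, 1, 0] [2, 0, 2, 0, 1, 0, 2, 0, 1, 0, 2, 0, 1, 0, 2, 0, 1, 0, 1] = true := by decide +kernel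
theorem ys_card : Nat.card (cl ys) = 12144 := side ys_R rfl ys_rels ys_chk
theorem ys_top : cl ys = ⊤ := by
  have : Fact (Nat.Prime 23) := ⟨by norm_num⟩
  have h := H22.card_units_mul_card_PGL (F := ZMod 23) (ι := Fin 2)
  rw [Matrix.card_GL_field, Nat.card_units, Nat.card_zmod, ZMod.card, Fin.prod_univ_two] at h
  have h' : Nat.card (GG ⧸ center GG) = 12144 := by
    change 22 * Nat.card (GG ⧸ center GG) = 267168 at h
    omega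
  have : Finite (GG ⧸ center GG) := Nat.finite_of_card_ne_zero (by omega)
  exact eq_top_of_card_eq _ (ys_card.trans h'.symm)
open H29.J4m H7.J4
def cA : Nat := nat_lit 0x5ab9218717350c0956394465afe18506e57acd6a64c31fb9150d42488fb5741cf9b35f43fb6949993ac5396fb796af70e13386e66c56876b3e5cc5d4ed82cc11732af54ed49f1d1aef232e20708a6326b0dfa9787ad30b6328b0a08f7d9e0f92bd55623dab0cc9e954fac153599f42907335fc6abc3a201c45fb6bc0907493c80d4bda4d7bb88a06d36835b4e9248a7559cfedc22d6e9f575128f35d60151982fde0b9a06d4f54ff53457d23f5ba040eefcba872413a054d79f22ceab852111d60e6dd6a883f52b3fab73cb0d6ce58d0a69c4ddbff6d8bcc8755e0479b8b34ca7340d9c3eb014104e7d6c0c08aec8b63de79a17a26c2298953595f29e334412c254629316957630cea09f2f71494fa5a79c7ccd58111270946b99e128c6aa2663e24f3247a98274631ab10fd2ba09b79f389a242cdf96cdb90bd7ca514158fb7266fe72510fe2b7601a79ac92625edd37c6f8b982503632a1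789ad17e82a0085356c125ccd7e84360da17e2e4f143d4d20a7b2b9e6bf07e2df229cdb24177259968bdf9615adf0cb386343262ab7e0ee4dafa2de766cc705d6dffdd1c1d5909f2554fc2e68738373652cd08ea7e106b63a3c6f62b4c98c3be8059b8b5181b07f02149c8a505233481478257e44955a019a171e5be13688a58c81671b59e9774a1302886b1ca15496157b0fd75cd886d85efc733e654e618486945018a68c8644d8a386e46d59fc9fa0b4194fe2395f3ae33482dbc81ee12a8a3ff6e64591a54758d77ce93721bdc80e549b0c328afe111e04f161a618640e1c4554783c021448050d40b815fdf763253422dce60302659eff4ec5a479c53c0400c41fa270eb525db8f7bfb0f47811325755282ad771df4dc6a83783bb2ffb65529563e69b08169c3b580f6597443d26c35025a591abdfea891d01d0da27eaeffaf83c670f206e4a280173ea834d361aba8b9033f08c5bab3799a8d3aed0e5eb120fbac3bcb3544cafb14fdc258e064705bb69e531f641b2b582ea2cec20c283b8256d13b47a73649e9f3044685ea714ecc593f0ccfa43899e878c3bc30ac8fe035fb5bcb93a5a2d1b35c506f84d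aec9cb0ec060c38448e85dff0f635defd03ee65bcde01bc3a7fa2b7538a1934886bb23febfb816c35b02a0ed831e772458933451738d1d97da4bf4d3513428356f30d45fc16b8e9f0736b2190748419ee293292206f2f9e56cfbcb929b620a58cfd7bb4e05c899af67c9bb41fc7eae1f96bb9525e6c6fe5a1bb728240a786ddfb0f9975a26991a7bc3a37dc69669403b9040a9e1c62026ae992c7054d97608f6bd7901e45ad2b989e110aed0df5de6b69285d2cf589f7715e729170f1de9dc6c97206c4cf541d73a5e9d5c7313e0e1cec34e21570a3b6ed89579b400bd065db5236a869b704ad9c2e1aa590e1169a130581b2e0a53f890cd63ab637f6b4f71f53efc8dbafd6252d6f4f286acd85f84e671a8e67d4a9d41ec0ab6a9955767065b12a0f333354a030f1d6aef3aece6e728149a1fc7cb67b599c3cc4a5160dd39736b2ac146c06f10b01b3b9e6b55170a003ea15ca5ec90a516e4ca2adcc2e7bedd9713d3356964cdbea2f1c4995be87afda23786120a3506bad65b89bdb9d49b5bb12a7c0ad526516d2f1f7456804d8bf7d58aa091c77c48640196acc0751dd1525def24e1ecaf3ffc1572a7ade5819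174ce79bf5dc25923f6c4c43440a71422bcf0328c96ca8fe7c78502d62d8130d0d83397923cc2f318fc818d19f1087c0f412e54998873920b8f059097cfc1e14df4a3829ec814035938085369222db1fc3f5f23ffe3c334e98de2d338b222aa8a9996b173d7a0b1bc12563dff89295507977c73960b3f246c2426941f719b62d2ff54758c971383d989b8617983e91b23e89505f7aa5ea4130e094d75e37538031eb637d9697fd0451ae87ef42d9675abcdc41ca9e82d9581d73c0195573ff68b3924dfef52cbb311b1a9e106018ce24bc074110e1830830f58c11e5bae05a0a435c8d3a57ec2557158d1df57284020400209c886798d1ec1a7dd76f7fd2a902276f438a2873c2cb038a85a766548ee9276d5225bcdb76e6ec6d06f287fa701b928612380d3feb87f91a664b93fc84caf18c2281718ff19d797fb467abc78b67cece36a36413e780df9213ce9fc87935ebb11b2f71aed0b0d4f314ba3b9f4e6dee94e47309a39fc78887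
theorem cA_eq : H29.prodL kmul kone (H29.lgetD kone L1) [3, 1, 3, 0, 1, 3, 0, 3, 1, 3, 2, 0, 3, 1, 3, 0, 3, 2, 3, 0, 1, 3, 2, 3, 0, 3, 2, 0, 3, 2, 3] = cA := by decide +kernel
theorem j_r0 : H29.relsZ kmul kone [cA, cy, cY] [kone] [[0, 0], [1, 2], [2, 1], [1, 1, 1], [0, 1, 0, 1, 0, 2, 0, 1, 0, 1, 0, 2, 0, 2, 0, 1, 0, 1, 0, 2, 0, 1, 0, 1, 0, 2, 0, 2], [0, 1, 0, 1, 0, 1, 1, 0, 2, 0, 1, 0, 1, 0, 2, 0, 1, 0, 1, 0, 2, 0, 2, 0, 1, 0, 1, 0, 2], [0, 1, 0, 1, 0, 1, 1, 0, 1, 0, 1, 0, 2, 0, 2, 0, 1, 0, 1, 0, 2, 0, 1, 0, 1, 0, 2, 0, 2]] = true := by decide +kernel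
theorem j_r1 : H29.relsZ kmul kone [cA, cy, cY] [kone] [[0, 1, 0, 1, 0, 1, 1, 0, 2, 0, 1, 0, 2, 0, 2, 0, 1, 0, 1, 0, 2, 0, 2, 0, 1, 0, 2, 0, 2], [0, 1, 0, 1, 0, 2, 0, 1, 0, 1, 0, 2, 0, 1, 1, 0, 1, 0, 1, 0, 2, 0, 1, 0, 1, 0, 2, 0, 2], [0, 1, 0, 1, 0, 2, 0, 1, 0, 1, 0, 2, 0, 2, 0, 2, 2, 0, 1, 0, 2, 0, 1, 0, 1, 0, 2, 0, 2], [0, 1, 0, 1, 0, 1, 1, 0, 2, 0, 1, 0, 2, 0, 2, 0, 1, 0, 1, 0, 1, 1, 0, 2, 0, 1, 0, 2, 0, 2], [0, 1, 0, 1, 0, 1, 1, 0, 2, 0, 1, 0, 1, 0, 2, 0, 1, 0, 1, 0, 1, 1, 0, 2, 0, 1, 0, 1, 0, 2], [0, 1, 0, 1, 0, 2, 0, 2, 0, 1, 0, 2, 0, 1, 1, 0, 1, 0, 1, 0, 2, 0, 2, 0, 1, 0, 2, 0, 1, 1], [0, 1, 0, 1, 0, 1, 1, 0, 1, 0, 1, 0, 2, 0, 2, 0, 1, 0, 1, 0, 1, 1, 0, 1, 0, 1, 0, 2, 0, 2]] = true := by decide +kernel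
theorem j_r2 : H29.relsZ kmul kone [cA, cy, cY] [kone] [[0, 1, 0, 1, 0, 2, 0, 1, 0, 1, 0, 2, 0, 1, 1, 0, 1, 0, 1, 0, 2, 0, 1, 0, 1, 0, 2, 0, 1, 1], [0, 1, 0, 1, 0, 1, 0, 2, 0, 1, 0, 1, 0, 2, 0, 2, 0, 1, 0, 2, 0, 2, 0, 2, 0, 1, 0, 2, 0, 2, 0, 1, 0, 1, 0, 2], [0, 1, 0, 1, 0, 1, 0, 2, 0, 1, 0, 1, 0, 1, 1, 0, 2, 0, 1, 0, 2, 0, 2, 0, 2, 0, 1, 0, 2, 0, 2, 0, 1, 0, 1, 0, 2], [0, 1, 0, 1, 0, 1, 0, 2, 0, 1, 0, 1, 0, 2, 0, 1, 1, 0, 1, 0, 2, 0, 2, 0, 2, 0, 1, 0, 2, 0, 2, 0, 1, 0, 1, 0, 2], [0, 1, 0, 1, 0, 1, 0, 2, 0, 1, 0, 1, 0, 2, 0, 2, 0, 1, 0, 2, 0, 2, 0, 2, 0, 1, 0, 2, 0, 1, 1, 0, 1, 0, 1, 0, 2], [0, 1, 0, 1, 0, 1, 0, 2, 0, 1, 0, 1, 0, 1, 1, 0, 2, 0, 1, 0, 2, 0, 2, 0, 2, 0, 1, 0, 2, 0, 2, 0, 2, 2, 0, 1, 0, 2], [0, 1, 0, 1, 0, 1, 0, 2, 0, 1, 0, 1, 0, 2, 0, 1, 1, 0, 1, 0, 2, 0, 2, 0, 2, 0, 1, 0, 2, 0, 2, 0, 1, 0, 2, 2, 0, 2]] = true := by decide +kernel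
theorem j_r3 : H29.relsZ kmul kone [cA, cy, cY] [kone] [[0, 1, 0, 1, 0, 1, 0, 1, 0, 1, 0, 1, 0, 2, 0, 1, 0, 2, 0, 1, 0, 2, 0, 2, 0, 2, 0, 2, 0, 2, 0, 2, 0, 1, 0, 2, 0, 1, 0, 2], [0, 1, 0, 1, 0, 1, 0, 1, 0, 1, 0, 2, 0, 1, 0, 1, 0, 1, 0, 1, 0, 1, 0, 2, 0, 2, 0, 2, 0, 1, 0, 2, 0, 1, 0, 2, 0, 2, 0, 2], [0, 1, 0, 1, 0, 1, 0, 1, 0, 2, 0, 2, 0, 1, 0, 1, 0, 1, 0, 2, 0, 1, 0, 1, 0, 1, 0, 1, 0, 2, 0, 2, 0, 1, 0, 1, 0, 1, 0, 2], [0, 1, 0, 1, 0, 1, 0, 1, 0, 2, 0, 2, 0, 2, 0, 2, 0, 1, 0, 1, 0, 2, 0, 2, 0, 2, 0, 1, 0, 2, 0, 1, 0, 1, 0, 1, 0, 2, 0, 2]] = true := by decide +kernel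
theorem j_chk : chk kmul Nat.beq kone [cA, cy, cY] [2, 0, 1, 0, 1, 0, 1, 0] [2, 0, 1, 0] [1] [1, 0, 1, 0, 1, 0] [2, 0, 2, 0, 1, 0, 2, 0, 1, 0, 2, 0, 1, 0, 2, 0, 1, 0, 1] = true := by decide +kernel
theorem pgl : ∃ K : Subgroup Cfsg.Spor.J4, Nonempty (↥K ≃* GL (Fin 2) (ZMod 23) ⧸ Subgroup.center (GL (Fin 2) (ZMod 23))) := by
  obtain ⟨M, ⟨e1, e2, e3⟩, h⟩ := j4_model'
  have h1 := Dm.R_ev (R_getD h) [3, 1, 3, 0, 1, 3, 0, 3, 1, 3, 2, 0, 3, 1, 3, 0, 3, 2, 3, 0, 1, 3, 2, 3, 0, 3, 2, 0, 3, 2, 3]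
  rw [e1, e2, cA_eq] at h1
  obtain ⟨a, h1⟩ : ∃ a, M.R cA a := ⟨_, h1⟩
  have h2 : ∀ i, M.R (H29.lgetD M.one [cA, cy, cY] i) ([a, jy, jy⁻¹].getD i 1) :=
    R_getD (.cons h1 (.cons (R_getD h 1) (.cons (R_getD h 2) .nil)))
  have q0 := j_r0
  have q1 := j_r1
  have q2 := j_r2
  have q3 := j_r3
  rw [← e1, ← e2] at q0 q1 q2 q3
  have hR0 := Rels.append (Dm.rels_of_Z h2 q0) (Rels.append (Dm.rels_of_Z h2 q1) (Rels.append (Dm.rels_of_Z h2 q2) (Dm.rels_of_Z h2 q3)))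
  have hR : Rels [a, jy, jy⁻¹] pg23_R := by
    refine (congrArg (Rels [a, jy, jy⁻¹]) ?_).mp hR0
    decide +kernel
  have hk := j_chk
  rw [← e1, ← e2, ← e3] at hk
  have hc := side h2 rfl hR hk
  obtain ⟨φ, hφ⟩ := (Univ.of_pres pg23_pres rfl ys_rels ys_card.ge).hom (xs := [a, jy, jy⁻¹]) rfl hR
  have : Finite (cl ys) := Nat.finite_of_card_ne_zero (by rw [ys_card]; norm_num)
  have le : cl [a, jy, jy⁻¹] ≤ φ.range := cl_le fun g hg => by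
    obtain ⟨i, hi, rfl⟩ := List.getElem_of_mem hg
    exact ⟨_, (hφ [i]).trans ((ev_single _ _).trans (List.getD_eq_getElem _ _ hi))⟩
  have : Finite φ.range := .of_surjective _ φ.rangeRestrict_surjective
  have b := φ.rangeRestrict_surjective.bijective_of_nat_card_le (by rw [ys_card, ← hc]; exact card_le_of_le le)
  exact ⟨φ.range, ⟨(MulEquiv.ofBijective _ b).symm.trans ((MulEquiv.subgroupCongr ys_top).trans topEquiv)⟩⟩
end
end H28.Pg23
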