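import Cfsg.Agent.H28.Pr33b
import Cfsg.Agent.H7.Jh
import Cfsg.Agent.H9.Ps
/-! The reflection group `G33` is `2 × PSp(4,3)`. -/
set_option maxRecDepth 100000
namespace H28.Pr33
open H27 Subgroup H7J H9.Ps
noncomputable section
def g33m0 : H9.Ps.S4 := ⟨Matrix.fromBlocks !![1, 0; 0, 2] !![0, 0; 0, 0] !![0, 0; 0, 0] !![1, 0; 0, 2], by rw [SymplecticGroup.mem_iff]; decide +kernel⟩
def g33m1 : H9.Ps.S4 := ⟨Matrix.fromBlocks !![1, 0; 0, 2] !![0, 2; 1, 0] !![0, 0; 0, 0] !![1, 0; 0, 2], by rw [SymplecticGroup.mem_iff]; decide +kernel⟩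
def g33m2 : H9.Ps.S4 := ⟨Matrix.fromBlocks !![0, 0; 0, 0] !![0, 1; 2, 0] !![0, 2; 1, 0] !![0, 0; 0, 0], by rw [SymplecticGroup.mem_iff]; decide +kernel⟩
def g33m3 : H9.Ps.S4 := ⟨Matrix.fromBlocks !![0, 2; 2, 0] !![0, 2; 1, 0] !![0, 0; 0, 0] !![0, 2; 2, 0], by rw [SymplecticGroup.mem_iff]; decide +kernel⟩
def g33m4 : H9.Ps.S4 := ⟨Matrix.fromBlocks !![0, 0; 2, 0] !![0, 1; 2, 0] !![0, 2; 1, 0] !![0, 2; 0, 0], by rw [SymplecticGroup.mem_iff]; decide +kernel⟩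
def xs : List (ℤˣ × S4) := [(-1, g33m0), (-1, g33m1), (-1, g33m2), (-1, g33m3), (-1, g33m4)]
def ρ : ℤˣ × S4 →* Mt := (Matrix.symplecticGroup (Fin 2) (ZMod 3)).subtype.comp (MonoidHom.snd _ _)
def Φ : ℤˣ × S4 →* ℤˣ × Cfsg.PSp 2 (ZMod 3) := (MonoidHom.id _).prodMap (QuotientGroup.mk' _)
theorem key (w : List Nat) (y : ℤˣ × S4) (h : (ev xs w).1 = y.1 ∧ (dec (evN (fun a => ρ (xs.getD a 1)) w) = y.2.1 ∨
    dec (evN (fun a => ρ (xs.getD a 1)) w) = -y.2.1)) : ev (xs.map Φ) w = Φ y := by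
  rw [dec_evN] at h
  rw [ev_map]
  refine Prod.ext h.1 (h.2.elim (fun e => congrArg (QuotientGroup.mk' _) (Subtype.ext e)) fun e =>
    (QuotientGroup.mk'_eq_mk' _).2 ⟨⟨-1, SymplecticGroup.neg_mem (one_mem _)⟩,
      mem_center_iff.2 fun g => Subtype.ext (by simp), Subtype.ext ?_⟩)
  change ρ (ev xs w) * -1 = _
  rw [e]; simp
theorem rels : Rels (xs.map Φ) g33_R := fun w hw => (key w 1 ((by decide +kernel : ∀ w ∈ g33_R, (ev xs w).1 = 1 ∧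
  (dec (evN (fun a => ρ (xs.getD a 1)) w) = 1 ∨ dec (evN (fun a => ρ (xs.getD a 1)) w) = -1)) w hw)).trans (map_one _)
theorem ctop : cl (xs.map Φ) = ⊤ := by
  have k : ∀ w y, _ → Φ y ∈ cl (xs.map Φ) := fun w y h => key w y h ▸ ev_mem_cl _ w
  have h1 := top ((cl (xs.map Φ)).comap (Φ.comp (MonoidHom.inr _ _))) (k [3, 4, 1, 0, 2, 3, 4, 1, 2, 3, 4, 1, 0, 2, 1, 4] (1, ma * mb * mc) (by decide +kernel)) (by
    simp only [List.forall_mem_cons]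
    exact ⟨k [0, 1, 3, 4, 1, 0, 2, 3, 4, 1, 2, 3, 4, 1, 0, 2, 1, 4] (1, mc) (by decide +kernel), k [1, 4, 1, 0, 2, 3, 4, 2, 1, 0, 4, 2, 1, 4] (1, ms) (by decide +kernel), k [0, 4, 1, 0, 2, 3, 4, 1, 2, 1, 0, 3, 4, 2, 1, 4] (1, mu) (by decide +kernel),
      k [0, 1, 0, 2, 1, 3, 2, 4, 2, 3] (1, mq) (by decide +kernel), fun _ h => by cases h⟩)
  have h2 := k [0, 1, 0, 2, 3, 2, 4, 2, 1, 0, 3, 4, 1, 2, 3, 4, 2, 1, 0, 4, 1, 2, 3, 4, 2, 1, 4] (-1, 1) (by decide +kernel)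
  rw [eq_top_iff]
  rintro ⟨e, x⟩ -
  obtain ⟨y, rfl⟩ := QuotientGroup.mk'_surjective _ x
  have h3 : Φ (1, y) ∈ cl (xs.map Φ) := h1.ge (mem_top y)
  rcases Int.units_eq_one_or e with rfl | rfl
  · exact h3
  · have := mul_mem h2 h3
    rw [← map_mul, Prod.mk_mul_mk, mul_one, one_mul] at this
    exact this
theorem pres {F : Type*} [Field F] [Fintype F] (hF : Fintype.card F = 3) {Y : Type*} [Group Y] {s t u v w : Y}
    (r : R33 s t u v w) (n : s * t ≠ t * s) : ∃ f : Cfsg.PSp 2 F →* Y, Function.Injective f := by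
  have c2 : ∀ {a b : Y}, a * a = 1 → b * b = 1 → a * b = b * a → a * (b * (a * b)) = 1 := fun {a b} h1 h2 h3 => by
    rw [← mul_assoc b, ← h3, mul_assoc, h2, mul_one, h1]
  obtain ⟨φ, hφ⟩ := (Univ.of_pres g33_pres rfl rels (by
    rw [ctop, card_top, Nat.card_prod, card, Nat.card_eq_fintype_card]; decide)).hom (xs := [s, t, u, v, w]) rfl (by
    have := r.st; have := r.tu; have := r.uv; have := r.tw; have := r.uw; have := r.tr
    simp only [pow_succ, pow_zero, one_mul, mul_assoc] at *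
    simp only [Rels, g33_R, List.forall_mem_cons, ev_cons, ev_nil, mul_one, List.getD_cons_zero, List.getD_cons_succ]
    exact ⟨r.ss, r.tt, r.uu, r.vv, r.ww, ‹_›, ‹_›, ‹_›, ‹_›, ‹_›, c2 r.ss r.uu r.su, c2 r.ss r.vv r.sv, c2 r.ss r.ww r.sw,
      c2 r.tt r.vv r.tv, c2 r.vv r.ww r.vw, ‹_›, fun _ h => by cases h⟩)
  let f := (φ.comp ((MulEquiv.subgroupCongr ctop).trans topEquiv).symm.toMonoidHom).comp (MonoidHom.inr _ _)
  obtain ⟨e⟩ := iso hF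
  have := simple
  refine ⟨f.comp e.symm.toMonoidHom, Function.Injective.comp (g := f) ?_ e.symm.injective⟩
  refine (MonoidHom.ker_eq_bot_iff f).1 ((inferInstance : f.ker.Normal).eq_bot_or_eq_top.resolve_right fun k => n ?_)
  have h1 : ev [s, t, u, v, w] [0, 1, 0, 1] = 1 := by
    rw [← hφ, ← (k ▸ mem_top _ : (ev (xs.map Φ) [0, 1, 0, 1]).2 ∈ f.ker)]
    refine congrArg φ (Subtype.ext (Prod.ext ?_ rfl))
    exact (congrArg Prod.fst (ev_map Φ xs [0, 1, 0, 1])).trans (by decide +kernel : (ev xs [0, 1, 0, 1]).1 = 1)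
  simp only [ev_cons, ev_nil, mul_one, List.getD_cons_zero, List.getD_cons_succ] at h1
  rw [← mul_assoc, mul_eq_one_iff_eq_inv, mul_inv_rev, inv_eq_of_mul_eq_one_right r.ss, inv_eq_of_mul_eq_one_right r.tt] at h1
  exact h1
end
end H28.Pr33
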