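import Cfsg.Agent.H28.Pr33a
/-! Coded 4 × 4 matrices over the field with three elements. -/
namespace H28.Pr33
open H27
noncomputable section
abbrev Mt := Matrix (Fin 2 ⊕ Fin 2) (Fin 2 ⊕ Fin 2) (ZMod 3)
def ix : Fin 2 ⊕ Fin 2 → Nat := Sum.elim (fun i => i.1) fun i => 2 + i.1
def dec (c : Nat) : Mt := fun i j => (c / 3 ^ (4 * ix i + ix j) % 3 : Nat)
def enc (A : Mt) : Nat := (A (.inl 0) (.inl 0)).val * 1 + (A (.inl 0) (.inl 1)).val * 3 + (A (.inl 0) (.inr 0)).val * 9 + (A (.inl 0) (.inr 1)).val * 27 + (A (.inl 1) (.inl 0)).val * 81 + (A (.inl 1) (.inl 1)).val * 243 + (A (.inl 1) (.inr 0)).val * 729 + (A (.inl 1) (.inr 1)).val * 2187 + (A (.inr 0) (.inl 0)).val * 6561 + (A (.inr 0) (.inl 1)).val * 19683 + (A (.inr 0) (.inr 0)).val * 59049 + (A (.inr 0) (.inr 1)).val * 177147 + (A (.inr 1) (.inl 0)).val * 531441 + (A (.inr 1) (.inl 1)).val * 1594323 + (A (.inr 1) (.inr 0)).val * 4782969 + (A (.inr 1) (.inr 1)).val * 14348907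
theorem dec_enc (A : Mt) : dec (enc A) = A := by
  have := ZMod.val_lt (A (.inl 0) (.inl 0))
  have := ZMod.val_lt (A (.inl 0) (.inl 1))
  have := ZMod.val_lt (A (.inl 0) (.inr 0))
  have := ZMod.val_lt (A (.inl 0) (.inr 1))
  have := ZMod.val_lt (A (.inl 1) (.inl 0))
  have := ZMod.val_lt (A (.inl 1) (.inl 1))
  have := ZMod.val_lt (A (.inl 1) (.inr 0))
  have := ZMod.val_lt (A (.inl 1) (.inr 1))
  have := ZMod.val_lt (A (.inr 0) (.inl 0))
  have := ZMod.val_lt (A (.inr 0) (.inl 1))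
  have := ZMod.val_lt (A (.inr 0) (.inr 0))
  have := ZMod.val_lt (A (.inr 0) (.inr 1))
  have := ZMod.val_lt (A (.inr 1) (.inl 0))
  have := ZMod.val_lt (A (.inr 1) (.inl 1))
  have := ZMod.val_lt (A (.inr 1) (.inr 0))
  have := ZMod.val_lt (A (.inr 1) (.inr 1))
  ext i j
  rw [← ZMod.natCast_zmod_val (A i j)]
  refine congrArg Nat.cast ?_
  rcases i with i | i <;> rcases j with j | j <;> fin_cases i <;> fin_cases j <;>
    simp only [enc, ix, Sum.elim_inl, Sum.elim_inr, Fin.zero_eta, Fin.mk_one, Fin.val_zero, Fin.val_one] <;> norm_num <;> omega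
def evN (f : Nat → Mt) (w : List Nat) : Nat :=
  List.rec (motive := fun _ => Nat) (enc 1) (fun a _ ih => force ih fun c => enc (f a * dec c)) w
theorem dec_evN {G : Type*} [Group G] (ρ : G →* Mt) (xs : List G) (w : List Nat) :
    dec (evN (fun a => ρ (xs.getD a 1)) w) = ρ (ev xs w) := by
  induction w with
  | nil => rw [ev_nil, map_one]; exact dec_enc 1
  | cons a s ih =>
    rw [ev_cons, map_mul, ← ih, ← dec_enc (_ * _), ← force_eq (evN _ s) fun c => enc (ρ (xs.getD a 1) * dec c)]; rfl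
end
end H28.Pr33
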