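import Cfsg.Agent.H28.Tz5

/-! The outer automorphisms of a group of type M(22) centralising a product of two transpositions. -/
namespace H28
open Cfsg H27 H22 H23
noncomputable section
variable {G M N : Type*} [Group G] [Group M] [Group N] {D A : Set G} {σ : G → M} {z : G}

theorem Fib.swap (h : Fib D A σ z) {a b y : G} (ha : a ∈ A) (hb : b ∈ A) (e : σ a = σ b) (hy : y ∈ A) (n : ¬ Commute y a) :
    ∃ u ∈ PP A σ, u * a * u⁻¹ = b := by
  have k := h.hom y hy b hb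
  have k' := h.hom a ha _ k.1
  have q : σ (a * (y * b * y⁻¹) * a⁻¹) = σ y := by
    rw [k'.2, k.2, ← e, ← (h.hom y hy a ha).2, ← (h.hom a ha _ (h.hom y hy a ha).1).2, tt_inv h.tt (h.sub hy),
      tt_braid h.tt (h.sub hy) (h.sub ha) n, ← mul_assoc, ← mul_assoc, tt_sq h.tt (h.sub ha)]
    simp
  refine ⟨_, ⟨y, hy, _, k'.1, q.symm, rfl⟩, ?_⟩
  rw [mul_inv_rev, mul_assoc y, mul_assoc y, ← mul_assoc _ _ y⁻¹, tt_inv h.tt (h.sub k'.1), tt_braid h.tt (h.sub k'.1) (h.sub ha)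
    fun c => n ((h.comm_iff hy ha).1 (q ▸ (h.comm_iff k'.1 ha).2 c)), tt_inv h.tt (h.sub ha), tt_inv h.tt (h.sub hy)]
  simp [mul_assoc, tt_mul_mul h.tt (h.sub ha), tt_mul_mul h.tt (h.sub hy), tt_sq h.tt (h.sub hy), tt_sq h.tt (h.sub ha)]
theorem Fib.mem_iff (h : Fib D A σ z) (nr : NR D 6) {l : List G} (c : Clq A l) (e : l.length = 4) (p : l.prod = z) {x : G}
    (hx : x ∈ l) {y : G} (hy : y ∈ A) : σ y = σ x ↔ y ∈ l := by
  classical
  obtain ⟨l', a, b, q, d⟩ := h.tet x (c.1 x hx)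
  have hx' := (d x (c.1 x hx)).1 rfl
  obtain ⟨c1, c2⟩ := (c.mono h.sub).perm (List.perm_cons_erase hx)
  obtain ⟨c3, c4⟩ := (a.mono h.sub).perm (List.perm_cons_erase hx')
  rw [d y hy, (List.perm_cons_erase hx).mem_iff, (List.perm_cons_erase hx').mem_iff, ((nr.perm3 h.tt (clq_cons'.1 c1).2 (clq_cons'.1 c3).2
    (by rw [List.length_erase_of_mem hx, e]) (by rw [List.length_erase_of_mem hx, List.length_erase_of_mem hx', e, b])
    (mul_left_cancel (c2.symm.trans (p.trans (q.symm.trans c4))))).cons x).mem_iff]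
theorem Clq.mem_cl (hD : IsThreeTranspositionSet D) {l : List G} (c : Clq D l) {y : G} (hy : y ∈ cl l) :
    ∃ s : List G, s.Sublist l ∧ s.prod = y := by
  induction l generalizing y with
  | nil => exact ⟨[], .slnil, by simpa [cl, eq_comm] using hy⟩
  | cons x t ih =>
    obtain ⟨c1, c2⟩ := clq_cons'.1 c
    rcases (mem_cl_cons_sq (tt_sq hD c1.1) (mem_cn.2 c1.2.2)).1 hy with k | k <;> obtain ⟨s, a, b⟩ := ih c2 k
    · exact ⟨s, a.cons x, b⟩
    · exact ⟨x :: s, a.cons_cons x, by rw [List.prod_cons, b, tt_mul_mul hD c1.1]⟩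
theorem RL.map {l : List G} {E : Set M} {π : G → M} (r : RL D l E π) (e : M ≃* N) : RL D l (e '' E) fun x => e (π x) :=
  ⟨fun x hx y hy => by rw [r.mul x hx y hy, map_mul], fun x hx => by rw [map_eq_one_iff e e.injective, r.ker x hx],
    fun m => let ⟨x, a, b⟩ := r.sur (e.symm m); ⟨x, a, by simp [b]⟩, r.fi.trans (fiso_equiv r.fi.clo' e), r.gen⟩
theorem RL.prod {l t : List G} {E : Set M} {π : G → M} (r : RL D l E π) (h : ∀ x ∈ t, x ∈ Cn l) : π t.prod = (t.map π).prod := by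
  induction t with
  | nil => exact (r.ker 1 (one_mem _)).2 (one_mem _)
  | cons x t ih =>
    rw [List.forall_mem_cons] at h
    rw [List.prod_cons, r.mul _ h.1 _ (list_prod_mem h.2), ih h.2, List.map_cons, List.prod_cons]
theorem M24.outer [Finite G] [Finite M] (h : M24 D) {a b : G} (c : Clq D [a, b]) {E : Set M} {π : G → M} (r : RL D [a, b] E π)
    (zM : Subgroup.center M = ⊥) {p q : M} (c' : Clq E [p, q]) {τ : M → N} (f : Fib E (Nb E [p, q]) τ (p * q)) :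
    ∃ s : MulAut M, s * s = 1 ∧ s p = q ∧ (s, 1) ∈ Gd (MonoidHom.id _) (Nb E [p, q]) τ ∧
      ∀ v ∈ PP (Nb E [p, q]) τ, s v = v ∨ s v = v * (p * q) := by
  obtain ⟨l, c1, c2⟩ := r.fi.clq_lift c'
  obtain ⟨p, q, rfl, rfl, rfl⟩ : ∃ x y, l = [x, y] ∧ π x = p ∧ π y = q := by
    match l, c2 with
    | [x, y], c2 => exact ⟨x, y, rfl, by simpa using c2⟩
  have T : Clq D [a, b, p, q] := clq_append.2 ⟨c, c1⟩
  obtain ⟨σ, -, k, -, -, -, -, y, hy, ny⟩ := h.tz2 T rfl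
  have T' : Clq (Dz D [a, b, p, q].prod) [a, b, p, q] := ⟨fun x hx => ⟨T.1 x hx, (T.comm_prod hx).symm⟩, T.2⟩
  have m := fun x hx y hy => k.mem_iff (h.nr.mono (by norm_num)) T' rfl rfl (x := x) hx (y := y) hy
  obtain ⟨u, hu, ua⟩ := k.swap (T'.1 a (by simp)) (T'.1 b (by simp)) ((m _ (by simp) _ (T'.1 a (by simp))).2 (by simp)) hy (ny a (by simp))
  have uu := k.pp_sq hu
  have ub : u * b * u⁻¹ = a := by rw [← ua, ← mul_assoc, ← mul_assoc, uu, mul_assoc, ← mul_inv_rev, uu, one_mul, inv_one, mul_one]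
  have g := k.gd_pp hu
  have up : u * p * u⁻¹ = q := by
    have := (m p (by simp) _ (g p (T'.1 p (by simp))).1).1 ((g p (T'.1 p (by simp))).2.trans (by simp))
    have n := T.nodup
    simp only [List.mem_cons, List.not_mem_nil, or_false, List.nodup_cons, not_or] at this n
    rcases this with e | e | e | e
    · exact absurd (conj_inj (ub.trans e.symm)) n.2.1.1
    · exact absurd (conj_inj (ua.trans e.symm)) n.1.2.1
    · exact absurd (ua.symm.trans (conj_eq_iff_commute.2 (k.pp_fix hu (T'.1 p (by simp)) (T'.1 a (by simp))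
        ((m _ (by simp) _ (T'.1 p (by simp))).2 (by simp)) (conj_eq_iff_commute.1 e).symm).symm)).symm n.1.1
    · exact e
  obtain ⟨-, α, a1, -⟩ := r.aut h.lv.tg.2.1 c (r.gen' (h.rl8.meet h.lv.tg c (h.gts 2 (by norm_num)) (by simp)))
    zM (C := Subgroup.centralizer {[a, b].prod}) fun x hx => h.nr.perm3 h.tt ((fiso_conj h.lv.tg.2.1 x).clq c) c
      (by simp) (by simp) (by rw [map_conj_prod, conj_eq_iff_commute.2 (mem_cent1.1 hx).symm])
  have uc : u ∈ Subgroup.centralizer {[a, b].prod} := mem_cent1.2 (conj_eq_iff_commute.1 (by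
    rw [← map_conj_prod]; simpa [ua, ub] using (c.comm b (by simp) a (by simp)).eq)).symm
  have n1 : ∀ x ∈ [p, q], x ∈ Cn [a, b] := fun x hx => mem_cn.2 (c1.1 x hx).2.2
  have pz : π [a, b, p, q].prod = π p * π q := by
    rw [r.prod (by simpa [n1] using ⟨c.cl_le_cn (mem_cl (by simp)), c.cl_le_cn (mem_cl (by simp))⟩)]
    simp [(r.ker a (c.cl_le_cn (mem_cl (by simp)))).2 (mem_cl (by simp)), (r.ker b (c.cl_le_cn (mem_cl (by simp)))).2 (mem_cl (by simp))]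
  have key : ∀ x ∈ Nb E [π p, π q], ∃ l : List G, (∀ w ∈ l, w ∈ Cn [a, b] ∧ w ∈ Dz D [a, b, p, q].prod ∧ π w ∈ Nb E [π p, π q] ∧
      ∀ y ∈ Dz D [a, b, p, q].prod, σ y = σ w ↔ y ∈ l) ∧ ∀ y ∈ Nb E [π p, π q], τ y = τ x ↔ y ∈ l.map π := fun x hx => by
    obtain ⟨l, b1, b2, b3, b4⟩ := f.tet x hx
    obtain ⟨l, d1, rfl⟩ := (r.fi.nb c1.1).clq_lift b1
    rw [List.length_map] at b2
    have n2 : ∀ w ∈ l, w ∈ Cn [a, b] := fun w hw => mem_cn.2 (d1.1 w hw).1.2.2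
    have d2 := clq_append.2 ⟨c, clq_append.2 ⟨c1, d1⟩⟩
    obtain ⟨s, s1, s2⟩ := c.mem_cl h.tt ((r.ker _ (list_prod_mem (List.forall_mem_append.2 ⟨n1, n2⟩))).1 (by
      rw [r.prod (List.forall_mem_append.2 ⟨n1, n2⟩), List.map_append, List.prod_append, b3]; simpa using f.zz))
    have d3 := d2.sub (s1.append_right _)
    have d4 : (s ++ ([p, q] ++ l)).prod = 1 := by rw [List.prod_append, s2]; exact (clq_append.1 d2).2.mono nb_sub |>.sq h.tt
    obtain rfl : s = [a, b] := s1.eq_of_length_le (not_lt.1 fun t => by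
      have := h.nr _ d3 (by simp at t ⊢; omega) d4
      simp at this)
    rw [← List.append_assoc] at d3 d4
    have d5 : Clq (Dz D [a, b, p, q].prod) l := ⟨fun w hw => ⟨(d1.1 w hw).1.1,
      Commute.list_prod_left _ _ ((clq_append.1 d3).2.1 w hw).2.2⟩, d1.2⟩
    exact ⟨l, fun w hw => ⟨n2 w hw, d5.1 w hw, b1.1 _ (List.mem_map_of_mem hw), fun y =>
      k.mem_iff (h.nr.mono (by norm_num)) d5 b2 (d3.prod_eq h.tt d4).symm hw⟩, b4⟩
  refine ⟨α ⟨u, uc⟩, by rw [← map_mul, show (⟨u, uc⟩ * ⟨u, uc⟩ : Subgroup.centralizer _) = 1 from Subtype.ext uu, map_one],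
    (a1 _ _ (n1 p (by simp))).trans (congrArg π up), fun x hx => ?_, ?_⟩
  · obtain ⟨l, l1, l2⟩ := key x hx
    obtain ⟨w, hw, rfl⟩ := List.mem_map.1 ((l2 x hx).1 rfl)
    obtain ⟨w1, w2, -, w3⟩ := l1 w hw
    have := (w3 _ (g w w2).1).1 ((g w w2).2.trans (by simp))
    rw [MonoidHom.id_apply, a1 _ _ w1]
    exact ⟨(l1 _ this).2.2.1, ((l2 _ (l1 _ this).2.2.1).2 (List.mem_map_of_mem this)).trans (by simp)⟩
  · rintro _ ⟨x, hx, y, hy, e, rfl⟩
    obtain ⟨l, l1, l2⟩ := key x hx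
    obtain ⟨w, hw, rfl⟩ := List.mem_map.1 ((l2 x hx).1 rfl)
    obtain ⟨w', hw', rfl⟩ := List.mem_map.1 ((l2 y hy).1 e.symm)
    have := mul_mem (l1 w hw).1 (l1 w' hw').1
    rw [← r.mul _ (l1 w hw).1 _ (l1 w' hw').1, a1 _ _ this, ← pz, ← r.mul _ this _ (mem_cn.2 fun x hx => T.comm_prod ((List.sublist_append_left _ [p, q]).subset hx))]
    exact (k.pp_com hu ⟨w, (l1 w hw).2.1, w', (l1 w' hw').2.1, ((l1 w' hw').2.2.2 w (l1 w hw).2.1).2 hw, rfl⟩).imp
      (congrArg π) (congrArg π)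
end
end H28
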